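/-
Degrees modulo the index of the non-regular part of an abelian centraliser with small automiser.
-/
import Cfsg.Agent.Lib.SingerFive.CharCases

set_option autoImplicit false
set_option linter.unusedSectionVars false
set_option linter.style.haveILetI false

namespace CfsgLib.MaxSub.SU5Quintic

open Cfsg CfsgLib.CharTheory
open scoped ComplexConjugate

universe u

theorem sum_normSq_eq {H : Type u} [Group H] [Fintype H] (f : H → ℂ) :
    ((∑ h, Complex.normSq (f h) : ℝ) : ℂ) = (Nat.card H : ℂ) * classInner f f := by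
  rw [classInner, ← mul_assoc, mul_inv_cancel₀ (Nat.cast_ne_zero.mpr Nat.card_pos.ne'), one_mul, Complex.ofReal_sum]
  exact Finset.sum_congr rfl fun h _ => (Complex.mul_conj _).symm

/-- The multiplicities of a character of an abelian group. -/
theorem exists_mult {H : Type u} [Group H] [Fintype H] (hc : ∀ a b : H, a * b = b * a) {f : H → ℂ}
    (hf : IsCharacter H f) :
    ∃ m : IrrCharacter H → ℕ, (∀ l : IrrCharacter H, classInner f (l : H → ℂ) = m l) ∧
      (∀ h, f h = ∑ l : IrrCharacter H, (m l : ℂ) * (l : H → ℂ) h) ∧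
      (∑ h, Complex.normSq (f h) : ℝ) = (Nat.card H : ℝ) * ((∑ l, m l ^ 2 : ℕ) : ℝ) ∧
      f 1 = ((∑ l, m l : ℕ) : ℂ) := by
  classical
  choose m hm using fun l : IrrCharacter H => classInner_char_nat hf (isCharacter_of_irr l.2)
  have hexp : ∀ h, f h = ∑ l : IrrCharacter H, (m l : ℂ) * (l : H → ℂ) h := fun h => by
    have h1 := congrFun (eq_sum_irr (isClassFunction_char hf)) h
    simpa [Finset.sum_apply, hm] using h1
  refine ⟨m, hm, hexp, ?_, ?_⟩
  · apply Complex.ofReal_injective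
    rw [sum_normSq_eq, classInner_eq_sum_irr (isClassFunction_char hf)]
    push_cast
    congr 1
    refine Finset.sum_congr rfl fun l _ => ?_
    rw [← classInner_comm f, hm, map_natCast, pow_two]
  · rw [hexp]
    push_cast
    exact Finset.sum_congr rfl fun l _ => by rw [degree_one_of_commutative hc l.2, mul_one]

/-- The integer inequality on one fibre. -/
theorem fibre_ineq {ι : Type*} (s : Finset ι) (m : ι → ℤ) (k : ℕ) (hk : s.card = k) (hk0 : 0 < k) :
    ∃ c E : ℤ, ∑ i ∈ s, m i = k * c + E ∧ 2 * |E| ≤ k ∧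
      |E| * ((k : ℤ) - |E|) ≤ (k : ℤ) * ∑ i ∈ s, m i ^ 2 - (∑ i ∈ s, m i) ^ 2 := by
  set S := ∑ i ∈ s, m i with hS
  obtain ⟨c, E, hcE, hE⟩ : ∃ c E : ℤ, S = k * c + E ∧ 2 * |E| ≤ k := by
    refine ⟨Int.bdiv S k, Int.bmod S k, (Int.bdiv_add_bmod S k).symm, ?_⟩
    · have h1 := Int.le_bmod (x := S) hk0
      have h2 := Int.bmod_le (x := S) hk0
      rcases abs_cases (Int.bmod S k) with ⟨h, -⟩ | ⟨h, -⟩ <;> rw [h] <;> omega
  refine ⟨c, E, hcE, hE, ?_⟩
  have hd : ∑ i ∈ s, (m i - c) = E := by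
    rw [Finset.sum_sub_distrib, Finset.sum_const, hk, ← hS, hcE, nsmul_eq_mul]
    ring
  have hsq : (k : ℤ) * ∑ i ∈ s, m i ^ 2 - S ^ 2 = (k : ℤ) * ∑ i ∈ s, (m i - c) ^ 2 - E ^ 2 := by
    have h1 : ∀ i, (m i - c) ^ 2 = m i ^ 2 - 2 * c * m i + c ^ 2 := fun i => by ring
    simp only [h1, Finset.sum_add_distrib, Finset.sum_sub_distrib, ← Finset.mul_sum, Finset.sum_const, hk,
      nsmul_eq_mul, ← hS, hcE]
    ring
  have hge : |E| ≤ ∑ i ∈ s, (m i - c) ^ 2 := by
    rw [← hd]
    exact (Finset.abs_sum_le_sum_abs _ _).trans (Finset.sum_le_sum fun i _ => by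
      rw [← sq_abs (m i - c)]
      exact Int.le_self_sq _)
  have h3 := mul_le_mul_of_nonneg_left hge (Int.natCast_nonneg k)
  rw [hsq, ← sq_abs E]
  nlinarith

variable {G : Type u} [Group G] [Fintype G]

open Classical in
/-- The squares of a character on the regular elements. -/
theorem sum_regular_le (H : Subgroup G) [Fintype H] (R : Finset H)
    (hR : ∀ h ∈ R, ∀ g : G, g * (h : G) = (h : G) * g → g ∈ H) (hHc : ∀ a b : H, a * b = b * a)
    (hN : Nat.card {g : G | ∀ a ∈ H, g * a * g⁻¹ ∈ H} ≤ 4 * Nat.card H)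
    {χ : G → ℂ} (hχ : IsIrrCharacter G χ) :
    ∑ h ∈ R, Complex.normSq (χ (h : G)) ≤ 4 * (Nat.card H : ℝ) := by
  let f : G × H → G := fun p => p.1 * (p.2 : G) * p.1⁻¹
  let S : Finset (G × H) := Finset.univ ×ˢ R
  let N : Finset G := Finset.univ.filter fun g => ∀ a ∈ H, g * a * g⁻¹ ∈ H
  have hNc : N.card ≤ 4 * Nat.card H := by
    refine le_trans (le_of_eq ?_) hN
    rw [Nat.card_eq_fintype_card, ← Set.toFinset_card]
    exact congrArg Finset.card (Finset.ext fun g => by simp [N])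
  have hfib : ∀ y ∈ S.image f, (S.filter fun p => f p = y).card ≤ N.card := by
    intro y hy
    obtain ⟨⟨x, h⟩, hp, rfl⟩ := Finset.mem_image.mp hy
    have hh : h ∈ R := (Finset.mem_product.mp hp).2
    refine Finset.card_le_card_of_injOn (fun p => x⁻¹ * p.1) (fun p hp' => ?_) fun p hp' p' hp'' he => ?_
    · simp only [Finset.coe_filter, Set.mem_ofPred_eq] at hp'
      simp only [N, Finset.coe_filter, Finset.mem_univ, true_and, Set.mem_ofPred_eq]
      intro a ha
      refine hR h hh _ ?_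
      have hc : (p.2 : G) * a = a * (p.2 : G) := congrArg Subtype.val (hHc p.2 ⟨a, ha⟩)
      have hconj : x⁻¹ * p.1 * (p.2 : G) * (x⁻¹ * p.1)⁻¹ = (h : G) := by
        calc x⁻¹ * p.1 * (p.2 : G) * (x⁻¹ * p.1)⁻¹ = x⁻¹ * (p.1 * (p.2 : G) * p.1⁻¹) * x := by group
          _ = x⁻¹ * (x * (h : G) * x⁻¹) * x := by rw [show p.1 * (p.2 : G) * p.1⁻¹ = x * (h : G) * x⁻¹ from hp'.2]
          _ = (h : G) := by group
      rw [← hconj]
      calc x⁻¹ * p.1 * a * (x⁻¹ * p.1)⁻¹ * (x⁻¹ * p.1 * (p.2 : G) * (x⁻¹ * p.1)⁻¹)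
          = x⁻¹ * p.1 * (a * (p.2 : G)) * (x⁻¹ * p.1)⁻¹ := by group
        _ = x⁻¹ * p.1 * ((p.2 : G) * a) * (x⁻¹ * p.1)⁻¹ := by rw [hc]
        _ = _ := by group
    · simp only [Finset.coe_filter, Set.mem_ofPred_eq] at hp' hp''
      have h1 : p.1 = p'.1 := mul_left_cancel he
      refine Prod.ext h1 (Subtype.ext ?_)
      have h2 : p.1 * (p.2 : G) * p.1⁻¹ = p'.1 * (p'.2 : G) * p'.1⁻¹ := hp'.2.trans hp''.2.symm
      rw [← h1] at h2
      exact mul_left_cancel (mul_right_cancel h2)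
  have hcl : ∀ p : G × H, Complex.normSq (χ (f p)) = Complex.normSq (χ (p.2 : G)) := fun p => by
    rw [show χ (f p) = χ (p.2 : G) from isClassFunction_char (isCharacter_of_irr hχ) _ _]
  have h1 : ∑ p ∈ S, Complex.normSq (χ (f p)) = (Nat.card G : ℝ) * ∑ h ∈ R, Complex.normSq (χ (h : G)) := by
    rw [Finset.sum_congr rfl fun p _ => hcl p, Finset.sum_product]
    simp only [Finset.sum_const, nsmul_eq_mul, Finset.card_univ, Nat.card_eq_fintype_card]
  have h2 : ∑ p ∈ S, Complex.normSq (χ (f p)) ≤ (N.card : ℝ) * ∑ g : G, Complex.normSq (χ g) := by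
    rw [← Finset.sum_fiberwise_of_maps_to (t := S.image f) (fun p hp => Finset.mem_image_of_mem f hp), Finset.mul_sum]
    refine (Finset.sum_le_sum fun y hy => ?_).trans
      (Finset.sum_le_sum_of_subset_of_nonneg (Finset.subset_univ _) fun g _ _ =>
        mul_nonneg (Nat.cast_nonneg _) (Complex.normSq_nonneg _))
    rw [Finset.sum_congr rfl fun p hp => by rw [(Finset.mem_filter.mp hp).2], Finset.sum_const, nsmul_eq_mul]
    exact mul_le_mul_of_nonneg_right (Nat.cast_le.mpr (hfib y hy)) (Complex.normSq_nonneg _)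
  have h3 : (∑ g : G, Complex.normSq (χ g) : ℝ) = Nat.card G := by
    apply Complex.ofReal_injective
    rw [sum_normSq_eq, classInner_irr_self hχ, mul_one]
    simp
  rw [h1, h3, mul_comm] at h2
  have hG : (0 : ℝ) < Nat.card G := Nat.cast_pos.mpr Nat.card_pos
  have h4 := le_of_mul_le_mul_right h2 hG
  exact h4.trans (by exact_mod_cast hNc)

open Classical in
/-- Degrees are small modulo the index of the non-regular part. -/
theorem degree_congruence (H : Subgroup G) [Fintype H] (H₁ : Subgroup H) [Fintype H₁]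
    (hreg : ∀ h : H, h ∉ H₁ → ∀ g : G, g * (h : G) = (h : G) * g → g ∈ H) (hHc : ∀ a b : H, a * b = b * a)
    (hN : Nat.card {g : G | ∀ a ∈ H, g * a * g⁻¹ ∈ H} ≤ 4 * Nat.card H) (hk : 26 ≤ H₁.index)
    (χ : IrrCharacter G) (n : ℕ) (hn : (χ : G → ℂ) 1 = n) :
    ∃ E : ℤ, E.natAbs ≤ 4 ∧ (H₁.index : ℤ) ∣ (n : ℤ) - E := by
  have hχ := isCharacter_of_irr χ.2
  have hfH : IsCharacter H fun h : H => (χ : G → ℂ) h := isCharacter_restrict hχ H
  have hf1 : IsCharacter H₁ fun h : H₁ => (χ : G → ℂ) ((h : H) : G) := isCharacter_restrict hfH H₁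
  have hH1c : ∀ a b : H₁, a * b = b * a := fun a b => Subtype.ext (hHc a b)
  obtain ⟨m, hm, hmexp, hmsq, hm1⟩ := exists_mult hHc hfH
  obtain ⟨M, hM, -, hMsq, -⟩ := exists_mult hH1c hf1
  -- restriction of linear characters
  have hres : ∀ l : IrrCharacter H, IsIrrCharacter H₁ fun h : H₁ => (l : H → ℂ) h := fun l =>
    isIrrCharacter_of_degree_one (isCharacter_restrict (isCharacter_of_irr l.2) H₁)
      (degree_one_of_commutative hHc l.2)
  let r : IrrCharacter H → IrrCharacter H₁ := fun l => ⟨_, hres l⟩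
  have horth : ∀ a b : IrrCharacter H₁, classInner (a : H₁ → ℂ) (b : H₁ → ℂ) = if a = b then 1 else 0 := by
    intro a b
    split_ifs with hab
    · subst hab; exact classInner_irr_self a.2
    · exact classInner_irr_ne a.2 b.2 fun h => hab (Subtype.ext h)
  have hMsum : ∀ μ, (M μ : ℤ) = ∑ l ∈ Finset.univ.filter (fun l => r l = μ), (m l : ℤ) := by
    intro μ
    have h1 := hM μ
    rw [show (fun h : H₁ => (χ : G → ℂ) ((h : H) : G)) = ∑ l : IrrCharacter H, (m l : ℂ) • (r l : H₁ → ℂ) from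
      funext fun h => by rw [hmexp (h : H)]; simp [Finset.sum_apply, r], classInner_sum_left] at h1
    simp only [classInner_smul_left, horth, mul_ite, mul_one, mul_zero, ← Finset.sum_filter] at h1
    exact_mod_cast h1.symm
  have hfib : ∀ μ : IrrCharacter H₁, (Finset.univ.filter fun l => r l = μ).card = H₁.index := by
    intro μ
    have hreg1 : (fun h : H₁ => ∑ l : IrrCharacter H, (l : H → ℂ) (h : H)) =
        fun h : H₁ => if h = 1 then (Nat.card H : ℂ) else 0 := by
      funext h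
      have h1 := sum_irr_apply_mul_degree (G := H) (h : H)
      have hl1 : ∀ l : IrrCharacter H, (l : H → ℂ) 1 = 1 := fun l => degree_one_of_commutative hHc l.2
      simp only [hl1, mul_one] at h1
      rw [h1, Nat.card_eq_fintype_card]
      simp
    have h2 : classInner (fun h : H₁ => ∑ l : IrrCharacter H, (l : H → ℂ) (h : H)) (μ : H₁ → ℂ) =
        ((Finset.univ.filter fun l => r l = μ).card : ℂ) := by
      rw [show (fun h : H₁ => ∑ l : IrrCharacter H, (l : H → ℂ) (h : H)) =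
        ∑ l : IrrCharacter H, (1 : ℂ) • (r l : H₁ → ℂ) from funext fun h => by simp [Finset.sum_apply, r],
        classInner_sum_left]
      simp only [classInner_smul_left, horth, one_mul, Finset.sum_boole]
    rw [hreg1] at h2
    have hne : (Nat.card H₁ : ℂ) ≠ 0 := Nat.cast_ne_zero.mpr Nat.card_pos.ne'
    simp only [classInner, ite_mul, zero_mul, Finset.sum_ite_eq', Finset.mem_univ, if_true,
      degree_one_of_commutative hH1c μ.2, map_one, mul_one, ← H₁.card_mul_index, Nat.cast_mul,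
      inv_mul_cancel_left₀ hne] at h2
    exact_mod_cast h2.symm
  -- the inequality
  have hsumR := sum_regular_le H (Finset.univ.filter fun h : H => h ∉ H₁)
    (fun h hh => hreg h (Finset.mem_filter.mp hh).2) hHc hN χ.2
  have hsplit : (∑ h : H, Complex.normSq ((χ : G → ℂ) h) : ℝ) =
      (∑ h : H₁, Complex.normSq ((χ : G → ℂ) ((h : H) : G))) +
        ∑ h ∈ Finset.univ.filter (fun h : H => h ∉ H₁), Complex.normSq ((χ : G → ℂ) h) := by
    rw [← Finset.sum_filter_add_sum_filter_not Finset.univ (fun h : H => h ∈ H₁)]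
    congr 1
    exact Finset.sum_subtype _ (fun h => by simp) _
  rw [hmsq, hMsq] at hsplit
  have hineq : (Nat.card H : ℤ) * (∑ l, (m l : ℤ) ^ 2) - (Nat.card H₁ : ℤ) * ∑ μ, (M μ : ℤ) ^ 2 ≤
      4 * (Nat.card H : ℤ) := by
    have h1 : (Nat.card H : ℝ) * ((∑ l, m l ^ 2 : ℕ) : ℝ) - (Nat.card H₁ : ℝ) * ((∑ μ, M μ ^ 2 : ℕ) : ℝ) ≤
        4 * (Nat.card H : ℝ) := by linarith
    rw [← @Int.cast_le ℝ]
    push_cast
    push_cast at h1
    exact h1
  set k := H₁.index with hkdef
  have hfw : ∀ g : IrrCharacter H → ℤ, ∑ l, g l = ∑ μ, ∑ l ∈ Finset.univ.filter (fun l => r l = μ), g l :=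
    fun g => (Finset.sum_fiberwise _ r g).symm
  have key : ∑ μ : IrrCharacter H₁, ((k : ℤ) * ∑ l ∈ Finset.univ.filter (fun l => r l = μ), (m l : ℤ) ^ 2 -
      (∑ l ∈ Finset.univ.filter (fun l => r l = μ), (m l : ℤ)) ^ 2) ≤ 4 * k := by
    refine le_of_mul_le_mul_left (a := (Nat.card H₁ : ℤ)) ?_ (by exact_mod_cast Nat.card_pos)
    have hH : (Nat.card H : ℤ) = (Nat.card H₁ : ℤ) * k := by exact_mod_cast (H₁.card_mul_index).symm
    rw [hH, hfw fun l => (m l : ℤ) ^ 2] at hineq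
    have hMs : ∑ μ, (∑ l ∈ Finset.univ.filter (fun l => r l = μ), (m l : ℤ)) ^ 2 = ∑ μ, (M μ : ℤ) ^ 2 :=
      Finset.sum_congr rfl fun μ _ => by rw [hMsum μ]
    rw [Finset.sum_sub_distrib, ← Finset.mul_sum, mul_sub, ← mul_assoc, hMs]
    linarith
  choose c E hcE hE hEi using fun μ : IrrCharacter H₁ =>
    fibre_ineq (Finset.univ.filter fun l => r l = μ) (fun l => (m l : ℤ)) k (hfib μ) (by omega)
  have hT := (Finset.sum_le_sum fun μ _ => hEi μ).trans key
  set T := ∑ μ, |E μ| with hTdef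
  have hk' : (26 : ℤ) ≤ k := by exact_mod_cast hk
  have hT0 : 0 ≤ T := Finset.sum_nonneg fun μ _ => abs_nonneg _
  have hbound : ∀ B : ℤ, (∀ μ, |E μ| ≤ B) → T * ((k : ℤ) - B) ≤ 4 * k := fun B hB => by
    refine le_trans ?_ hT
    rw [hTdef, Finset.sum_mul]
    exact Finset.sum_le_sum fun μ _ => mul_le_mul_of_nonneg_left (by linarith [hB μ]) (abs_nonneg _)
  have hT8 : T ≤ 8 := by
    have h1 : T * (k : ℤ) ≤ 2 * (4 * k) := by
      refine le_trans ?_ (mul_le_mul_of_nonneg_left hT (by norm_num))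
      rw [hTdef, Finset.sum_mul, Finset.mul_sum]
      refine Finset.sum_le_sum fun μ _ => ?_
      have := mul_le_mul_of_nonneg_left (hE μ) (abs_nonneg (E μ))
      linarith
    by_contra h9
    nlinarith
  have hle : ∀ μ, |E μ| ≤ T := fun μ =>
    Finset.single_le_sum (f := fun μ => |E μ|) (fun ν _ => abs_nonneg _) (Finset.mem_univ μ)
  have hT5 : T ≤ 5 := by
    have h1 := hbound 8 fun μ => (hle μ).trans hT8
    by_contra h6
    nlinarith
  have hT4 : T ≤ 4 := by
    have h1 := hbound 5 fun μ => (hle μ).trans hT5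
    by_contra h6
    nlinarith
  refine ⟨∑ μ, E μ, ?_, ⟨∑ μ, c μ, ?_⟩⟩
  · have h1 := (Finset.abs_sum_le_sum_abs E Finset.univ).trans hT4
    rw [Int.abs_eq_natAbs] at h1
    omega
  · have h1 : (n : ℤ) = ∑ l, (m l : ℤ) := by
      have h2 : ((n : ℕ) : ℂ) = ((∑ l, m l : ℕ) : ℂ) := hn.symm.trans hm1
      exact_mod_cast h2
    rw [h1, hfw, Finset.sum_congr rfl fun μ _ => hcE μ, Finset.sum_add_distrib, ← Finset.mul_sum]
    ring

end CfsgLib.MaxSub.SU5Quintic
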