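/-
An abelian subgroup `T` over a central subgroup `Z`, self-centralising modulo `Z`, with automiser of prime
order `e`: sectors of linear characters and induced differences.
-/
import Cfsg.Agent.Lib.SingerFive.CharMain

set_option autoImplicit false
set_option linter.unusedSectionVars false
set_option linter.style.haveILetI false

namespace CfsgLib.MaxSub.SU5Quintic

open Cfsg CfsgLib.CharTheory
open CfsgLib.SingerFive (Lam mu mu_spec norm_two_shape)
open scoped ComplexConjugate

universe u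

variable {G : Type u} [Group G]

/-- `T / Z` is self-centralising in `G / Z`, with automiser generated by `w` of prime order `e`. -/
structure CZ (Z T : Subgroup G) (w : G) (e : ℕ) : Prop where
  prime : e.Prime
  le : Z ≤ T
  central : ∀ z ∈ Z, ∀ g : G, g * z = z * g
  comm : ∀ a ∈ T, ∀ b ∈ T, a * b = b * a
  cc : ∀ a ∈ T, a ∉ Z → ∀ x : G, x * a * x⁻¹ * a⁻¹ ∈ Z → x ∈ T
  conj_mem : ∀ a ∈ T, w * a * w⁻¹ ∈ T
  fus : ∀ g : G, ∀ a ∈ T, a ∉ Z → g * a * g⁻¹ ∈ T → ∃ i < e, ∃ s ∈ T, g = s * w ^ i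
  out : ∀ i, 0 < i → i < e → w ^ i ∉ T
  big : e * (e + 3) + 1 ≤ Z.relIndex T
  modOne : e ∣ Z.relIndex T - 1

namespace CZ

variable {Z T : Subgroup G} {w : G} {e : ℕ}

theorem two_le (D : CZ Z T w e) : 2 ≤ e := D.prime.two_le

theorem pow_conj_mem (D : CZ Z T w e) (i : ℕ) : ∀ a ∈ T, w ^ i * a * (w ^ i)⁻¹ ∈ T := by
  induction i with
  | zero => intro a ha; simpa using ha
  | succ i ih =>
    intro a ha
    have := D.conj_mem _ (ih a ha)
    simpa [pow_succ', mul_assoc] using this

/-- The action of the powers of `w` on `T`. -/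
def act (D : CZ Z T w e) (i : ℕ) : T →* T where
  toFun t := ⟨w ^ i * t * (w ^ i)⁻¹, D.pow_conj_mem i t t.2⟩
  map_one' := Subtype.ext (by simp)
  map_mul' a b := Subtype.ext (by simp [mul_assoc])

theorem act_apply (D : CZ Z T w e) (i : ℕ) (t : T) : (D.act i t : G) = w ^ i * t * (w ^ i)⁻¹ := rfl

theorem act_add (D : CZ Z T w e) (i j : ℕ) (t : T) : D.act (i + j) t = D.act i (D.act j t) :=
  Subtype.ext (by simp [act, pow_add, mul_assoc])

theorem act_central (D : CZ Z T w e) (i : ℕ) {t : T} (ht : (t : G) ∈ Z) : D.act i t = t := by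
  apply Subtype.ext
  rw [D.act_apply, D.central _ ht (w ^ i), mul_inv_cancel_right]

theorem act_injective (D : CZ Z T w e) (i : ℕ) : Function.Injective (D.act i) := fun a b hab => by
  have h' : w ^ i * (a : G) * (w ^ i)⁻¹ = w ^ i * b * (w ^ i)⁻¹ := congrArg Subtype.val hab
  exact Subtype.ext (mul_left_cancel (mul_right_cancel h'))

theorem act_surjective [Finite G] (D : CZ Z T w e) (i : ℕ) : Function.Surjective (D.act i) :=
  Finite.injective_iff_surjective.mp (D.act_injective i)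

theorem exists_notMem (D : CZ Z T w e) : ∃ a : T, (a : G) ∉ Z := by
  by_contra hc
  push Not at hc
  have h1 : Z.relIndex T = 1 := Subgroup.relIndex_eq_one.mpr fun a ha => hc ⟨a, ha⟩
  have h2 := D.big
  rw [h1] at h2
  have := D.two_le
  nlinarith

theorem pow_e_mem (D : CZ Z T w e) : w ^ e ∈ T := by
  obtain ⟨⟨a, ha⟩, ha1⟩ := D.exists_notMem
  obtain ⟨i, hi, s, hs, hg⟩ := D.fus (w ^ e) a ha ha1 (D.pow_conj_mem e a ha)
  have h1 : w ^ (e - i) = s := by
    have h2 : w ^ (e - i) * w ^ i = s * w ^ i := by rw [← pow_add, Nat.sub_add_cancel hi.le, hg]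
    exact mul_right_cancel h2
  rcases Nat.eq_zero_or_pos i with rfl | hi0
  · simp only [Nat.sub_zero] at h1
    exact h1 ▸ hs
  · exact absurd (h1 ▸ hs) (D.out (e - i) (by omega) (by omega))

theorem act_period (D : CZ Z T w e) (t : T) : D.act e t = t := by
  apply Subtype.ext
  rw [D.act_apply, D.comm _ D.pow_e_mem _ t.2, mul_inv_cancel_right]

variable [Finite G]

theorem lam_one (D : CZ Z T w e) (l : Lam T) : (l : T → ℂ) 1 = 1 :=
  degree_one_of_commutative (fun a b => Subtype.ext (D.comm a a.2 b b.2)) l.2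

theorem lam_hom (D : CZ Z T w e) (l : Lam T) : ∃ φ : T →* ℂˣ, (l : T → ℂ) = fun t => (φ t : ℂ) :=
  exists_hom_of_degree_one (isCharacter_of_irr l.2) (D.lam_one l)

theorem lam_mul (D : CZ Z T w e) (l : Lam T) (a b : T) :
    (l : T → ℂ) (a * b) = (l : T → ℂ) a * (l : T → ℂ) b := by
  obtain ⟨φ, hφ⟩ := D.lam_hom l
  simp [hφ]

/-- The twist of a linear character by a power of `w`. -/
noncomputable def tw (D : CZ Z T w e) (i : ℕ) (l : Lam T) : Lam T :=
  ⟨fun t => (l : T → ℂ) (D.act i t), isIrrCharacter_comp_surjective l.2 _ (D.act_surjective i)⟩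

theorem tw_apply (D : CZ Z T w e) (i : ℕ) (l : Lam T) (t : T) :
    (D.tw i l : T → ℂ) t = (l : T → ℂ) (D.act i t) := rfl

theorem tw_zero (D : CZ Z T w e) (l : Lam T) : D.tw 0 l = l := by
  apply Subtype.ext
  funext t
  rw [D.tw_apply]
  exact congrArg _ (Subtype.ext (by simp [D.act_apply]))

theorem tw_tw (D : CZ Z T w e) (i j : ℕ) (l : Lam T) : D.tw i (D.tw j l) = D.tw (j + i) l := by
  apply Subtype.ext
  funext t
  simp [D.tw_apply, D.act_add]

theorem tw_period (D : CZ Z T w e) (i : ℕ) (l : Lam T) : D.tw (i + e) l = D.tw i l := by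
  apply Subtype.ext
  funext t
  rw [D.tw_apply, D.tw_apply, D.act_add, D.act_period]

theorem tw_injective (D : CZ Z T w e) (i : ℕ) : Function.Injective (D.tw i) := fun a b hab => by
  apply Subtype.ext
  funext t
  obtain ⟨s, rfl⟩ := D.act_surjective i t
  exact congrFun (congrArg Subtype.val hab) s

theorem tw_mul (D : CZ Z T w e) {l : Lam T} {k : ℕ} (hk : D.tw k l = l) (n : ℕ) : D.tw (n * k) l = l := by
  induction n with
  | zero => rw [Nat.zero_mul, D.tw_zero]
  | succ n ih => rw [Nat.succ_mul, ← D.tw_tw, ih, hk]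

/-- The character is moved by `w`. -/
def Good (D : CZ Z T w e) (l : Lam T) : Prop := D.tw 1 l ≠ l

theorem tw_ne (D : CZ Z T w e) {k : ℕ} (hk : 0 < k) (hke : k < e) {l : Lam T} (hl : D.Good l) :
    D.tw k l ≠ l := by
  intro hfix
  haveI : Fact e.Prime := ⟨D.prime⟩
  have hk0 : (k : ZMod e) ≠ 0 := by
    rw [Ne, ZMod.natCast_eq_zero_iff]
    exact Nat.not_dvd_of_pos_of_lt hk hke
  obtain ⟨n, hn⟩ : ∃ n : ℕ, n * k % e = 1 := by
    refine ⟨((k : ZMod e)⁻¹).val, ?_⟩
    rw [← ZMod.val_natCast, Nat.cast_mul, ZMod.natCast_rightInverse, inv_mul_cancel₀ hk0, ZMod.val_one]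
  apply hl
  have h1 : ∀ r q : ℕ, D.tw (r + q * e) l = D.tw r l := by
    intro r q
    induction q with
    | zero => simp
    | succ q ih => rw [Nat.succ_mul, ← Nat.add_assoc, D.tw_period, ih]
  calc D.tw 1 l = D.tw (1 + n * k / e * e) l := (h1 _ _).symm
    _ = D.tw (n * k) l := by
      congr 1
      have := Nat.div_add_mod (n * k) e
      rw [hn, Nat.mul_comm] at this
      omega
    _ = l := D.tw_mul hfix n

theorem tw_inj_index (D : CZ Z T w e) {l : Lam T} (hl : D.Good l) {i j : ℕ}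
    (hi : i < e) (hj : j < e) (hij0 : D.tw i l = D.tw j l) : i = j := by
  by_contra hne
  wlog hij : i < j generalizing i j
  · exact this hj hi hij0.symm (Ne.symm hne) (by omega)
  have h' : D.tw i (D.tw (j - i) l) = D.tw i l := by
    rw [D.tw_tw, Nat.sub_add_cancel hij.le, hij0]
  exact D.tw_ne (by omega) (by omega) hl (D.tw_injective i h')

theorem tw_fixed (D : CZ Z T w e) {l : Lam T} (hl : ¬ D.Good l) (i : ℕ) : D.tw i l = l := by
  simpa using D.tw_mul (not_not.mp hl) i

/-- `l` and `l'` lie in the same orbit. -/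
def Rel (D : CZ Z T w e) (l l' : Lam T) : Prop := ∃ i < e, D.tw i l = l'

theorem rel_refl (D : CZ Z T w e) (l : Lam T) : D.Rel l l :=
  ⟨0, by have := D.two_le; omega, D.tw_zero l⟩

theorem rel_of_tw (D : CZ Z T w e) : ∀ (i : ℕ) {l l' : Lam T}, D.tw i l = l' → D.Rel l l' := by
  intro i
  induction i using Nat.strong_induction_on with
  | _ i ih =>
    intro l l' hl
    by_cases hi : i < e
    · exact ⟨i, hi, hl⟩
    · have hp := D.two_le
      refine ih (i - e) (by omega) ?_
      rw [← D.tw_period, Nat.sub_add_cancel (by omega : e ≤ i)]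
      exact hl

theorem rel_symm (D : CZ Z T w e) {l l' : Lam T} (hr : D.Rel l l') : D.Rel l' l := by
  obtain ⟨i, hi, rfl⟩ := hr
  refine D.rel_of_tw (e - i) ?_
  rw [D.tw_tw, Nat.add_sub_cancel' hi.le]
  have := D.tw_period 0 l
  rwa [Nat.zero_add, D.tw_zero] at this

theorem rel_trans (D : CZ Z T w e) {a b c : Lam T} (hr : D.Rel a b) (hr' : D.Rel b c) : D.Rel a c := by
  obtain ⟨i, -, rfl⟩ := hr
  obtain ⟨j, -, rfl⟩ := hr'
  exact D.rel_of_tw (i + j) (D.tw_tw j i a).symm

theorem rel_good (D : CZ Z T w e) {l l' : Lam T} (hr : D.Rel l l') (hl : D.Good l) : D.Good l' := by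
  obtain ⟨i, -, rfl⟩ := hr
  intro hf
  rw [D.tw_tw, Nat.add_comm, ← D.tw_tw] at hf
  exact hl (D.tw_injective i hf)

/-- Two characters agree on `Z`. -/
def Same (_D : CZ Z T w e) (l l' : Lam T) : Prop :=
  ∀ t : T, (t : G) ∈ Z → (l : T → ℂ) t = (l' : T → ℂ) t

theorem same_refl (D : CZ Z T w e) (l : Lam T) : D.Same l l := fun _ _ => rfl

theorem same_symm (D : CZ Z T w e) {l l' : Lam T} (hs : D.Same l l') : D.Same l' l :=
  fun t ht => (hs t ht).symm

theorem same_trans (D : CZ Z T w e) {a b c : Lam T} (hs : D.Same a b) (hs' : D.Same b c) : D.Same a c :=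
  fun t ht => (hs t ht).trans (hs' t ht)

theorem same_tw (D : CZ Z T w e) (i : ℕ) (l : Lam T) : D.Same (D.tw i l) l := fun t ht => by
  rw [D.tw_apply, D.act_central i ht]

theorem same_rel (D : CZ Z T w e) {l l' : Lam T} (hr : D.Rel l l') : D.Same l' l := by
  obtain ⟨i, -, rfl⟩ := hr
  exact D.same_tw i l

open Classical in
theorem sum_tw_good (D : CZ Z T w e) {l : Lam T} (hl : D.Good l) (l' : Lam T) :
    ∑ i ∈ Finset.range e, (if D.tw i l = l' then 1 else 0 : ℂ) = if D.Rel l l' then 1 else 0 := by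
  by_cases hr : D.Rel l l'
  · obtain ⟨i, hi, hl'⟩ := hr
    rw [if_pos ⟨i, hi, hl'⟩, Finset.sum_eq_single i]
    · rw [if_pos hl']
    · intro j hj hne
      rw [if_neg fun hh => hne (D.tw_inj_index hl (Finset.mem_range.mp hj) hi (hh.trans hl'.symm))]
    · exact fun hh => absurd (Finset.mem_range.mpr hi) hh
  · rw [if_neg hr]
    exact Finset.sum_eq_zero fun i hi => if_neg fun hh => hr ⟨i, Finset.mem_range.mp hi, hh⟩

open Classical in
theorem sum_tw_fixed (D : CZ Z T w e) {l : Lam T} (hl : ¬ D.Good l) (l' : Lam T) :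
    ∑ i ∈ Finset.range e, (if D.tw i l = l' then 1 else 0 : ℂ) = if l = l' then (e : ℂ) else 0 := by
  simp only [D.tw_fixed hl, Finset.sum_const, Finset.card_range]
  split_ifs <;> simp

theorem card_rel (D : CZ Z T w e) [Fintype T] {l : Lam T} (hl : D.Good l) :
    Nat.card {η : Lam T // D.Rel l η} = e := by
  classical
  refine ((Nat.card_fin e).symm.trans (Nat.card_eq_of_bijective (fun i : Fin e => (⟨D.tw i l, i, i.2, rfl⟩ : {η : Lam T // D.Rel l η}))
    ⟨fun i j hij => Fin.ext (D.tw_inj_index hl i.2 j.2 (congrArg Subtype.val hij)), ?_⟩)).symm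
  rintro ⟨η, i, hi, rfl⟩
  exact ⟨⟨i, hi⟩, rfl⟩

theorem card_lam (D : CZ Z T w e) [Fintype T] : Fintype.card (Lam T) = Nat.card T := by
  have h1 := sum_irr_degree_sq (G := T)
  simp only [D.lam_one, one_pow, Finset.sum_const, Finset.card_univ, nsmul_eq_mul, mul_one] at h1
  exact_mod_cast h1

open Classical in
theorem sum_lam_apply (D : CZ Z T w e) [Fintype T] (t : T) :
    ∑ l : Lam T, (l : T → ℂ) t = if t = 1 then (Nat.card T : ℂ) else 0 := by
  classical
  split_ifs with ht
  · subst ht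
    simp [D.lam_one, D.card_lam]
  · have h1 := sum_irr_apply_mul_degree (G := T) t
    simpa [D.lam_one, ht] using h1

theorem relIndex_mul (_D : CZ Z T w e) : Nat.card (Z.subgroupOf T) * Z.relIndex T = Nat.card T :=
  (Subgroup.card_mul_index _)

/-- Each sector has as many members as `T / Z`. -/
theorem card_same (D : CZ Z T w e) [Fintype T] (l₀ : Lam T) :
    Nat.card {l : Lam T // D.Same l l₀} = Z.relIndex T := by
  classical
  let S : Subgroup T := Z.subgroupOf T
  have key : ∀ l : Lam T, ∑ x : S, (l : T → ℂ) x * (l₀ : T → ℂ) ((x : T)⁻¹) =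
      if D.Same l l₀ then (Nat.card S : ℂ) else 0 := by
    intro l
    obtain ⟨φ, hφ⟩ := D.lam_hom l
    obtain ⟨φ₀, hφ₀⟩ := D.lam_hom l₀
    split_ifs with hs
    · rw [Nat.card_eq_fintype_card, Finset.sum_congr rfl fun x _ => ?_, Finset.sum_const, Finset.card_univ,
        nsmul_eq_mul, mul_one]
      rw [hs x x.2, hφ₀]
      simp
    · simp only [Same] at hs
      push Not at hs
      obtain ⟨s, hsZ, hne⟩ := hs
      have hsS : s ∈ S := hsZ
      have h1 : ((l : T → ℂ) s * (l₀ : T → ℂ) s⁻¹) *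
          (∑ x : S, (l : T → ℂ) x * (l₀ : T → ℂ) ((x : T)⁻¹)) =
          ∑ x : S, (l : T → ℂ) x * (l₀ : T → ℂ) ((x : T)⁻¹) := by
        rw [Finset.mul_sum]
        refine Fintype.sum_equiv (Equiv.mulLeft ⟨s, hsS⟩) _ _ fun x => ?_
        show _ = (l : T → ℂ) (s * x) * (l₀ : T → ℂ) ((s * x)⁻¹)
        simp [hφ, hφ₀]
        ring
      by_contra h0
      refine hne ?_
      have h2 := mul_right_cancel₀ h0 (h1.trans (one_mul _).symm)
      simp only [hφ, hφ₀, map_inv, Units.val_inv_eq_inv_val] at h2 ⊢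
      exact (mul_inv_eq_one₀ (Units.ne_zero _)).mp h2
  have h1 : ∑ l : Lam T, ∑ x : S, (l : T → ℂ) x * (l₀ : T → ℂ) ((x : T)⁻¹) = (Nat.card T : ℂ) := by
    rw [Finset.sum_comm, Finset.sum_eq_single (1 : S)]
    · simp [D.lam_one, D.card_lam]
    · intro x _ hx
      rw [← Finset.sum_mul, D.sum_lam_apply, if_neg fun h0 : (x : T) = 1 => hx (Subtype.ext h0), zero_mul]
    · simp
  rw [Finset.sum_congr rfl fun l _ => key l, ← Finset.sum_filter, Finset.sum_const, nsmul_eq_mul,
    ← D.relIndex_mul] at h1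
  rw [Nat.card_eq_fintype_card, Fintype.card_subtype]
  have h2 : (Finset.univ.filter fun l => D.Same l l₀).card * Nat.card S = Nat.card S * Z.relIndex T := by
    exact_mod_cast h1
  rw [Nat.mul_comm] at h2
  exact Nat.eq_of_mul_eq_mul_left Nat.card_pos h2

/-- The map `t ↦ t⁻¹ (w t w⁻¹)` has kernel `Z`. -/
theorem act_fixed_iff (D : CZ Z T w e) {t : T} (ht : D.act 1 t = t) : (t : G) ∈ Z := by
  by_contra htZ
  refine D.out 1 one_pos (by have := D.two_le; omega) ?_
  rw [pow_one]
  refine D.cc t t.2 htZ w ?_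
  have h1 := congrArg Subtype.val ht
  rw [D.act_apply, pow_one] at h1
  rw [h1, mul_inv_cancel]
  exact Z.one_mem

/-- In each sector exactly one character is fixed. -/
theorem exists_base (D : CZ Z T w e) [Fintype T] (l : Lam T) :
    ∃ b : Lam T, D.Same b l ∧ ¬ D.Good b ∧ ∀ b' : Lam T, D.Same b' l → ¬ D.Good b' → b' = b := by
  classical
  have hex : ∃ b : Lam T, D.Same b l ∧ ¬ D.Good b := by
    let f : {x : Lam T // D.Same x l} → {x : Lam T // D.Same x l} := fun x =>
      ⟨D.tw 1 x.1, D.same_trans (D.same_tw 1 x.1) x.2⟩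
    have hbij : Function.Bijective f := Finite.injective_iff_bijective.mp fun x y hxy =>
      Subtype.ext (D.tw_injective 1 (congrArg Subtype.val hxy))
    let σ : Equiv.Perm {x : Lam T // D.Same x l} := Equiv.ofBijective f hbij
    have hiter : ∀ (k : ℕ) x, ((σ ^ k) x).1 = D.tw k x.1 := by
      intro k
      induction k with
      | zero => intro x; rw [pow_zero, Equiv.Perm.one_apply, D.tw_zero]
      | succ k ih =>
        intro x
        rw [pow_succ', Equiv.Perm.mul_apply, ← D.tw_tw 1 k, ← ih x]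
        rfl
    have hσ : σ ^ e ^ 1 = 1 := Equiv.ext fun x => Subtype.ext (by
      rw [pow_one, hiter, Equiv.Perm.one_apply]
      have := D.tw_period 0 x.1
      rwa [Nat.zero_add, D.tw_zero] at this)
    haveI : Fact e.Prime := ⟨D.prime⟩
    by_contra hno
    push Not at hno
    have hfix : σ.supportᶜ = ∅ := by
      ext x
      simp only [Finset.mem_compl, Equiv.Perm.mem_support, not_not, Finset.notMem_empty, iff_false]
      exact fun hx => hno x.1 x.2 (congrArg Subtype.val hx)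
    have h1 := Equiv.Perm.card_compl_support_modEq (p := e) (n := 1) hσ
    rw [hfix, Finset.card_empty, ← Nat.card_eq_fintype_card, D.card_same] at h1
    have h2 := D.modOne
    have h3 : e ∣ Z.relIndex T := Nat.modEq_zero_iff_dvd.mp h1.symm
    have h4 := D.big
    have h5 : e ∣ 1 := by
      have := Nat.dvd_sub h3 h2
      rwa [Nat.sub_sub_self (by omega : 1 ≤ Z.relIndex T)] at this
    exact D.prime.one_lt.ne' (Nat.dvd_one.mp h5)
  obtain ⟨b, hb, hb'⟩ := hex
  refine ⟨b, hb, hb', fun b' hs hf => ?_⟩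
  let φ : T →* T :=
    { toFun := fun t => t⁻¹ * D.act 1 t
      map_one' := by simp
      map_mul' := fun a c => by
        have hc : ∀ x y : T, x * y = y * x := fun x y => Subtype.ext (D.comm x x.2 y y.2)
        rw [map_mul, mul_inv_rev, hc c⁻¹ a⁻¹]
        simp only [mul_assoc]
        congr 1
        rw [← mul_assoc, hc c⁻¹ _, mul_assoc] }
  have hker : φ.ker = Z.subgroupOf T := by
    ext t
    refine ⟨fun ht => D.act_fixed_iff (inv_mul_eq_one.mp ht).symm, fun ht => ?_⟩
    show t⁻¹ * D.act 1 t = 1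
    rw [D.act_central 1 ht, inv_mul_cancel]
  have hdis : ∀ t : T, ((φ t : T) : G) ∈ Z → φ t = 1 := by
    intro t ht
    by_cases htZ : (t : G) ∈ Z
    · exact MonoidHom.mem_ker.mp (hker ▸ htZ)
    · refine absurd ?_ (D.out 1 one_pos (by have := D.two_le; omega))
      refine (pow_one w).symm ▸ D.cc t t.2 htZ w ?_
      have h1 : ((φ t : T) : G) = (t : G)⁻¹ * (w * t * w⁻¹) := by
        show ((t⁻¹ * D.act 1 t : T) : G) = _
        simp [D.act_apply]
      have h2 : w * t * w⁻¹ * (t : G)⁻¹ = ((φ t : T) : G) := by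
        rw [h1, D.comm _ (D.conj_mem t t.2) _ (T.inv_mem t.2)]
      rwa [h2]
  let S : Subgroup T := Z.subgroupOf T
  let ι : S × φ.range → T := fun p => (p.1 : T) * p.2
  have hinj : Function.Injective ι := by
    rintro ⟨s, r⟩ ⟨s', r'⟩ hp
    have hp' : (s : T) * r = s' * r' := hp
    have h1 : ((s' : T)⁻¹ * s : T) = r' * (r : T)⁻¹ := by
      rw [eq_mul_inv_iff_mul_eq, mul_assoc, hp', inv_mul_cancel_left]
    obtain ⟨t, ht⟩ := φ.range.mul_mem r'.2 (φ.range.inv_mem r.2)
    have h2 : ((s' : T)⁻¹ * s : T) = 1 := by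
      rw [h1, ← ht]
      refine hdis t ?_
      rw [ht, ← h1]
      exact Z.mul_mem (Z.inv_mem s'.2) s.2
    have h3 : s = s' := Subtype.ext (inv_mul_eq_one.mp h2).symm
    subst h3
    exact Prod.ext rfl (Subtype.ext (mul_left_cancel hp'))
  have hsurj : Function.Surjective ι := by
    refine ((Fintype.bijective_iff_injective_and_card ι).mpr ⟨hinj, ?_⟩).2
    rw [Fintype.card_prod, ← Nat.card_eq_fintype_card, ← Nat.card_eq_fintype_card,
      ← Nat.card_eq_fintype_card, ← Subgroup.index_ker, hker]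
    exact D.relIndex_mul
  have hone : ∀ c : Lam T, ¬ D.Good c → ∀ t, (c : T → ℂ) (φ t) = 1 := by
    intro c hc t
    obtain ⟨ψ, hψ⟩ := D.lam_hom c
    have h1 := congrFun (congrArg Subtype.val (not_not.mp hc)) t
    rw [D.tw_apply, hψ] at h1
    show (c : T → ℂ) (t⁻¹ * D.act 1 t) = 1
    simp [hψ, h1]
  apply Subtype.ext
  funext x
  obtain ⟨⟨s, r⟩, rfl⟩ := hsurj x
  obtain ⟨t, ht⟩ := r.2
  show (b' : T → ℂ) ((s : T) * r) = (b : T → ℂ) ((s : T) * r)
  rw [D.lam_mul, D.lam_mul, ← ht, hone b' hf, hone b hb', hs s s.2, hb s s.2]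

end CZ

end CfsgLib.MaxSub.SU5Quintic
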