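/-
Multiplicities on `T` of an irreducible character: balanced, or one exceptional orbit with partners.
-/
import Cfsg.Agent.Lib.MaxSub.SU5Quintic.CentralCC

set_option autoImplicit false
set_option linter.unusedSectionVars false
set_option linter.style.haveILetI false

namespace CfsgLib.MaxSub.SU5Quintic

open Cfsg CfsgLib.CharTheory
open CfsgLib.SingerFive (Lam mu mu_spec norm_two_shape)
open scoped ComplexConjugate

universe u

namespace CZ

variable {G : Type u} [Group G] [Fintype G] {Z T : Subgroup G} {w : G} {e : ℕ}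

/-- The value on `T` of a function induced from `T` that vanishes on `Z`. -/
theorem indFun_apply (D : CZ Z T w e) (a : T → ℂ) (ha : ∀ t : T, (t : G) ∈ Z → a t = 0) (t : T) :
    indFun T a (t : G) = ∑ i ∈ Finset.range e, a (D.act i t) := by
  classical
  by_cases ht : (t : G) ∈ Z
  · have h1 : ∀ i, a (D.act i t) = 0 := fun i => by rw [D.act_central i ht]; exact ha t ht
    have h2 : ∀ x : G, x⁻¹ * t * x = t := fun x => by
      rw [mul_assoc, ← D.central _ ht x, inv_mul_cancel_left]
    simp [indFun, h1, h2, extendByZero_coe, ha t ht]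
  have : Fintype T := Fintype.ofFinite T
  let emb : T × Fin e → G := fun p => ((p.1 : G) * w ^ (p.2 : ℕ))⁻¹
  have hemb : Function.Injective emb := by
    intro p p' hp
    have h1 : (p.1 : G) * w ^ (p.2 : ℕ) = p'.1 * w ^ (p'.2 : ℕ) := inv_injective hp
    have key : ∀ (s s' : T) (i j : ℕ), i < j → j < e → (s : G) * w ^ i ≠ s' * w ^ j := by
      intro s s' i j hij hje hh
      refine D.out (j - i) (by omega) (by omega) ?_
      have hw : w ^ j = w ^ (j - i) * w ^ i := by rw [← pow_add, Nat.sub_add_cancel hij.le]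
      rw [hw, ← mul_assoc] at hh
      have : (s : G) = s' * w ^ (j - i) := mul_right_cancel hh
      rw [show w ^ (j - i) = (s' : G)⁻¹ * s by rw [this, inv_mul_cancel_left]]
      exact T.mul_mem (T.inv_mem s'.2) s.2
    have hij : (p.2 : ℕ) = p'.2 := by
      by_contra hne
      rcases Nat.lt_or_ge (p.2 : ℕ) p'.2 with hlt | hge
      · exact key _ _ _ _ hlt p'.2.2 h1
      · exact key _ _ _ _ (by omega) p.2.2 h1.symm
    refine Prod.ext (Subtype.ext ?_) (Fin.ext hij)
    rw [hij] at h1
    exact mul_right_cancel h1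
  have hval : ∀ p : T × Fin e, extendByZero T a ((emb p)⁻¹ * t * emb p) = a (D.act p.2 t) := by
    intro p
    have h1 : (emb p)⁻¹ * t * emb p = (D.act p.2 t : G) := by
      have hc := D.comm p.1 p.1.2 _ (D.act p.2 t).2
      simp only [emb, inv_inv, mul_inv_rev, D.act_apply] at hc ⊢
      calc (p.1 : G) * w ^ (p.2 : ℕ) * t * ((w ^ (p.2 : ℕ))⁻¹ * (p.1 : G)⁻¹)
          = (p.1 : G) * (w ^ (p.2 : ℕ) * t * (w ^ (p.2 : ℕ))⁻¹) * (p.1 : G)⁻¹ := by group
        _ = _ := by rw [hc, mul_inv_cancel_right]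
    rw [h1, extendByZero_coe]
  have hsum : ∑ x : G, extendByZero T a (x⁻¹ * t * x) = ∑ p : T × Fin e, a (D.act p.2 t) := by
    rw [← Finset.sum_congr rfl fun p _ => hval p,
      ← Finset.sum_image (f := fun x => extendByZero T a (x⁻¹ * t * x)) fun p _ p' _ hp => hemb hp]
    symm
    refine Finset.sum_subset (Finset.subset_univ _) fun x _ hx => ?_
    refine extendByZero_of_not_mem _ _ fun hmem => hx ?_
    obtain ⟨i, hi, s, hs, hg⟩ := D.fus x⁻¹ t t.2 ht (by simpa using hmem)
    exact Finset.mem_image.mpr ⟨(⟨s, hs⟩, ⟨i, hi⟩), Finset.mem_univ _, by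
      show ((s : G) * w ^ i)⁻¹ = x
      rw [← hg, inv_inv]⟩
  rw [indFun, hsum, Fintype.sum_prod_type]
  simp only [Finset.sum_const, Finset.card_univ, nsmul_eq_mul]
  rw [← mul_assoc, Nat.card_eq_fintype_card, inv_mul_cancel₀ (by simp), one_mul,
    Fin.sum_univ_eq_sum_range (fun i => a (D.act i t))]

/-- The difference of two linear characters, induced. -/
noncomputable def alpha (_D : CZ Z T w e) (l l' : Lam T) : G → ℂ :=
  indFun T ((l : T → ℂ) - (l' : T → ℂ))

theorem isGen_alpha (D : CZ Z T w e) (l l' : Lam T) : IsGeneralizedCharacter G (D.alpha l l') :=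
  isGenChar_indFun _ ⟨_, _, isCharacter_of_irr l.2, isCharacter_of_irr l'.2, rfl⟩

theorem alpha_one (D : CZ Z T w e) (l l' : Lam T) : D.alpha l l' 1 = 0 := by
  simp [alpha, indFun_apply_one, D.lam_one]

theorem alpha_apply (D : CZ Z T w e) {l l' : Lam T} (hs : D.Same l l') (t : T) :
    D.alpha l l' (t : G) = ∑ i ∈ Finset.range e, ((D.tw i l : T → ℂ) t - (D.tw i l' : T → ℂ) t) :=
  D.indFun_apply _ (fun s hsZ => by simp [hs s hsZ]) t

open Classical in
theorem lam_inner [Fintype T] (a b : Lam T) :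
    classInner (a : T → ℂ) (b : T → ℂ) = if a = b then 1 else 0 := by
  rw [classInner_irr a.2 b.2]
  simp [Subtype.ext_iff]

open Classical in
theorem alpha_res_inner [Fintype T] (D : CZ Z T w e) {l l' : Lam T} (hs : D.Same l l') (η : Lam T) :
    classInner (fun t : T => D.alpha l l' t) (η : T → ℂ) =
      (∑ i ∈ Finset.range e, (if D.tw i l = η then 1 else 0 : ℂ)) -
        ∑ i ∈ Finset.range e, (if D.tw i l' = η then 1 else 0 : ℂ) := by
  have h1 : (fun t : T => D.alpha l l' t) =
      ∑ i ∈ Finset.range e, ((D.tw i l : T → ℂ) - (D.tw i l' : T → ℂ)) := by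
    funext t
    rw [D.alpha_apply hs, Finset.sum_apply]
    rfl
  rw [h1, classInner_sum_left, ← Finset.sum_sub_distrib]
  exact Finset.sum_congr rfl fun i _ => by rw [classInner_sub_left, lam_inner, lam_inner]

open Classical in
theorem alpha_inner [Fintype T] (D : CZ Z T w e) {a b : Lam T} (hab : D.Same a b) (c d : Lam T) :
    classInner (D.alpha a b) (D.alpha c d) =
      (∑ i ∈ Finset.range e, (if D.tw i a = c then 1 else 0 : ℂ)) -
        (∑ i ∈ Finset.range e, (if D.tw i b = c then 1 else 0 : ℂ)) -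
      ((∑ i ∈ Finset.range e, (if D.tw i a = d then 1 else 0 : ℂ)) -
        ∑ i ∈ Finset.range e, (if D.tw i b = d then 1 else 0 : ℂ)) := by
  conv_lhs => arg 2; rw [alpha]
  rw [frobenius_reciprocity' T _ (show IsClassFunction G (D.alpha a b) from indFun_isClassFunction T _),
    classInner_sub_right, D.alpha_res_inner hab, D.alpha_res_inner hab]

/-- A class function vanishing on `T` off `Z` is orthogonal to every induced difference. -/
theorem inner_alpha_zero [Fintype T] (D : CZ Z T w e) {π : G → ℂ} (hπ : IsClassFunction G π)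
    (hπ0 : ∀ t : T, (t : G) ∉ Z → π t = 0) {l l' : Lam T} (hs : D.Same l l') :
    classInner π (D.alpha l l') = 0 := by
  rw [alpha, frobenius_reciprocity' T _ hπ]
  simp only [classInner]
  rw [Finset.sum_eq_zero, mul_zero]
  intro t _
  by_cases ht : (t : G) ∈ Z
  · simp [hs t ht]
  · simp [hπ0 t ht]

theorem mu_tw (D : CZ Z T w e) [Fintype T] {χ : G → ℂ} (hc : IsCharacter G χ) (i : ℕ) (l : Lam T) :
    mu χ (D.tw i l) = mu χ l := by
  have key : classInner (fun t : T => χ t) (D.tw i l : T → ℂ) =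
      classInner (fun t : T => χ t) (l : T → ℂ) := by
    simp only [classInner]
    congr 1
    refine Fintype.sum_equiv (Equiv.ofBijective _ ⟨D.act_injective i, D.act_surjective i⟩) _ _ fun t => ?_
    show χ (t : G) * conj ((l : T → ℂ) (D.act i t)) = χ ((D.act i t : T) : G) * conj ((l : T → ℂ) (D.act i t))
    rw [D.act_apply, isClassFunction_char hc]
  rw [← mu_spec hc, ← mu_spec hc] at key
  exact_mod_cast key

theorem mu_rel (D : CZ Z T w e) [Fintype T] {χ : G → ℂ} (hc : IsCharacter G χ) {l l' : Lam T}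
    (hr : D.Rel l l') : mu χ l' = mu χ l := by
  obtain ⟨i, -, rfl⟩ := hr
  exact D.mu_tw hc i l

theorem mu_apply (_D : CZ Z T w e) [Fintype T] {χ : G → ℂ} (hc : IsCharacter G χ) (t : T) :
    χ t = ∑ l : Lam T, (mu χ l : ℂ) * (l : T → ℂ) t := by
  have h1 := congrFun (eq_sum_irr (isClassFunction_char (isCharacter_restrict hc T))) t
  simpa [Finset.sum_apply, mu_spec hc] using h1

theorem deg_eq (D : CZ Z T w e) [Fintype T] {χ : G → ℂ} (hc : IsCharacter G χ) :
    χ 1 = ∑ l : Lam T, (mu χ l : ℂ) := by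
  have h1 := D.mu_apply hc 1
  simpa [D.lam_one] using h1

theorem inner_alpha (D : CZ Z T w e) [Fintype T] {χ : G → ℂ} (hc : IsCharacter G χ) (l l' : Lam T) :
    classInner χ (D.alpha l l') = (mu χ l : ℂ) - mu χ l' := by
  rw [alpha, frobenius_reciprocity' T _ (isClassFunction_char hc), classInner_sub_right,
    mu_spec hc, mu_spec hc]

theorem alpha_norm (D : CZ Z T w e) [Fintype T] {a b : Lam T} (ha : D.Good a) (hb : D.Good b)
    (hs : D.Same a b) (hab : ¬ D.Rel a b) : classInner (D.alpha a b) (D.alpha a b) = 2 := by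
  rw [D.alpha_inner hs, D.sum_tw_good ha, D.sum_tw_good hb, D.sum_tw_good ha, D.sum_tw_good hb,
    if_pos (D.rel_refl a), if_pos (D.rel_refl b), if_neg hab, if_neg fun hr => hab (D.rel_symm hr)]
  norm_num

theorem alpha_base_norm (D : CZ Z T w e) [Fintype T] {a b : Lam T} (ha : ¬ D.Good a) (hb : D.Good b)
    (hs : D.Same a b) : classInner (D.alpha a b) (D.alpha a b) = (e : ℂ) + 1 := by
  rw [D.alpha_inner hs, D.sum_tw_fixed ha, D.sum_tw_good hb, D.sum_tw_fixed ha, D.sum_tw_good hb,
    if_pos (D.rel_refl b), if_pos rfl, if_neg (fun hr : D.Rel b a => ha (D.rel_good hr hb)),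
    if_neg fun hab : a = b => ha (hab ▸ hb)]
  ring

/-- `χ` lives on the characters with the restriction of `l₀` to `Z`. -/
def InSector (D : CZ Z T w e) [Fintype T] (χ : G → ℂ) (l₀ : Lam T) : Prop :=
  ∀ l, mu χ l ≠ 0 → D.Same l l₀

/-- Every irreducible character lives in a sector. -/
theorem exists_sector (D : CZ Z T w e) [Fintype T] {χ : G → ℂ} (hχ : IsIrrCharacter G χ) :
    ∃ l₀, D.InSector χ l₀ ∧ mu χ l₀ ≠ 0 := by
  classical
  have hc := isCharacter_of_irr hχ
  have hne : χ 1 ≠ 0 := irr_ne_zero hχ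
  obtain ⟨l₀, hl₀⟩ : ∃ l : Lam T, mu χ l ≠ 0 := by
    by_contra hall
    push Not at hall
    exact hne (by simp [D.deg_eq hc, hall])
  refine ⟨l₀, fun l hl t htZ => ?_, hl₀⟩
  obtain ⟨n, ρ, hρ, rfl⟩ := hχ
  let I : Representation.IntertwiningMap ρ ρ := ⟨ρ (t : G), fun k => by
    show ρ (t : G) * ρ k = ρ k * ρ (t : G)
    rw [← map_mul, ← map_mul, D.central _ htZ k]⟩
  obtain ⟨ω, hω⟩ := (Representation.IsIrreducible.algebraMap_intertwiningMap_bijective_of_isAlgClosed).2 I
  have hop : ρ (t : G) = ω • (LinearMap.id : (Fin n → ℂ) →ₗ[ℂ] (Fin n → ℂ)) :=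
    LinearMap.ext fun v => by
      have := congrArg (fun S : Representation.IntertwiningMap ρ ρ => S v) hω
      simpa [I] using this.symm
  have hscal : ∀ s : T, ρ.character ((t * s : T) : G) = ω * ρ.character (s : G) := fun s => by
    simp [Representation.character, map_mul, hop, ← Module.End.one_eq_id]
  have key : ∀ η : Lam T, mu ρ.character η ≠ 0 → (η : T → ℂ) t = ω := by
    intro η hη
    have h1 : classInner (fun s : T => ρ.character ((t * s : T) : G)) (η : T → ℂ) =
        (η : T → ℂ) t * classInner (fun s : T => ρ.character (s : G)) (η : T → ℂ) := by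
      simp only [classInner, Finset.mul_sum]
      refine (Fintype.sum_equiv (Equiv.mulLeft t⁻¹) _ _ fun s => ?_).symm
      have h2 : (η : T → ℂ) t * conj ((η : T → ℂ) s) = conj ((η : T → ℂ) (t⁻¹ * s)) := by
        obtain ⟨φ, hφ⟩ := D.lam_hom η
        have h3 : (φ t : ℂ) * conj (φ t : ℂ) = 1 := by
          have h4 := (char_apply_inv (isCharacter_of_irr η.2) t).symm
          simp only [hφ, map_inv, Units.val_inv_eq_inv_val] at h4
          rw [h4, mul_inv_cancel₀ (Units.ne_zero _)]
        simp only [hφ, map_mul, map_inv, Units.val_mul, Units.val_inv_eq_inv_val, map_inv₀]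
        congr 1
        exact (mul_eq_one_iff_eq_inv₀ (by simp [Units.ne_zero])).mp h3
      simp only [Equiv.coe_mulLeft, mul_inv_cancel_left]
      rw [← h2]
      ring
    simp only [hscal] at h1
    rw [show (fun s : T => ω * ρ.character (s : G)) = ω • (fun s : T => ρ.character (s : G)) from rfl,
      classInner_smul_left, ← mu_spec hc] at h1
    exact (mul_right_cancel₀ (Nat.cast_ne_zero.mpr hη) h1).symm
  rw [key l hl, key l₀ hl₀]

theorem sector_good (D : CZ Z T w e) [Fintype T] {χ : G → ℂ} {l₀ : Lam T} (hS : D.InSector χ l₀) {l : Lam T}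
    (hl : ¬ D.Same l l₀) : mu χ l = 0 := by
  by_contra h0
  exact hl (hS l h0)

theorem mu_diff (D : CZ Z T w e) [Fintype T] {χ : G → ℂ} (hχ : IsIrrCharacter G χ) {a b : Lam T}
    (ha : D.Good a) (hb : D.Good b) (hs : D.Same a b) : mu χ a ≤ mu χ b + 1 := by
  have hc := isCharacter_of_irr hχ
  by_contra hlt
  have hab : ¬ D.Rel a b := fun hr => by rw [D.mu_rel hc hr] at hlt; omega
  have hd : classInner (D.alpha a b) χ = (((mu χ a : ℤ) - mu χ b : ℤ) : ℂ) := by
    rw [← classInner_comm, D.inner_alpha hc]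
    push_cast
    simp
  obtain ⟨h1, -⟩ := norm_two_shape (D.isGen_alpha a b) (D.alpha_norm ha hb hs hab) (D.alpha_one a b) hχ hd
    (by omega)
  omega

/-- Two disjoint pairs of orbits cannot be separated by the same character. -/
theorem no_two_pairs (D : CZ Z T w e) [Fintype T] {χ : G → ℂ} (hχ : IsIrrCharacter G χ) {a a' b b' : Lam T}
    (ha : D.Good a) (ha' : D.Good a') (hb : D.Good b) (hb' : D.Good b')
    (sab : D.Same a b) (sab' : D.Same a' b')
    (haa : ¬ D.Rel a a') (hbb : ¬ D.Rel b b') (hlt : mu χ b < mu χ a) (hlt' : mu χ b' < mu χ a')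
    (hx : mu χ b' < mu χ a) (hy : mu χ b < mu χ a') : False := by
  have hc := isCharacter_of_irr hχ
  have hne : ∀ {x y : Lam T}, mu χ y < mu χ x → ¬ D.Rel x y := fun hl hr => by
    rw [D.mu_rel hc hr] at hl
    exact lt_irrefl _ hl
  have hd : ∀ {x y : Lam T}, D.Good x → D.Good y → D.Same x y → mu χ y < mu χ x →
      ∃ ψ, IsIrrCharacter G ψ ∧ ψ ≠ χ ∧ D.alpha x y = χ - ψ := by
    intro x y hx hy hs hl
    have := D.mu_diff hχ hx hy hs
    have hd : classInner (D.alpha x y) χ = ((1 : ℤ) : ℂ) := by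
      rw [← classInner_comm, D.inner_alpha hc, show mu χ x = mu χ y + 1 by omega]
      simp
    obtain ⟨-, ψ, hψ, hne', -, heq⟩ := norm_two_shape (D.isGen_alpha x y)
      (D.alpha_norm hx hy hs (hne hl)) (D.alpha_one x y) hχ hd one_ne_zero
    exact ⟨ψ, hψ, hne', by simpa using heq⟩
  obtain ⟨ψ, hψ, hψne, he⟩ := hd ha hb sab hlt
  obtain ⟨ψ', hψ', hψne', he'⟩ := hd ha' hb' sab' hlt'
  have h0 : classInner (D.alpha a b) (D.alpha a' b') = 0 := by
    rw [D.alpha_inner sab, D.sum_tw_good ha, D.sum_tw_good hb, D.sum_tw_good ha, D.sum_tw_good hb,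
      if_neg haa, if_neg hbb, if_neg (hne hx), if_neg fun hr => hne hy (D.rel_symm hr)]
    ring
  classical
  rw [he, he', classInner_sub_left, classInner_sub_right, classInner_sub_right, classInner_irr_self hχ,
    classInner_irr_ne hχ hψ' (Ne.symm hψne'), classInner_irr_ne hψ hχ hψne, classInner_irr hψ hψ'] at h0
  split_ifs at h0 <;> norm_num at h0

/-- The multiplicities on the good characters of the sector are all equal. -/
def Balanced (D : CZ Z T w e) [Fintype T] (χ : G → ℂ) (l₀ : Lam T) : Prop :=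
  ∀ a b : Lam T, D.Good a → D.Good b → D.Same a l₀ → D.Same b l₀ → mu χ a = mu χ b

/-- The multiplicities are `c` on the good characters of the sector, except on the orbit of `l`,
where they are `c + d`. -/
def Shape (D : CZ Z T w e) [Fintype T] (χ : G → ℂ) (l : Lam T) (c d : ℤ) : Prop :=
  ∀ η : Lam T, D.Good η → D.Same η l →
    (D.Rel l η → (mu χ η : ℤ) = c + d) ∧ (¬ D.Rel l η → (mu χ η : ℤ) = c)

/-- A non-constant multiplicity function has one exceptional orbit. -/
theorem exists_shape (D : CZ Z T w e) [Fintype T] {χ : G → ℂ} (hχ : IsIrrCharacter G χ) {a b : Lam T}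
    (ha : D.Good a) (hb : D.Good b) (hs : D.Same a b) (hab : mu χ b < mu χ a) :
    ∃ l c d, D.Good l ∧ D.Same l a ∧ (d = 1 ∨ d = (-1 : ℤ)) ∧ D.Shape χ l c d := by
  have hc := isCharacter_of_irr hχ
  have h1 := D.mu_diff hχ ha hb hs
  have hval : ∀ η : Lam T, D.Good η → D.Same η a → mu χ η = mu χ b ∨ mu χ η = mu χ b + 1 := fun η hη hηa => by
    have h2 := D.mu_diff hχ hη hb (D.same_trans hηa hs)
    have h3 := D.mu_diff hχ ha hη (D.same_symm hηa)
    omega
  by_cases hA : ∀ η : Lam T, D.Good η → D.Same η a → mu χ η = mu χ b + 1 → D.Rel a η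
  · refine ⟨a, mu χ b, 1, ha, D.same_refl a, Or.inl rfl, fun η hη hηa => ⟨fun hr => ?_, fun hr => ?_⟩⟩
    · rw [D.mu_rel hc hr]; omega
    · rcases hval η hη hηa with h2 | h2
      · omega
      · exact absurd (hA η hη hηa h2) hr
  · push Not at hA
    obtain ⟨a', ha', hsa', hva, hra⟩ := hA
    refine ⟨b, (mu χ b : ℤ) + 1, -1, hb, D.same_symm hs, Or.inr rfl, fun η hη hηb => ⟨fun hr => ?_, fun hr => ?_⟩⟩
    · rw [D.mu_rel hc hr]; omega
    · have hηa : D.Same η a := D.same_trans hηb (D.same_symm hs)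
      rcases hval η hη hηa with h2 | h2
      · exact absurd (D.no_two_pairs hχ ha ha' hb hη hs (D.same_trans hsa' (D.same_symm hηa)) hra hr hab
          (by omega) (by omega) (by omega)) id
      · omega

open Classical in
/-- The number of good characters in a sector. -/
theorem card_good (D : CZ Z T w e) [Fintype T] (l₀ : Lam T) :
    (Finset.univ.filter fun l => D.Good l ∧ D.Same l l₀).card = Z.relIndex T - 1 := by
  obtain ⟨b, hb, hbf, huniq⟩ := D.exists_base l₀
  have h1 : (Finset.univ.filter fun l => D.Good l ∧ D.Same l l₀) =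
      (Finset.univ.filter fun l => D.Same l l₀).erase b := by
    ext l
    simp only [Finset.mem_filter, Finset.mem_univ, true_and, Finset.mem_erase]
    refine ⟨fun hl => ⟨fun hlb => hbf (hlb ▸ hl.1), hl.2⟩, fun hl => ⟨?_, hl.2⟩⟩
    by_contra hg
    exact hl.1 (huniq l hl.2 hg)
  rw [h1, Finset.card_erase_of_mem (by simp [hb]), ← Fintype.card_subtype, ← Nat.card_eq_fintype_card,
    D.card_same]

/-- The degree in terms of the base and good multiplicities. -/
theorem deg_split (D : CZ Z T w e) [Fintype T] {χ : G → ℂ} (hc : IsCharacter G χ) {l₀ b : Lam T}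
    (hS : D.InSector χ l₀) (hb : D.Same b l₀) (hbf : ¬ D.Good b) [DecidablePred fun l => D.Good l ∧ D.Same l l₀] :
    χ 1 = (mu χ b : ℂ) + ∑ l ∈ Finset.univ.filter (fun l => D.Good l ∧ D.Same l l₀), (mu χ l : ℂ) := by
  classical
  rw [D.deg_eq hc, ← Finset.add_sum_erase _ _ (Finset.mem_univ b)]
  congr 1
  symm
  refine Finset.sum_subset (fun l hl => ?_) fun l hl hl' => ?_
  · simp only [Finset.mem_filter, Finset.mem_univ, true_and] at hl
    exact Finset.mem_erase.mpr ⟨fun hlb => hbf (hlb ▸ hl.1), Finset.mem_univ _⟩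
  · simp only [Finset.mem_filter, Finset.mem_univ, true_and, not_and] at hl'
    by_contra hne
    have hm : mu χ l ≠ 0 := fun h0 => hne (by rw [h0]; simp)
    have hsl := hS l hm
    obtain ⟨b', -, -, huniq⟩ := D.exists_base l₀
    by_cases hg : D.Good l
    · exact hl' hg hsl
    · exact (Finset.mem_erase.mp hl).1 ((huniq l hsl hg).trans (huniq b hb hbf).symm)

open Classical in
theorem card_rel_filter (D : CZ Z T w e) [Fintype T] {l : Lam T} (hl : D.Good l) :
    (Finset.univ.filter fun η => D.Rel l η).card = e := by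
  rw [← Fintype.card_subtype, ← Nat.card_eq_fintype_card]
  exact D.card_rel hl

theorem shape_deg (D : CZ Z T w e) [Fintype T] {χ : G → ℂ} (hc : IsCharacter G χ) {l b : Lam T}
    (hl : D.Good l) (hS : D.InSector χ l) (hb : D.Same b l) (hbf : ¬ D.Good b) {c d : ℤ}
    (hs : D.Shape χ l c d) :
    χ 1 = (((mu χ b : ℤ) + c * ((Z.relIndex T : ℤ) - 1) + d * e : ℤ) : ℂ) := by
  classical
  let S := Finset.univ.filter fun η => D.Good η ∧ D.Same η l
  have h1 : ∀ η ∈ S, (mu χ η : ℤ) = c + if D.Rel l η then d else 0 := by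
    intro η hη
    simp only [S, Finset.mem_filter, Finset.mem_univ, true_and] at hη
    by_cases hr : D.Rel l η
    · rw [if_pos hr, (hs η hη.1 hη.2).1 hr]
    · rw [if_neg hr, (hs η hη.1 hη.2).2 hr, add_zero]
  have h2 : S.filter (fun η => D.Rel l η) = Finset.univ.filter fun η => D.Rel l η := by
    ext η
    simp only [S, Finset.mem_filter, Finset.mem_univ, true_and, and_iff_right_iff_imp]
    exact fun hr => ⟨D.rel_good hr hl, D.same_rel hr⟩
  have h3 : ∑ η ∈ S, (mu χ η : ℤ) = c * ((Z.relIndex T : ℤ) - 1) + d * e := by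
    rw [Finset.sum_congr rfl h1, Finset.sum_add_distrib, ← Finset.sum_filter, h2, Finset.sum_const,
      Finset.sum_const, D.card_rel_filter hl, nsmul_eq_mul, nsmul_eq_mul,
      show S.card = Z.relIndex T - 1 from D.card_good l,
      Nat.cast_sub (by have := D.big; omega : 1 ≤ Z.relIndex T)]
    push_cast
    ring
  rw [D.deg_split hc hS hb hbf, add_assoc, ← h3]
  push_cast
  rfl

/-- Every orbit of the sector is the exceptional orbit of a partner of `χ`. -/
theorem exists_partner (D : CZ Z T w e) [Fintype T] {χ : G → ℂ} (hχ : IsIrrCharacter G χ)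
    {l : Lam T} (hl : D.Good l) (hS : D.InSector χ l) {c d : ℤ} (hd : d = 1 ∨ d = -1)
    (hs : D.Shape χ l c d) {ν : Lam T} (hν : D.Good ν) (hνl : D.Same ν l) :
    ∃ ψ, IsIrrCharacter G ψ ∧ ψ 1 = χ 1 ∧ D.Shape ψ ν c d ∧ D.InSector ψ ν ∧
      (∀ b, ¬ D.Good b → mu ψ b = mu χ b) ∧
      ∀ π : G → ℂ, IsClassFunction G π → (∀ t : T, (t : G) ∉ Z → π t = 0) →
        classInner π ψ = classInner π χ := by
  classical
  by_cases hr : D.Rel l ν
  · exact ⟨χ, hχ, rfl, fun η hη hην => ⟨fun hh => (hs η hη (D.same_trans hην hνl)).1 (D.rel_trans hr hh),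
      fun hh => (hs η hη (D.same_trans hην hνl)).2 fun h' => hh (D.rel_trans (D.rel_symm hr) h')⟩,
      fun η hη => D.same_trans (hS η hη) (D.same_symm hνl), fun _ _ => rfl, fun π _ _ => rfl⟩
  have hsl := D.same_symm hνl
  have hc := isCharacter_of_irr hχ
  have hd0 : d ≠ 0 := by omega
  have hcd : classInner (D.alpha l ν) χ = (d : ℂ) := by
    rw [← classInner_comm, D.inner_alpha hc]
    have h1 := (hs l hl (D.same_refl l)).1 (D.rel_refl l)
    have h2 := (hs ν hν hνl).2 hr
    have e1 : (mu χ l : ℂ) = c + d := by exact_mod_cast h1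
    have e2 : (mu χ ν : ℂ) = c := by exact_mod_cast h2
    rw [e1, e2]
    simp
  obtain ⟨-, ψ, hψ, -, hψ1, heq⟩ := norm_two_shape (D.isGen_alpha l ν) (D.alpha_norm hl hν hsl hr)
    (D.alpha_one l ν) hχ hcd hd0
  have hres : (fun t : T => D.alpha l ν t) = (d : ℂ) • ((fun t : T => χ t) - fun t : T => ψ t) := by
    funext t
    rw [heq]
    simp
  have hmu : ∀ η : Lam T, (d : ℂ) * ((mu χ η : ℂ) - mu ψ η) =
      (if D.Rel l η then 1 else 0) - (if D.Rel ν η then 1 else 0) := fun η => by
    rw [← D.sum_tw_good hl, ← D.sum_tw_good hν, ← D.alpha_res_inner hsl, hres, classInner_smul_left,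
      classInner_sub_left, mu_spec hc, mu_spec (isCharacter_of_irr hψ)]
  have hsame : ∀ η, ¬ D.Rel l η → ¬ D.Rel ν η → mu ψ η = mu χ η := by
    intro η h1 h2
    have h3 := hmu η
    rw [if_neg h1, if_neg h2, sub_zero, mul_eq_zero] at h3
    rcases h3 with h3 | h3
    · exact absurd (by exact_mod_cast h3) hd0
    · exact_mod_cast (sub_eq_zero.mp h3).symm
  refine ⟨ψ, hψ, hψ1, fun η hη hην => ?_, fun η hη => ?_, fun b hb => ?_, ?_⟩
  · have hηl := D.same_trans hην hνl
    have h2 : d * ((mu χ η : ℤ) - mu ψ η) = (if D.Rel l η then 1 else 0) - (if D.Rel ν η then 1 else 0) := by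
      apply Int.cast_injective (α := ℂ)
      push_cast
      exact hmu η
    constructor
    · intro hr'
      have hnl : ¬ D.Rel l η := fun hh => hr (D.rel_trans hh (D.rel_symm hr'))
      rw [if_pos hr', if_neg hnl, (hs η hη hηl).2 hnl] at h2
      rcases hd with rfl | rfl <;> omega
    · intro hr'
      by_cases hl' : D.Rel l η
      · rw [if_neg hr', if_pos hl', (hs η hη hηl).1 hl'] at h2
        rcases hd with rfl | rfl <;> omega
      · rw [if_neg hr', if_neg hl', (hs η hη hηl).2 hl'] at h2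
        rcases hd with rfl | rfl <;> omega
  · by_cases h1 : D.Rel l η
    · exact D.same_trans (D.same_rel h1) hsl
    by_cases h2 : D.Rel ν η
    · exact D.same_rel h2
    rw [hsame η h1 h2] at hη
    exact D.same_trans (hS η hη) hsl
  · exact hsame b (fun hh => hb (D.rel_good hh hl)) fun hh => hb (D.rel_good hh hν)
  · intro π hπ hπ0
    have h1 := D.inner_alpha_zero hπ hπ0 hsl
    rw [heq, classInner_smul_right, classInner_sub_right, mul_eq_zero, sub_eq_zero] at h1
    rcases h1 with h1 | h1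
    · simp at h1; exact absurd h1 hd0
    · exact h1.symm

end CZ

end CfsgLib.MaxSub.SU5Quintic
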