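/-
No small characters, balanced constituents of characters vanishing on `T` off `Z`, and the norm bound.
-/
import Cfsg.Agent.Lib.MaxSub.SU5Quintic.CentralCases
import Cfsg.Agent.Lib.SingerFive.CharKill

set_option autoImplicit false
set_option linter.unusedSectionVars false
set_option linter.style.haveILetI false

namespace CfsgLib.MaxSub.SU5Quintic

open Cfsg CfsgLib.CharTheory
open CfsgLib.SingerFive (Lam mu mu_spec CCData)
open scoped ComplexConjugate

universe u

namespace CZ

variable {G : Type u} [Group G] [Fintype G] {Z T : Subgroup G} {w : G} {e : ℕ}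

open Classical in
/-- The characters of a sector sum to zero off `Z`. -/
theorem sum_same_apply (D : CZ Z T w e) [Fintype T] (l₀ : Lam T) {t : T} (ht : (t : G) ∉ Z) :
    ∑ l ∈ Finset.univ.filter (fun l => D.Same l l₀), (l : T → ℂ) t = 0 := by
  let S : Subgroup T := Z.subgroupOf T
  obtain ⟨φ₀, hφ₀⟩ := D.lam_hom l₀
  have key : ∀ l : Lam T, ∑ x : S, (l : T → ℂ) x * (l₀ : T → ℂ) ((x : T)⁻¹) =
      if D.Same l l₀ then (Nat.card S : ℂ) else 0 := by
    intro l
    obtain ⟨φ, hφ⟩ := D.lam_hom l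
    split_ifs with hs
    · rw [Nat.card_eq_fintype_card, Finset.sum_congr rfl fun x _ => ?_, Finset.sum_const, Finset.card_univ,
        nsmul_eq_mul, mul_one]
      rw [hs x x.2, hφ₀]
      simp
    · simp only [Same] at hs
      push Not at hs
      obtain ⟨s, hsZ, hne⟩ := hs
      have hsS : s ∈ S := hsZ
      have h1 : ((l : T → ℂ) s * (l₀ : T → ℂ) s⁻¹) *
          (∑ x : S, (l : T → ℂ) x * (l₀ : T → ℂ) ((x : T)⁻¹)) =
          ∑ x : S, (l : T → ℂ) x * (l₀ : T → ℂ) ((x : T)⁻¹) := by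
        rw [Finset.mul_sum]
        refine Fintype.sum_equiv (Equiv.mulLeft ⟨s, hsS⟩) _ _ fun x => ?_
        show _ = (l : T → ℂ) (s * x) * (l₀ : T → ℂ) ((s * x)⁻¹)
        simp [hφ, hφ₀]
        ring
      by_contra h0
      refine hne ?_
      have h2 := mul_right_cancel₀ h0 (h1.trans (one_mul _).symm)
      simp only [hφ, hφ₀, map_inv, Units.val_inv_eq_inv_val] at h2 ⊢
      exact (mul_inv_eq_one₀ (Units.ne_zero _)).mp h2
  have h1 : ∑ l : Lam T, (∑ x : S, (l : T → ℂ) x * (l₀ : T → ℂ) ((x : T)⁻¹)) * (l : T → ℂ) t = 0 := by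
    simp only [Finset.sum_mul]
    rw [Finset.sum_comm]
    refine Finset.sum_eq_zero fun x _ => ?_
    have hx : (x : T) * t ≠ 1 := fun h0 => ht (by
      rw [eq_inv_of_mul_eq_one_right h0]
      exact Z.inv_mem x.2)
    rw [Finset.sum_congr rfl fun (l : Lam T) _ => show (l : T → ℂ) x * (l₀ : T → ℂ) ((x : T)⁻¹) * (l : T → ℂ) t =
      (l₀ : T → ℂ) ((x : T)⁻¹) * (l : T → ℂ) ((x : T) * t) by rw [D.lam_mul]; ring, ← Finset.mul_sum,
      D.sum_lam_apply, if_neg hx, mul_zero]
  simp only [key, ite_mul, zero_mul, ← Finset.sum_filter, ← Finset.mul_sum] at h1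
  exact (mul_eq_zero.mp h1).resolve_left (Nat.cast_ne_zero.mpr Nat.card_pos.ne')

/-- A balanced character off `Z`. -/
theorem balanced_apply (D : CZ Z T w e) [Fintype T] {χ : G → ℂ} (hc : IsCharacter G χ) {l₀ b η : Lam T}
    (hS : D.InSector χ l₀) (hbal : D.Balanced χ l₀) (hb : D.Same b l₀) (hbf : ¬ D.Good b)
    (hη : D.Good η) (hηs : D.Same η l₀) {t : T} (ht : (t : G) ∉ Z) :
    χ t = ((mu χ b : ℂ) - mu χ η) * (b : T → ℂ) t := by
  classical
  have h1 := D.sum_same_apply l₀ ht
  have h2 : χ t = ∑ l ∈ Finset.univ.filter (fun l => D.Same l l₀), (mu χ l : ℂ) * (l : T → ℂ) t := by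
    rw [D.mu_apply hc]
    symm
    refine Finset.sum_subset (Finset.subset_univ _) fun l _ hl => ?_
    simp only [Finset.mem_filter, Finset.mem_univ, true_and] at hl
    rw [D.sector_good hS hl, Nat.cast_zero, zero_mul]
  have hbm : b ∈ Finset.univ.filter (fun l => D.Same l l₀) := by simp [hb]
  obtain ⟨b', -, -, huniq⟩ := D.exists_base l₀
  rw [← Finset.add_sum_erase _ _ hbm] at h1 h2
  have h3 : ∑ l ∈ (Finset.univ.filter fun l => D.Same l l₀).erase b, (mu χ l : ℂ) * (l : T → ℂ) t =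
      (mu χ η : ℂ) * ∑ l ∈ (Finset.univ.filter fun l => D.Same l l₀).erase b, (l : T → ℂ) t := by
    rw [Finset.mul_sum]
    refine Finset.sum_congr rfl fun l hl => ?_
    simp only [Finset.mem_erase, Finset.mem_filter, Finset.mem_univ, true_and] at hl
    have hg : D.Good l := by
      by_contra hg
      exact hl.1 ((huniq l hl.2 hg).trans (huniq b hb hbf).symm)
    rw [hbal l η hg hη hl.2 hηs]
  rw [h2, h3, eq_neg_of_add_eq_zero_right h1]
  ring

/-- The degree of a balanced character. -/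
theorem balanced_deg (D : CZ Z T w e) [Fintype T] {χ : G → ℂ} (hc : IsCharacter G χ) {l₀ b η : Lam T}
    (hS : D.InSector χ l₀) (hbal : D.Balanced χ l₀) (hb : D.Same b l₀) (hbf : ¬ D.Good b)
    (hη : D.Good η) (hηs : D.Same η l₀) :
    χ 1 = ((mu χ b + mu χ η * (Z.relIndex T - 1) : ℕ) : ℂ) := by
  classical
  have h3 : ∀ l ∈ Finset.univ.filter (fun l => D.Good l ∧ D.Same l l₀), (mu χ l : ℂ) = (mu χ η : ℂ) := by
    intro l hl
    simp only [Finset.mem_filter, Finset.mem_univ, true_and] at hl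
    rw [hbal l η hl.1 hη hl.2 hηs]
  rw [D.deg_split hc hS hb hbf, Finset.sum_congr rfl h3, Finset.sum_const, D.card_good, nsmul_eq_mul]
  push_cast
  ring

theorem exists_good (D : CZ Z T w e) [Fintype T] (l₀ : Lam T) : ∃ η, D.Good η ∧ D.Same η l₀ := by
  classical
  have h1 := D.card_good l₀
  have h2 := D.big
  have h3 := D.two_le
  have h4 : 4 ≤ e * (e + 3) := by nlinarith
  have h5 : (Finset.univ.filter fun l => D.Good l ∧ D.Same l l₀).Nonempty := by
    rw [← Finset.card_pos]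
    omega
  obtain ⟨η, hη⟩ := h5
  exact ⟨η, (Finset.mem_filter.mp hη).2⟩

/-- `χ` restricts to one orbit of good characters. -/
def Small (D : CZ Z T w e) [Fintype T] (χ : G → ℂ) (l : Lam T) : Prop :=
  IsIrrCharacter G χ ∧ D.Good l ∧ D.InSector χ l ∧ D.Shape χ l 0 1 ∧ ∀ b, ¬ D.Good b → mu χ b = 0

theorem small_deg (D : CZ Z T w e) [Fintype T] {χ : G → ℂ} {l : Lam T} (hsm : D.Small χ l) : χ 1 = e := by
  obtain ⟨h1, h2, h3, h4, h5⟩ := hsm
  obtain ⟨b, hb, hbf, -⟩ := D.exists_base l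
  rw [D.shape_deg (isCharacter_of_irr h1) h2 h3 hb hbf h4, h5 b hbf]
  simp

open Classical in
theorem fiber_le (D : CZ Z T w e) [Fintype T] {l : Lam T} {c d : ℤ} (hd0 : d ≠ 0)
    {ι : Type*} [Fintype ι] (v : ι → Lam T) (hinj : Function.Injective v) (hgood : ∀ i, D.Good (v i))
    (hsame : ∀ i, D.Same (v i) l) (P : ι → G → ℂ) (hP : ∀ i, D.Shape (P i) (v i) c d) (i₀ : ι) :
    (Finset.univ.filter fun i => P i = P i₀).card ≤ e := by
  rw [← D.card_rel_filter (hgood i₀)]
  refine Finset.card_le_card_of_injOn v (fun i hi => ?_) hinj.injOn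
  simp only [Finset.coe_filter, Finset.mem_univ, true_and, Set.mem_ofPred_eq] at hi ⊢
  by_contra hr
  have h1 := (hP i (v i) (hgood i) (D.same_refl _)).1 (D.rel_refl _)
  have h2 := (hP i₀ (v i) (hgood i) (D.same_trans (hsame i) (D.same_symm (hsame i₀)))).2 hr
  rw [hi] at h1
  omega

/-- An irreducible character is balanced on its sector, or large, or small. -/
theorem trichotomy (D : CZ Z T w e) [Fintype T] {χ : G → ℂ} (hχ : IsIrrCharacter G χ) {l₀ : Lam T}
    (hS : D.InSector χ l₀) (hnb : ¬ D.Balanced χ l₀) :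
    ∃ l c d, D.Good l ∧ D.InSector χ l ∧ (d = 1 ∨ d = (-1 : ℤ)) ∧ D.Shape χ l c d ∧
      ((∃ n : ℕ, χ 1 = n ∧ Z.relIndex T ≤ n + e + 1) ∨ D.Small χ l) := by
  classical
  have hc := isCharacter_of_irr hχ
  obtain ⟨a, a', ha, ha', hsa, hsa', hlt⟩ : ∃ a a', D.Good a ∧ D.Good a' ∧ D.Same a l₀ ∧ D.Same a' l₀ ∧
      mu χ a' < mu χ a := by
    simp only [Balanced] at hnb
    push Not at hnb
    obtain ⟨a, a', ha, ha', hs, hs', hne⟩ := hnb
    rcases lt_or_gt_of_ne hne with h1 | h1
    · exact ⟨a', a, ha', ha, hs', hs, h1⟩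
    · exact ⟨a, a', ha, ha', hs, hs', h1⟩
  obtain ⟨l, c, d, hl, hla, hd, hs⟩ := D.exists_shape hχ ha ha' (D.same_trans hsa (D.same_symm hsa')) hlt
  have hSl : D.InSector χ l := fun η hη => D.same_trans (hS η hη) (D.same_symm (D.same_trans hla hsa))
  refine ⟨l, c, d, hl, hSl, hd, hs, ?_⟩
  obtain ⟨b, hb, hbf, huniq⟩ := D.exists_base l
  have hcard := D.card_good l
  have hbig := D.big
  have he := D.two_le
  have hm : e + 2 ≤ Z.relIndex T := by nlinarith
  obtain ⟨η, hη, hηs, hηl⟩ : ∃ η, D.Good η ∧ D.Same η l ∧ ¬ D.Rel l η := by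
    by_contra hall
    push Not at hall
    have h1 : (Finset.univ.filter fun η => D.Good η ∧ D.Same η l) ⊆
        Finset.univ.filter fun η => D.Rel l η := fun η hη => by
      simp only [Finset.mem_filter, Finset.mem_univ, true_and] at hη ⊢
      exact hall η hη.1 hη.2
    have h2 := Finset.card_le_card h1
    rw [hcard, D.card_rel_filter hl] at h2
    omega
  have hc0 : 0 ≤ c := (hs η hη hηs).2 hηl ▸ Int.natCast_nonneg _
  obtain ⟨n, -, hn⟩ := irr_degree_pos hχ
  have hdeg : (n : ℤ) = (mu χ b : ℤ) + c * ((Z.relIndex T : ℤ) - 1) + d * e := by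
    have := hn.symm.trans (D.shape_deg hc hl hSl hb hbf hs)
    exact_mod_cast this
  rcases hc0.lt_or_eq with hc1 | hc1
  · left
    refine ⟨n, hn, ?_⟩
    have h1 : (Z.relIndex T : ℤ) - 1 ≤ c * ((Z.relIndex T : ℤ) - 1) := le_mul_of_one_le_left (by omega) hc1
    rcases hd with rfl | rfl <;> omega
  · right
    subst hc1
    have hd1 : d = 1 := by
      have := (hs l hl (D.same_refl l)).1 (D.rel_refl l)
      omega
    subst hd1
    refine ⟨hχ, hl, hSl, hs, fun b' hb' => ?_⟩
    by_contra hmb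
    obtain rfl : b' = b := huniq b' (hSl b' hmb) hb'
    let ι := {ν : Lam T // D.Good ν ∧ D.Same ν l}
    choose P hP using fun ν : ι => D.exists_partner hχ hl hSl (Or.inl rfl) hs ν.2.1 ν.2.2
    let S : Finset ι := Finset.univ.filter fun ν => ¬ D.Rel l ν.1
    let g : ι → IrrCharacter G := fun ν => ⟨P ν, (hP ν).1⟩
    obtain ⟨k, -, hkc, hksq⟩ := classInner_self_eq_sum_sq (D.isGen_alpha b' l)
    rw [D.alpha_base_norm hb' hl hb] at hksq
    have hksq' : ∑ ψ : IrrCharacter G, k ψ ^ 2 = (e : ℤ) + 1 := by exact_mod_cast hksq.symm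
    have hval : ∀ ν ∈ S, k (g ν) = mu χ b' := by
      intro ν hν
      obtain ⟨h1, -, h3, -, h5, -⟩ := hP ν
      have h6 := hkc (g ν)
      rw [← classInner_comm, D.inner_alpha (isCharacter_of_irr h1), h5 b' hb'] at h6
      have h7 := (h3 l hl (D.same_symm ν.2.2)).2 fun hr => (Finset.mem_filter.mp hν).2 (D.rel_symm hr)
      have h8 : mu (P ν) l = 0 := by omega
      rw [h8] at h6
      simp at h6
      exact_mod_cast h6.symm
    have hfib : ∀ ψ ∈ S.image g, (S.filter fun ν => g ν = ψ).card ≤ e := by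
      intro ψ hψ
      obtain ⟨ν₀, -, rfl⟩ := Finset.mem_image.mp hψ
      refine le_trans (Finset.card_le_card fun ν hν => ?_)
        (D.fiber_le (l := l) one_ne_zero Subtype.val Subtype.val_injective (fun i => i.2.1) (fun i => i.2.2)
          P (fun i => (hP i).2.2.1) ν₀)
      simp only [Finset.mem_filter, Finset.mem_univ, true_and] at hν ⊢
      exact congrArg Subtype.val hν.2
    have hSc : S.card + e + 1 = Z.relIndex T := by
      have h1 := Finset.card_filter_add_card_filter_not (s := (Finset.univ : Finset ι)) (fun ν => D.Rel l ν.1)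
      have h2 : (Finset.univ.filter fun ν : ι => D.Rel l ν.1).card = e := by
        refine Eq.trans ?_ (D.card_rel_filter hl)
        refine Finset.card_bij (fun ν _ => ν.1) (fun ν hν => by simpa using hν)
          (fun _ _ _ _ hh => Subtype.ext hh) fun η hη => ?_
        have hr : D.Rel l η := by simpa using hη
        exact ⟨⟨η, D.rel_good hr hl, D.same_rel hr⟩, by simp [hr], rfl⟩
      rw [h2, Finset.card_univ, Fintype.card_subtype, hcard] at h1
      have h3 : S.card = (Finset.univ.filter fun ν : ι => ¬ D.Rel l ν.1).card := rfl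
      omega
    have h1 : ((S.image g).card : ℤ) * (mu χ b' : ℤ) ^ 2 ≤ e + 1 := by
      rw [← hksq']
      refine le_trans (le_of_eq ?_) (Finset.sum_le_sum_of_subset_of_nonneg (Finset.subset_univ (S.image g))
        fun ψ _ _ => sq_nonneg _)
      rw [Finset.sum_congr rfl fun ψ hψ => ?_, Finset.sum_const, nsmul_eq_mul]
      obtain ⟨ν, hν, rfl⟩ := Finset.mem_image.mp hψ
      rw [hval ν hν]
    have h2 : (1 : ℤ) ≤ (mu χ b' : ℤ) ^ 2 := by
      have : 1 ≤ mu χ b' := by omega
      exact_mod_cast Nat.one_le_pow 2 _ this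
    have h3 : (S.image g).card ≤ e + 1 := by
      have h4 : ((S.image g).card : ℤ) * 1 ≤ (S.image g).card * (mu χ b' : ℤ) ^ 2 :=
        mul_le_mul_of_nonneg_left h2 (Int.natCast_nonneg _)
      omega
    have h5 := Finset.card_le_mul_card_image S e hfib
    nlinarith

/-- The data of `G / Z`. -/
theorem toCC (D : CZ Z T w e) [Z.Normal] :
    CCData (T.map (QuotientGroup.mk' Z)) (QuotientGroup.mk' Z w) e where
  comm := by
    rintro _ ⟨a, ha, rfl⟩ _ ⟨b, hb, rfl⟩
    rw [← map_mul, ← map_mul, D.comm a ha b hb]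
  cc := by
    rintro _ ⟨a, ha, rfl⟩ hne x hx
    obtain ⟨x, rfl⟩ := QuotientGroup.mk_surjective x
    have haZ : a ∉ Z := fun h1 => hne ((QuotientGroup.eq_one_iff a).mpr h1)
    refine ⟨x, D.cc a ha haZ x ?_, rfl⟩
    rw [← QuotientGroup.eq_one_iff]
    have hx' : (x : G ⧸ Z) * (a : G ⧸ Z) = (a : G ⧸ Z) * (x : G ⧸ Z) := hx
    simp only [QuotientGroup.mk_mul, QuotientGroup.mk_inv, hx', mul_inv_cancel_right, mul_inv_cancel]
  conj_mem := by
    rintro _ ⟨a, ha, rfl⟩
    exact ⟨_, D.conj_mem a ha, by simp⟩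
  fus := by
    rintro g _ ⟨a, ha, rfl⟩ hne ⟨b, hb, hb'⟩
    obtain ⟨g, rfl⟩ := QuotientGroup.mk_surjective g
    have haZ : a ∉ Z := fun h1 => hne ((QuotientGroup.eq_one_iff a).mpr h1)
    have h1 : b⁻¹ * (g * a * g⁻¹) ∈ Z := by
      rw [← QuotientGroup.eq]
      exact hb'.trans (by simp)
    have h2 : g * a * g⁻¹ ∈ T := by
      have := T.mul_mem hb (D.le h1)
      rwa [mul_inv_cancel_left] at this
    obtain ⟨i, hi, s, hs, rfl⟩ := D.fus g a ha haZ h2
    exact ⟨i, hi, _, ⟨s, hs, rfl⟩, by simp⟩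
  out := by
    rintro i hi hie ⟨a, ha, ha'⟩
    refine D.out i hi hie ?_
    have h1 : a⁻¹ * w ^ i ∈ Z := by
      rw [← QuotientGroup.eq]
      simpa using ha'
    have := T.mul_mem ha (D.le h1)
    rwa [mul_inv_cancel_left] at this
  big := by
    rw [← Subgroup.relIndex_ker, QuotientGroup.ker_mk']
    exact D.big
  pos := D.two_le

open Classical in
/-- No small characters, given that `G / Z` has no normal subgroup over the torus with derived
subgroup meeting it trivially. -/
theorem no_small (D : CZ Z T w e) [Fintype T] [Z.Normal]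
    (hK : ∀ K : Subgroup (G ⧸ Z), K.Normal → T.map (QuotientGroup.mk' Z) ≤ K →
      ⁅K, K⁆ ⊓ T.map (QuotientGroup.mk' Z) ≠ ⊥)
    (χ : G → ℂ) (l : Lam T) : ¬ D.Small χ l := by
  intro hsm
  have hdeg := D.small_deg hsm
  obtain ⟨hχ, hl, hS, hs, hm⟩ := hsm
  have hc := isCharacter_of_irr hχ
  let : Fintype (G ⧸ Z) := Fintype.ofFinite _
  let C := D.toCC
  let : Fintype (T.map (QuotientGroup.mk' Z)) := Fintype.ofFinite _
  have hcard : Nat.card (T.map (QuotientGroup.mk' Z)) = Z.relIndex T := by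
    rw [← Subgroup.relIndex_ker, QuotientGroup.ker_mk']
  have hbig := D.big
  have he := D.two_le
  have hns : ∀ ψ l', ¬ C.Small ψ l' := fun ψ l' hsm' => by
    obtain ⟨K, hKn, hle, hbot⟩ := C.exists_normal_of_small (by rw [hcard]; nlinarith) hsm'
    exact hK K hKn hle hbot
  -- `χ * conj χ` factors through `G / Z`
  let θ : G → ℂ := fun g => χ g * conj (χ g)
  have hθ : IsCharacter G θ := isCharacter_mul hc (isCharacter_conj hc)
  have hker : ∀ n ∈ Z, θ n = θ 1 := by
    intro n hn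
    have h1 : χ n = (l : T → ℂ) ⟨n, D.le hn⟩ * χ 1 := by
      rw [show χ n = χ ((⟨n, D.le hn⟩ : T) : G) from rfl, D.mu_apply hc, D.deg_eq hc, Finset.mul_sum]
      refine Finset.sum_congr rfl fun η _ => ?_
      by_cases h0 : mu χ η = 0
      · simp [h0]
      · rw [hS η h0 ⟨n, D.le hn⟩ hn]; ring
    obtain ⟨φ, hφ⟩ := D.lam_hom l
    have h2 : (φ ⟨n, D.le hn⟩ : ℂ) * conj (φ ⟨n, D.le hn⟩ : ℂ) = 1 := by
      have h4 := (char_apply_inv (isCharacter_of_irr l.2) ⟨n, D.le hn⟩).symm
      simp only [hφ, map_inv, Units.val_inv_eq_inv_val] at h4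
      rw [h4, mul_inv_cancel₀ (Units.ne_zero _)]
    simp only [θ, h1, map_mul, hφ]
    linear_combination (χ 1 * conj (χ 1)) * h2
  obtain ⟨θ', hθ', hθeq⟩ := exists_quotient_char Z hθ hker
  choose a ha using fun ψ : IrrCharacter (G ⧸ Z) => classInner_char_nat hθ' (isCharacter_of_irr ψ.2)
  choose dg hdg using fun ψ : IrrCharacter (G ⧸ Z) => char_one_eq_natCast (isCharacter_of_irr ψ.2)
  have hexp : θ' = ∑ ψ : IrrCharacter (G ⧸ Z), (a ψ : ℂ) • (ψ : G ⧸ Z → ℂ) := by
    conv_lhs => rw [eq_sum_irr (isClassFunction_char hθ')]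
    exact Finset.sum_congr rfl fun ψ _ => by rw [ha]
  have hθ1 : θ' 1 = ((e * e : ℕ) : ℂ) := by
    have h1 : θ 1 = θ' ((1 : G) : G ⧸ Z) := congrFun hθeq 1
    rw [QuotientGroup.mk_one] at h1
    rw [← h1]
    simp [θ, hdeg]
  have hsum : ∑ ψ : IrrCharacter (G ⧸ Z), a ψ * dg ψ = e * e := by
    have h1 := congrFun hexp 1
    simp only [Finset.sum_apply, Pi.smul_apply, smul_eq_mul, hdg, hθ1] at h1
    exact_mod_cast h1.symm
  have hflat : ∀ t : T, θ t = θ 1 := by
    intro t
    rw [congrFun hθeq t, congrFun hθeq 1, hexp, Finset.sum_apply, Finset.sum_apply]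
    refine Finset.sum_congr rfl fun ψ _ => ?_
    by_cases h0 : a ψ = 0
    · simp [h0]
    have hψ := isCharacter_of_irr ψ.2
    have hdle : dg ψ ≤ e * e := by
      rw [← hsum]
      calc dg ψ ≤ a ψ * dg ψ := Nat.le_mul_of_pos_left _ (Nat.pos_of_ne_zero h0)
        _ ≤ _ := Finset.single_le_sum (f := fun ψ => a ψ * dg ψ) (fun ψ _ => Nat.zero_le _) (Finset.mem_univ ψ)
    have hb : SingerFive.Balanced (T := T.map (QuotientGroup.mk' Z)) (ψ : G ⧸ Z → ℂ) := by
      by_contra hb
      obtain ⟨l', c, d, -, -, -, h1⟩ := C.trichotomy ψ.2 hb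
      rcases h1 with ⟨n, hn, hn'⟩ | h2
      · have : n = dg ψ := by exact_mod_cast hn.symm.trans (hdg ψ)
        rw [hcard] at hn'
        nlinarith
      · exact hns _ _ h2
    obtain ⟨η, hη, -⟩ := C.exists_lam (SingerFive.triv _)
    have h0' : mu (ψ : G ⧸ Z → ℂ) η = 0 := by
      by_contra h0'
      have h4 : dg ψ = ∑ k : Lam (T.map (QuotientGroup.mk' Z)), mu (ψ : G ⧸ Z → ℂ) k := by
        have h3 := C.deg_eq hψ
        rw [hdg] at h3
        exact_mod_cast h3
      have h5 : ∑ k ∈ Finset.univ.erase (SingerFive.triv _), 1 ≤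
          ∑ k ∈ Finset.univ.erase (SingerFive.triv _), mu (ψ : G ⧸ Z → ℂ) k :=
        Finset.sum_le_sum fun k hk => Nat.one_le_iff_ne_zero.mpr fun hk0 =>
          h0' (by rw [hb η k hη (Finset.mem_erase.mp hk).1, hk0])
      have h6 : ∑ k ∈ Finset.univ.erase (SingerFive.triv _), mu (ψ : G ⧸ Z → ℂ) k ≤
          ∑ k : Lam (T.map (QuotientGroup.mk' Z)), mu (ψ : G ⧸ Z → ℂ) k := Finset.sum_le_sum_of_subset (Finset.subset_univ _)
      rw [Finset.sum_const, smul_eq_mul, mul_one, Finset.card_erase_of_mem (Finset.mem_univ _),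
        Finset.card_univ, C.card_lam, hcard] at h5
      nlinarith [show Z.relIndex T ≤ dg ψ + 1 by omega]
    obtain ⟨t', ht'⟩ : ∃ t' : T.map (QuotientGroup.mk' Z), ((t : G) : G ⧸ Z) = (t' : G ⧸ Z) :=
      ⟨⟨QuotientGroup.mk' Z t, Subgroup.mem_map_of_mem _ t.2⟩, rfl⟩
    rw [Pi.smul_apply, Pi.smul_apply]
    congr 1
    rw [QuotientGroup.mk_one, ht', C.mu_apply hψ, C.deg_eq hψ]
    refine Finset.sum_congr rfl fun k _ => ?_
    by_cases hk : k = SingerFive.triv _
    · subst hk; simp [SingerFive.triv]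
    · simp [(hb k η hk hη).trans h0']
  -- the norm on `T`
  have hTe : classInner (fun x : T => χ x) (fun x : T => χ x) = (e : ℂ) := by
    rw [classInner_eq_sum_irr (isClassFunction_char (isCharacter_restrict hc T))]
    simp only [← classInner_comm (fun x : T => χ x), ← mu_spec hc, map_natCast]
    have h2 : ∀ η : Lam T, (mu χ η : ℂ) * (mu χ η : ℂ) = if D.Rel l η then 1 else 0 := by
      intro η
      by_cases hr : D.Rel l η
      · have h3 := (hs η (D.rel_good hr hl) (D.same_rel hr)).1 hr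
        rw [if_pos hr, show mu χ η = 1 by omega]
        simp
      · rw [if_neg hr, show mu χ η = 0 from ?_]
        · simp
        · by_contra h0
          by_cases hg : D.Good η
          · have h3 := (hs η hg (hS η h0)).2 hr
            omega
          · exact h0 (hm η hg)
    rw [Finset.sum_congr rfl fun η _ => h2 η, Finset.sum_boole, D.card_rel_filter hl]
  have hTe' : classInner (fun x : T => χ x) (fun x : T => χ x) = ((e * e : ℕ) : ℂ) := by
    rw [classInner, Finset.sum_congr rfl fun (x : T) _ => show χ (x : G) * conj (χ (x : G)) = θ 1 from hflat x,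
      Finset.sum_const, Finset.card_univ, nsmul_eq_mul, ← mul_assoc, Nat.card_eq_fintype_card,
      inv_mul_cancel₀ (by simp), one_mul]
    simp [θ, hdeg]
  rw [hTe] at hTe'
  have : e = e * e := by exact_mod_cast hTe'
  nlinarith

open Classical in
/-- A character that vanishes on `T` off `Z` and is not too large has only balanced constituents. -/
theorem constituent_balanced (D : CZ Z T w e) [Fintype T] (hns : ∀ χ l, ¬ D.Small χ l) {π : G → ℂ}
    (hπ : IsCharacter G π) (hπ0 : ∀ t : T, (t : G) ∉ Z → π t = 0) {N : ℕ} (hN : π 1 = N)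
    (hbound : e * N < (Z.relIndex T - 1) * (Z.relIndex T - 1 - e))
    {χ : G → ℂ} (hχ : IsIrrCharacter G χ) (hin : classInner π χ ≠ 0) {l₀ : Lam T} (hS : D.InSector χ l₀) :
    D.Balanced χ l₀ := by
  by_contra hnb
  obtain ⟨l, c, d, hl, hSl, hd, hs, hbig⟩ := D.trichotomy hχ hS hnb
  rcases hbig with ⟨n, hn, hbig⟩ | hsm
  swap
  · exact hns χ l hsm
  let ι := {ν : Lam T // D.Good ν ∧ D.Same ν l}
  choose P hP using fun ν : ι => D.exists_partner hχ hl hSl hd hs ν.2.1 ν.2.2
  let g : ι → IrrCharacter G := fun ν => ⟨P ν, (hP ν).1⟩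
  have hd0 : d ≠ 0 := by omega
  have hfib : ∀ ψ ∈ Finset.univ.image g, (Finset.univ.filter fun ν => g ν = ψ).card ≤ e := by
    intro ψ hψ
    obtain ⟨ν₀, -, rfl⟩ := Finset.mem_image.mp hψ
    refine le_trans (Finset.card_le_card fun ν hν => ?_)
      (D.fiber_le (l := l) hd0 Subtype.val Subtype.val_injective (fun i => i.2.1) (fun i => i.2.2)
        P (fun i => (hP i).2.2.1) ν₀)
    simp only [Finset.mem_filter, Finset.mem_univ, true_and] at hν ⊢
    exact congrArg Subtype.val hν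
  obtain ⟨k, hk⟩ := classInner_char_nat hπ (isCharacter_of_irr hχ)
  have hk0 : 1 ≤ k := Nat.one_le_iff_ne_zero.mpr fun h0 => hin (by rw [hk, h0, Nat.cast_zero])
  choose a ha using fun ψ : IrrCharacter G => classInner_char_nat hπ (isCharacter_of_irr ψ.2)
  choose dg hdg using fun ψ : IrrCharacter G => char_one_eq_natCast (isCharacter_of_irr ψ.2)
  have hπ1 : ∑ ψ : IrrCharacter G, a ψ * dg ψ = N := by
    have h1 := congrFun (eq_sum_irr (isClassFunction_char hπ)) 1
    simp only [Finset.sum_apply, Pi.smul_apply, smul_eq_mul, ha, hdg, hN] at h1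
    exact_mod_cast h1.symm
  have h3 : (Finset.univ.image g).card * n ≤ N := by
    rw [← hπ1, ← smul_eq_mul, ← Finset.sum_const]
    refine le_trans (Finset.sum_le_sum fun ψ hψ => ?_)
      (Finset.sum_le_sum_of_subset (Finset.subset_univ (Finset.univ.image g)))
    obtain ⟨ν, -, rfl⟩ := Finset.mem_image.mp hψ
    have h4 : a (g ν) = k := by
      have := (hP ν).2.2.2.2.2 π (isClassFunction_char hπ) hπ0
      rw [hk] at this
      exact_mod_cast (ha (g ν)).symm.trans this
    have h5 : dg (g ν) = n := by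
      have := (hdg (g ν)).symm.trans ((hP ν).2.1.trans hn)
      exact_mod_cast this
    rw [h4, h5]
    exact Nat.le_mul_of_pos_left _ hk0
  have h6 := Finset.card_le_mul_card_image Finset.univ e hfib
  rw [Finset.card_univ, Fintype.card_subtype, D.card_good] at h6
  have h7 : Z.relIndex T - 1 - e ≤ n := by omega
  have h8 : (Z.relIndex T - 1) * (Z.relIndex T - 1 - e) ≤ e * N :=
    (Nat.mul_le_mul h6 h7).trans (by rw [Nat.mul_assoc]; exact Nat.mul_le_mul_left e h3)
  omega

open Classical in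
/-- The squares of `a - b` over distinct balanced characters of one sector add up to at most `e`. -/
theorem sum_sq_le (D : CZ Z T w e) [Fintype T] {l₀ b η : Lam T} (hb : D.Same b l₀) (hbf : ¬ D.Good b)
    (hη : D.Good η) (hηs : D.Same η l₀) (S : Finset (IrrCharacter G))
    (hbal : ∀ χ ∈ S, D.Balanced (χ : G → ℂ) l₀) :
    ∑ χ ∈ S, ((mu (χ : G → ℂ) b : ℤ) - mu (χ : G → ℂ) η) ^ 2 ≤ e := by
  have hsame : D.Same b η := D.same_trans hb (D.same_symm hηs)
  obtain ⟨k, hksum, hkc, hksq⟩ := classInner_self_eq_sum_sq (D.isGen_alpha b η)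
  rw [D.alpha_base_norm hbf hη hsame] at hksq
  have hksq' : ∑ ψ : IrrCharacter G, k ψ ^ 2 = (e : ℤ) + 1 := by exact_mod_cast hksq.symm
  obtain ⟨ν, hν, hνs, hνr⟩ : ∃ ν, D.Good ν ∧ D.Same ν l₀ ∧ ¬ D.Rel η ν := by
    by_contra hall
    push Not at hall
    have h1 : (Finset.univ.filter fun l => D.Good l ∧ D.Same l l₀) ⊆
        Finset.univ.filter fun l => D.Rel η l := fun l hl => by
      simp only [Finset.mem_filter, Finset.mem_univ, true_and] at hl ⊢
      exact hall l hl.1 hl.2
    have h2 := Finset.card_le_card h1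
    rw [D.card_good, D.card_rel_filter hη] at h2
    have h3 := D.big
    have h4 := D.two_le
    have h5 : e + 2 ≤ e * (e + 3) := by nlinarith
    omega
  -- some constituent is not balanced, since the product with `alpha η ν` is not zero
  have hprod : classInner (D.alpha b η) (D.alpha η ν) = -1 := by
    rw [D.alpha_inner hsame, D.sum_tw_fixed hbf, D.sum_tw_good hη, D.sum_tw_fixed hbf, D.sum_tw_good hη,
      if_pos (D.rel_refl η), if_neg hνr, if_neg fun hh : b = η => hbf (hh ▸ hη),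
      if_neg fun hh : b = ν => hbf (hh ▸ hν)]
    ring
  obtain ⟨ψ, hψk, hψb⟩ : ∃ ψ : IrrCharacter G, k ψ ≠ 0 ∧ ¬ D.Balanced (ψ : G → ℂ) l₀ := by
    by_contra hall
    push Not at hall
    rw [hksum, classInner_sum_left, Finset.sum_eq_zero fun ψ _ => ?_] at hprod
    · norm_num at hprod
    · rw [classInner_smul_left]
      by_cases h0 : k ψ = 0
      · simp [h0]
      · rw [D.inner_alpha (isCharacter_of_irr ψ.2), hall ψ h0 η ν hη hν hηs hνs, sub_self, mul_zero]
  have hval : ∀ χ : IrrCharacter G, k χ = (mu (χ : G → ℂ) b : ℤ) - mu (χ : G → ℂ) η := by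
    intro χ
    have h6 := hkc χ
    rw [← classInner_comm, D.inner_alpha (isCharacter_of_irr χ.2)] at h6
    simp only [map_sub, map_natCast] at h6
    exact_mod_cast h6.symm
  have hψS : ψ ∉ S := fun hh => hψb (hbal ψ hh)
  have h1 : ∑ χ ∈ insert ψ S, k χ ^ 2 ≤ (e : ℤ) + 1 := hksq' ▸
    Finset.sum_le_sum_of_subset_of_nonneg (Finset.subset_univ _) fun _ _ _ => sq_nonneg _
  rw [Finset.sum_insert hψS] at h1
  have h2 : 0 < k ψ ^ 2 := by positivity
  simp only [hval] at h1 h2
  linarith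

end CZ

end CfsgLib.MaxSub.SU5Quintic
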