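/-
Hermitian spaces, the twisting cocycle of the Weil algebra, and twisted convolution.
-/
import Mathlib

set_option autoImplicit false
set_option linter.unusedSectionVars false

namespace CfsgLib.MaxSub.SU5Quintic

open scoped BigOperators

universe u v

variable {F : Type u} [Field F] [Fintype F] {V : Type v} [AddCommGroup V] [Module F V]

/-- A non-singular hermitian space over the field with `q ^ 2` elements, a parameter `xi` of trace one
off the fixed field, and an additive character that is non-trivial on the fixed field. -/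
structure Data (F : Type u) [Field F] [Fintype F] (V : Type v) [AddCommGroup V] [Module F V] where
  q : ℕ
  two_le : 2 ≤ q
  card_F : Fintype.card F = q ^ 2
  σ : F →+* F
  σ_apply : ∀ x, σ x = x ^ q
  form : V →ₗ[F] V →ₛₗ[σ] F
  herm : ∀ v w, σ (form v w) = form w v
  nondeg : ∀ v, (∀ w, form v w = 0) → v = 0
  xi : F
  xi_trace : xi + σ xi = 1
  xi_ne : σ xi ≠ xi
  psi : AddChar F ℂ
  psi_ne : ∃ x, σ x = x ∧ psi x ≠ 1

namespace Data

variable (D : Data F V)

/-- The norm of a vector. -/
def nrm (v : V) : F := D.form v v

/-- The trace to the fixed field. -/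
def tr (x : F) : F := x + D.σ x

/-- The cocycle. -/
noncomputable def coc (v w : V) : ℂ := D.psi (D.tr (D.xi * D.form v w))

/-- Twisted convolution. -/
noncomputable def conv [Fintype V] (a b : V → ℂ) : V → ℂ :=
  fun x => ∑ v, a v * b (x - v) * D.coc v (x - v)

/-- The isometry group. -/
def iso : Subgroup (V ≃ₗ[F] V) where
  carrier := {g | ∀ v w, D.form (g v) (g w) = D.form v w}
  one_mem' _ _ := rfl
  mul_mem' {g g'} hg hg' v w := (hg (g' v) (g' w)).trans (hg' v w)
  inv_mem' {g} hg v w := by
    have := hg (g⁻¹ v) (g⁻¹ w)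
    simp only [← LinearEquiv.mul_apply, mul_inv_cancel, LinearEquiv.coe_one, id_eq] at this
    exact this.symm

theorem mem_iso {g : V ≃ₗ[F] V} : g ∈ D.iso ↔ ∀ v w, D.form (g v) (g w) = D.form v w := Iff.rfl

/-- The parameter of a scalar of norm one other than one. -/
def par (lam : F) : F := (D.xi * lam - D.σ D.xi) / (lam - 1)

end Data

end CfsgLib.MaxSub.SU5Quintic
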