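/-
An isometry of prime order dividing `q ^ 2 + 1`: five eigenvalues, its centraliser and its fixed point.
-/
import Cfsg.Agent.Lib.MaxSub.SU5Quintic.Herm
import Mathlib.LinearAlgebra.Matrix.Charpoly.Eigs
import Mathlib.FieldTheory.IsAlgClosed.AlgebraicClosure

set_option autoImplicit false
set_option linter.unusedSectionVars false
set_option linter.style.haveILetI false
set_option maxHeartbeats 1000000
set_option maxRecDepth 4000

namespace CfsgLib.MaxSub.SU5Quintic

open Matrix Module

universe u v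

variable {F : Type u} [Field F] [Fintype F] {V : Type v} [AddCommGroup V] [Module F V]

/-- The matrix of an automorphism over the algebraic closure. -/
noncomputable def clMat (b : Basis (Fin 5) F V) : (V ≃ₗ[F] V) →* Matrix (Fin 5) (Fin 5) (AlgebraicClosure F) where
  toFun g := (LinearMap.toMatrix b b g.toLinearMap).map (algebraMap F (AlgebraicClosure F))
  map_one' := by
    rw [show ((1 : V ≃ₗ[F] V)).toLinearMap = LinearMap.id from rfl, LinearMap.toMatrix_id]
    exact Matrix.map_one _ (map_zero _) (map_one _)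
  map_mul' g g' := by
    rw [show (g * g').toLinearMap = g.toLinearMap ∘ₗ g'.toLinearMap from rfl, LinearMap.toMatrix_comp b b b,
      Matrix.map_mul]

theorem clMat_injective (b : Basis (Fin 5) F V) : Function.Injective (clMat b) := fun _ _ h =>
  LinearEquiv.toLinearMap_injective
    ((LinearMap.toMatrix b b).injective (Matrix.map_injective (algebraMap F (AlgebraicClosure F)).injective h))

/-- The Frobenius `q` of the algebraic closure. -/
theorem exists_clFrob {q : ℕ} (hF : Fintype.card F = q ^ 2) :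
    ∃ φ : AlgebraicClosure F →+* AlgebraicClosure F, ∀ x, φ x = x ^ q := by
  obtain ⟨p, hp⟩ := CharP.exists F
  obtain ⟨n, hpp, hcard⟩ := FiniteField.card F p
  obtain ⟨f, -, hf⟩ := (Nat.dvd_prime_pow hpp).1 (hcard ▸ hF.symm ▸ dvd_pow_self q two_ne_zero)
  haveI : Fact p.Prime := ⟨hpp⟩
  haveI : CharP (AlgebraicClosure F) p :=
    charP_of_injective_algebraMap (algebraMap F (AlgebraicClosure F)).injective _
  haveI : ExpChar (AlgebraicClosure F) p := ExpChar.prime hpp
  exact ⟨iterateFrobenius (AlgebraicClosure F) p f, fun x => by rw [iterateFrobenius_def, hf]⟩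

/-- The eigenvalues. -/
noncomputable def eig (q : ℕ) (x : AlgebraicClosure F) : Fin 5 → AlgebraicClosure F :=
  ![1, x ^ q ^ 0, x ^ q ^ 1, x ^ q ^ 2, x ^ q ^ 3]

/-- The successor of an eigenvalue under the form. -/
def eigNext : Fin 5 → Fin 5 := ![0, 2, 3, 4, 1]

/-- Coordinates in which an isometry of prime order dividing `q ^ 2 + 1` is diagonal. -/
structure EigFrame (D : Data F V) (s : V ≃ₗ[F] V) where
  x : AlgebraicClosure F
  C : (V ≃ₗ[F] V) →* Matrix (Fin 5) (Fin 5) (AlgebraicClosure F)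
  phi : AlgebraicClosure F →+* AlgebraicClosure F
  phi_apply : ∀ y, phi y = y ^ D.q
  inj : Function.Injective C
  det : ∀ g, (C g).det = algebraMap F (AlgebraicClosure F) (LinearMap.det (g : V →ₗ[F] V))
  apply_s : C s = Matrix.diagonal (eig D.q x)
  eig_inj : Function.Injective (eig D.q x)
  x_order : orderOf x = orderOf s
  x_pow : x ^ D.q ^ 4 = x
  rel : ∀ g ∈ D.iso, ∀ e : Fin 5 → AlgebraicClosure F, C g = Matrix.diagonal e →
    ∀ i, e i * e (eigNext i) ^ D.q = 1
  fixed : ∃ v : V, v ≠ 0 ∧ s v = v ∧ D.nrm v ≠ 0 ∧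
    ∀ (c : F) (w : V), w ≠ 0 → s w = c • w → ∃ a : F, w = a • v

namespace Data

variable (D : Data F V)

/-- Isometries of determinant one commuting with `s`. -/
noncomputable def cent (s : V ≃ₗ[F] V) : Subgroup (V ≃ₗ[F] V) :=
  D.iso ⊓ (LinearEquiv.det : (V ≃ₗ[F] V) →* Fˣ).ker ⊓ Subgroup.centralizer {s}

theorem mem_cent {s g : V ≃ₗ[F] V} :
    g ∈ D.cent s ↔ g ∈ D.iso ∧ LinearMap.det (g : V →ₗ[F] V) = 1 ∧ g * s = s * g := by
  simp only [cent, Subgroup.mem_inf, MonoidHom.mem_ker, Subgroup.mem_centralizer_singleton_iff, Units.ext_iff,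
    LinearEquiv.coe_det, Units.val_one, and_assoc]

theorem iso_expand (b : Basis (Fin 5) F V) {g : V ≃ₗ[F] V} (hg : g ∈ D.iso)
    (φ : AlgebraicClosure F →+* AlgebraicClosure F) (hφ : ∀ x, φ x = x ^ D.q) :
    (clMat b g)ᵀ * Matrix.of (fun i j => algebraMap F (AlgebraicClosure F) (D.form (b i) (b j))) *
      (clMat b g).map φ =
    Matrix.of (fun i j => algebraMap F (AlgebraicClosure F) (D.form (b i) (b j))) := by
  ext i j
  set A := LinearMap.toMatrix b b g.toLinearMap with hA
  have hcol : ∀ i, g (b i) = ∑ k, A k i • b k := fun i => by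
    simp only [hA, LinearMap.toMatrix_apply]
    exact (b.sum_repr _).symm
  have h1 : D.form (g (b i)) (g (b j)) = ∑ l, ∑ k, A k i * D.form (b k) (b l) * D.σ (A l j) := by
    rw [hcol i, hcol j, map_sum]
    refine Finset.sum_congr rfl fun l _ => ?_
    rw [LinearMap.map_smulₛₗ, map_sum, LinearMap.sum_apply, smul_eq_mul, Finset.mul_sum]
    refine Finset.sum_congr rfl fun k _ => ?_
    rw [map_smul, LinearMap.smul_apply, smul_eq_mul]
    ring
  rw [Matrix.mul_apply, Matrix.of_apply, ← hg (b i) (b j), h1, map_sum]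
  refine Finset.sum_congr rfl fun l _ => ?_
  rw [Matrix.mul_apply, map_sum, Finset.sum_mul]
  refine Finset.sum_congr rfl fun k _ => ?_
  show algebraMap F (AlgebraicClosure F) (A k i) * algebraMap F (AlgebraicClosure F) (D.form (b k) (b l)) *
    φ (algebraMap F (AlgebraicClosure F) (A l j)) = _
  rw [map_mul, map_mul, hφ, D.σ_apply, map_pow]

theorem gram_det_ne (b : Basis (Fin 5) F V) :
    (Matrix.of fun i j => algebraMap F (AlgebraicClosure F) (D.form (b i) (b j))).det ≠ 0 := by
  intro h0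
  have h1 : (Matrix.of fun i j => D.form (b i) (b j)).det = 0 := by
    apply (algebraMap F (AlgebraicClosure F)).injective
    rw [map_zero, RingHom.map_det]
    exact h0
  obtain ⟨w, hw, hw0⟩ := Matrix.exists_vecMul_eq_zero_iff.mpr h1
  refine hw (funext fun k => ?_)
  have hv : ∑ i, w i • b i = 0 := by
    refine D.nondeg _ fun x => ?_
    rw [← b.sum_repr x, map_sum]
    refine Finset.sum_eq_zero fun j _ => ?_
    rw [LinearMap.map_smulₛₗ]
    have h2 := congrFun hw0 j
    simp only [Matrix.vecMul, dotProduct, Matrix.of_apply, Pi.zero_apply] at h2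
    rw [map_sum, LinearMap.sum_apply, Finset.sum_congr rfl fun i _ => by
      rw [map_smul, LinearMap.smul_apply, smul_eq_mul], h2, smul_zero]
  exact Fintype.linearIndependent_iff.mp b.linearIndependent w hv k

theorem exists_eigFrame (hn : Module.finrank F V = 5) {s : V ≃ₗ[F] V} (hs : s ∈ D.iso)
    (hsdet : LinearMap.det (s : V →ₗ[F] V) = 1) {l : ℕ} (hl : l.Prime) (hl2 : l ≠ 2)
    (hlq : l ∣ D.q ^ 2 + 1) (hsl : orderOf s = l) : Nonempty (EigFrame D s) := by
  classical
  haveI : FiniteDimensional F V := FiniteDimensional.of_finrank_pos (by rw [hn]; norm_num)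
  set E := AlgebraicClosure F with hE
  let b : Basis (Fin 5) F V := Module.finBasisOfFinrankEq F V hn
  let G := clMat b
  let S : Matrix (Fin 5) (Fin 5) E := G s
  obtain ⟨φ, hφ⟩ := exists_clFrob (F := F) D.card_F
  let J : Matrix (Fin 5) (Fin 5) E := Matrix.of fun i j => algebraMap F E (D.form (b i) (b j))
  have hJ : J.det ≠ 0 := D.gram_det_ne b
  set q := D.q with hq
  have hq2 : 2 ≤ q := D.two_le
  -- arithmetic of `l`
  have hlF : (l : E) ≠ 0 := by
    intro h0
    have hpF : ((l : ℕ) : F) = 0 := by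
      apply (algebraMap F E).injective
      rw [map_natCast, h0, map_zero]
    have hqF : ((q : ℕ) : F) = 0 := by
      have h1 : ((Fintype.card F : ℕ) : F) = 0 := Nat.cast_card_eq_zero F
      rw [D.card_F, Nat.cast_pow] at h1
      exact pow_eq_zero_iff two_ne_zero |>.mp h1
    obtain ⟨c, hc⟩ := hlq
    have h2 := congrArg (fun n : ℕ => (n : F)) hc
    simp [hpF, hqF] at h2
  have hSl : S ^ l = 1 := by
    show G s ^ l = 1
    rw [← map_pow, ← hsl, pow_orderOf_eq_one, map_one]
  have hroot : ∀ y : E, S.charpoly.IsRoot y ↔ (Matrix.scalar (Fin 5) y - S).det = 0 := fun y => by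
    rw [Polynomial.IsRoot.def, Matrix.eval_charpoly]
  have hvec : ∀ y : E, S.charpoly.IsRoot y → ∃ w ≠ 0, S *ᵥ w = y • w := by
    intro y hy
    obtain ⟨w, hw, h0⟩ := Matrix.exists_mulVec_eq_zero_iff.mpr ((hroot y).mp hy)
    refine ⟨w, hw, ?_⟩
    rw [Matrix.sub_mulVec, sub_eq_zero] at h0
    rw [← h0]
    funext i
    simp [Matrix.mulVec_diagonal]
  have hunity : ∀ y : E, S.charpoly.IsRoot y → y ^ l = 1 := by
    intro y hy
    obtain ⟨w, hw, hSw⟩ := hvec y hy
    have h1 : ∀ n : ℕ, (S ^ n) *ᵥ w = y ^ n • w := fun n => by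
      induction n with
      | zero => simp
      | succ n ih => rw [pow_succ, ← Matrix.mulVec_mulVec, hSw, Matrix.mulVec_smul, ih, smul_smul, pow_succ']
    have h2 := h1 l
    rw [hSl, Matrix.one_mulVec] at h2
    obtain ⟨i, hi⟩ := Function.ne_iff.mp hw
    have h3 := congrFun h2 i
    rw [Pi.smul_apply, smul_eq_mul] at h3
    exact mul_right_cancel₀ hi (h3.symm.trans (one_mul _).symm)
  -- unitarity of the roots
  have hSJ : Sᵀ * J * S.map φ = J := D.iso_expand b hs φ hφ
  have hclosed : ∀ y : E, S.charpoly.IsRoot y → S.charpoly.IsRoot (y ^ q)⁻¹ := by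
    intro y hy
    have hy0 : y ≠ 0 := fun h0 => by
      have := hunity y hy
      rw [h0, zero_pow hl.ne_zero] at this
      exact zero_ne_one this
    have hy' : y ^ q ≠ 0 := pow_ne_zero _ hy0
    have h1 : (Matrix.scalar (Fin 5) (y ^ q) - S.map φ).det = 0 := by
      have h0 := congrArg φ ((hroot y).mp hy)
      rw [map_zero, RingHom.map_det, map_sub] at h0
      rw [← h0]
      congr 2
      ext i j
      by_cases hij : i = j
      · subst hij; simp [hφ]
      · simp [hij]
    have h2 : (y ^ q • S - 1).det = 0 := by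
      have h3 : (Sᵀ * J) * (Matrix.scalar (Fin 5) (y ^ q) - S.map φ) = (y ^ q • Sᵀ - 1) * J := by
        rw [Matrix.mul_sub, hSJ, Matrix.sub_mul, Matrix.one_mul, Matrix.smul_mul]
        congr 1
        rw [Matrix.scalar_apply, ← Matrix.smul_one_eq_diagonal, Matrix.mul_smul, Matrix.mul_one]
      have h4 := congrArg Matrix.det h3
      rw [Matrix.det_mul, h1, mul_zero, Matrix.det_mul, eq_comm, mul_eq_zero] at h4
      rw [← Matrix.det_transpose, Matrix.transpose_sub, Matrix.transpose_smul, Matrix.transpose_one]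
      exact h4.resolve_right hJ
    rw [hroot]
    have h5 : y ^ q • S - 1 = -(y ^ q) • (Matrix.scalar (Fin 5) (y ^ q)⁻¹ - S) := by
      rw [Matrix.scalar_apply, ← Matrix.smul_one_eq_diagonal, neg_smul, smul_sub, smul_smul,
        mul_inv_cancel₀ hy', one_smul, neg_sub]
    rw [h5, Matrix.det_smul, mul_eq_zero] at h2
    exact h2.resolve_left (pow_ne_zero _ (neg_ne_zero.mpr hy'))
  -- a root other than one
  have hmonic := Matrix.charpoly_monic S
  have hdeg : S.charpoly.natDegree = 5 := by rw [Matrix.charpoly_natDegree_eq_dim, Fintype.card_fin]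
  have hsplit : S.charpoly.Splits := IsAlgClosed.splits _
  have hcardroots : S.charpoly.roots.card = 5 := by rw [IsAlgClosed.card_roots_eq_natDegree, hdeg]
  obtain ⟨x, hx, hx1⟩ : ∃ x : E, S.charpoly.IsRoot x ∧ x ≠ 1 := by
    by_contra hall
    push Not at hall
    have h1 : S.charpoly = (Polynomial.X - Polynomial.C 1) ^ 5 := by
      rw [Polynomial.Splits.eq_prod_roots_of_monic hsplit hmonic,
        Multiset.eq_replicate.mpr ⟨hcardroots, fun y hy => hall y (Polynomial.isRoot_of_mem_roots hy)⟩]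
      simp
      ring
    have h2 : minpoly E S ∣ (Polynomial.X - Polynomial.C 1) ^ 5 := h1 ▸ Matrix.minpoly_dvd_charpoly S
    have h3 : minpoly E S ∣ Polynomial.X ^ l - Polynomial.C 1 := minpoly.dvd E S (by simp [hSl])
    have h4 : Squarefree (minpoly E S) :=
      Squarefree.squarefree_of_dvd h3 (Polynomial.separable_X_pow_sub_C (1 : E) hlF one_ne_zero).squarefree
    obtain ⟨r, hr⟩ := h4.isRadical 5 _ h2
    have h5 : S - 1 = 0 := by
      have h6 : Polynomial.aeval S (Polynomial.X - Polynomial.C (1 : E)) = 0 := by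
        rw [hr, map_mul, minpoly.aeval, zero_mul]
      simpa using h6
    have h7 : s = 1 := clMat_injective b ((sub_eq_zero.mp h5).trans (map_one _).symm)
    rw [h7, orderOf_one] at hsl
    exact hl.ne_one hsl.symm
  have hxl : x ^ l = 1 := hunity x hx
  have hx0 : x ≠ 0 := fun h0 => by rw [h0, zero_pow hl.ne_zero] at hxl; exact zero_ne_one hxl
  have hord : orderOf x = l := by
    haveI : Fact l.Prime := ⟨hl⟩
    exact orderOf_eq_prime hxl hx1
  have hq21 : x ^ (q ^ 2 + 1) = 1 := by
    obtain ⟨c, hc⟩ := hlq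
    rw [hc, pow_mul, hxl, one_pow]
  have hxq2 : x ^ (q ^ 2) = x⁻¹ := eq_inv_of_mul_eq_one_left (by rw [← pow_succ]; exact hq21)
  have hxne : x ^ (q ^ 2) ≠ x := by
    intro h
    have h2 : x ^ 2 = 1 := by rw [← hq21, pow_succ x (q ^ 2), h, pow_two]
    have h3 := orderOf_dvd_of_pow_eq_one h2
    rw [hord] at h3
    exact hl2 ((Nat.prime_dvd_prime_iff_eq hl Nat.prime_two).mp h3)
  have hx4 : x ^ (q ^ 4) = x := by
    rw [show q ^ 4 = q ^ 2 * q ^ 2 by ring, pow_mul, hxq2, inv_pow, hxq2, inv_inv]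
  have hφi : ∀ (n : ℕ) (y : E), (⇑φ)^[n] y = y ^ q ^ n := fun n y => by
    induction n with
    | zero => simp
    | succ n ih => rw [Function.iterate_succ_apply', ih, hφ, ← pow_mul, pow_succ]
  have hpow_inj : ∀ (n : ℕ) (y z : E), y ^ q ^ n = z ^ q ^ n → y = z := fun n y z h =>
    φ.injective.iterate n (by rw [hφi, hφi, h])
  have hxt : ∀ t, 0 < t → t < 4 → x ^ q ^ t ≠ x := by
    intro t ht ht4 h
    rcases (by omega : t = 1 ∨ t = 2 ∨ t = 3) with rfl | rfl | rfl
    · refine hxne ?_
      rw [show q ^ 2 = q ^ 1 * q ^ 1 by ring, pow_mul, h, h]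
    · exact hxne h
    · refine hxne ?_
      have h1 : x = x ^ q := by
        calc x = x ^ q ^ 4 := hx4.symm
          _ = (x ^ q ^ 3) ^ q := by rw [← pow_mul, ← pow_succ]
          _ = x ^ q := by rw [h]
      rw [pow_two, pow_mul, ← h1, ← h1]
  have hroot3 : ∀ i < 4, S.charpoly.IsRoot (x ^ q ^ i) := by
    have h1 := hclosed x hx
    have h2 := hclosed _ h1
    have h3 := hclosed _ h2
    intro i hi
    rcases (by omega : i = 0 ∨ i = 1 ∨ i = 2 ∨ i = 3) with rfl | rfl | rfl | rfl
    · simpa using hx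
    · have e : ((((x ^ q)⁻¹) ^ q)⁻¹ ^ q)⁻¹ = x ^ q ^ 1 := by
        rw [inv_pow (x ^ q), inv_inv, ← pow_mul, ← pow_mul]
        refine inv_eq_of_mul_eq_one_left ?_
        rw [← pow_add, show q ^ 1 + q * (q * q) = (q ^ 2 + 1) * q by ring, pow_mul, hq21, one_pow]
      exact e ▸ h3
    · convert h2 using 1
      rw [inv_pow, inv_inv, ← pow_mul]
      ring_nf
    · convert h1 using 1
      refine eq_inv_of_mul_eq_one_left ?_
      rw [← pow_add, show q ^ 3 + q = (q ^ 2 + 1) * q by ring, pow_mul, hq21, one_pow]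
  let d : Fin 5 → E := eig q x
  have hd0 : d 0 = 1 := rfl
  have hd : ∀ i : Fin 4, d i.succ = x ^ q ^ (i : ℕ) := fun i => by fin_cases i <;> rfl
  have hpow1 : ∀ i : ℕ, x ^ q ^ i ≠ 1 := fun i h => hx1 (hpow_inj i x 1 (by rw [h, one_pow]))
  have hpinj : ∀ i j : ℕ, i < 4 → j < 4 → x ^ q ^ i = x ^ q ^ j → i = j := by
    have key : ∀ i j : ℕ, i < j → j < 4 → x ^ q ^ i ≠ x ^ q ^ j := by
      intro i j hij hj h
      refine hxt (j - i) (by omega) (by omega) (hpow_inj i _ _ ?_)
      rw [← pow_mul, ← pow_add, Nat.sub_add_cancel hij.le, h]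
    intro i j hi hj h
    rcases lt_trichotomy i j with h1 | h1 | h1
    · exact absurd h (key i j h1 hj)
    · exact h1
    · exact absurd h.symm (key j i h1 hi)
  have hdinj : Function.Injective d := by
    intro i j hij
    rcases Fin.eq_zero_or_eq_succ i with rfl | ⟨i, rfl⟩ <;> rcases Fin.eq_zero_or_eq_succ j with rfl | ⟨j, rfl⟩
    · rfl
    · rw [hd0, hd] at hij; exact absurd hij.symm (hpow1 _)
    · rw [hd0, hd] at hij; exact absurd hij (hpow1 _)
    · rw [hd, hd] at hij; rw [Fin.ext (hpinj _ _ i.2 j.2 hij)]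
  have hdetS : S.det = 1 := by
    show (G s).det = 1
    have h1 : (G s).det = algebraMap F E (LinearMap.toMatrix b b s.toLinearMap).det := by
      rw [RingHom.map_det]; rfl
    rw [h1, LinearMap.det_toMatrix, hsdet, map_one]
  have hroot1 : S.charpoly.IsRoot 1 := by
    let R4 : Finset E := Finset.univ.image fun i : Fin 4 => x ^ q ^ (i : ℕ)
    have hc4 : R4.card = 4 := by
      rw [Finset.card_image_of_injective _ fun i j h => Fin.ext (hpinj _ _ i.2 j.2 h)]
      simp
    have hle : R4.val ≤ S.charpoly.roots := (Multiset.le_iff_subset R4.nodup).mpr fun y hy => by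
      obtain ⟨i, -, rfl⟩ := Finset.mem_image.mp (Finset.mem_val.mp hy)
      exact (Polynomial.mem_roots hmonic.ne_zero).mpr (hroot3 _ i.2)
    obtain ⟨rest, hrest⟩ := Multiset.le_iff_exists_add.mp hle
    have hc1 : rest.card = 1 := by
      have h := congrArg Multiset.card hrest
      rw [hcardroots, Multiset.card_add, ← Finset.card_def, hc4] at h
      omega
    obtain ⟨r, rfl⟩ := Multiset.card_eq_one.mp hc1
    have hprod := Matrix.det_eq_prod_roots_charpoly (A := S)
    rw [hdetS, hrest, Multiset.prod_add, Multiset.prod_singleton, Finset.prod_val] at hprod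
    have h4 : ∏ y ∈ R4, y = 1 := by
      rw [Finset.prod_image fun i _ j _ h => Fin.ext (hpinj _ _ i.2 j.2 h), Finset.prod_pow_eq_pow_sum,
        Fin.sum_univ_four, show q ^ ((0 : Fin 4) : ℕ) + q ^ ((1 : Fin 4) : ℕ) + q ^ ((2 : Fin 4) : ℕ) +
          q ^ ((3 : Fin 4) : ℕ) = (q ^ 2 + 1) * (q + 1) from by
            show q ^ 0 + q ^ 1 + q ^ 2 + q ^ 3 = _; ring, pow_mul, hq21, one_pow]
    rw [show R4.prod id = ∏ y ∈ R4, y from rfl, h4, one_mul] at hprod
    rw [hprod]
    exact Polynomial.isRoot_of_mem_roots (hrest ▸ Multiset.mem_add.mpr (Or.inr (Multiset.mem_singleton_self r)))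
  have hdroot : ∀ i, S.charpoly.IsRoot (d i) := fun i => by
    rcases Fin.eq_zero_or_eq_succ i with rfl | ⟨i, rfl⟩
    · exact hroot1
    · rw [hd]; exact hroot3 _ i.2
  -- diagonalisation
  choose w hw0 hw using fun i => hvec (d i) (hdroot i)
  let P : Matrix (Fin 5) (Fin 5) E := Matrix.of fun i j => w j i
  have hli : LinearIndependent E w := by
    refine Module.End.eigenvectors_linearIndependent' (Matrix.toLin' S) d hdinj w fun i => ⟨?_, hw0 i⟩
    rw [Module.End.mem_eigenspace_iff, Matrix.toLin'_apply, hw i]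
  have hPu : IsUnit P := Matrix.linearIndependent_cols_iff_isUnit.mp hli
  have hPdet : IsUnit P.det := (Matrix.isUnit_iff_isUnit_det P).mp hPu
  have hSP : S * P = P * Matrix.diagonal d := by
    ext i j
    rw [Matrix.mul_diagonal]
    have h1 := congrFun (hw j) i
    rw [Pi.smul_apply, smul_eq_mul, mul_comm] at h1
    exact h1
  let C : (V ≃ₗ[F] V) →* Matrix (Fin 5) (Fin 5) E :=
    { toFun := fun g => P⁻¹ * G g * P
      map_one' := by rw [map_one, Matrix.mul_one, Matrix.nonsing_inv_mul _ hPdet]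
      map_mul' := fun g g' => by
        rw [map_mul]
        simp only [Matrix.mul_assoc, Matrix.mul_nonsing_inv_cancel_left _ _ hPdet] }
  have hGC : ∀ g, G g * P = P * C g := fun g => by
    show _ = P * (P⁻¹ * G g * P)
    rw [Matrix.mul_assoc P⁻¹, Matrix.mul_nonsing_inv_cancel_left _ _ hPdet]
  have hCinj : Function.Injective C := fun g g' h => clMat_injective b (by
    have h1 : G g * P = G g' * P := by rw [hGC, hGC, h]
    calc G g = G g * P * P⁻¹ := (Matrix.mul_nonsing_inv_cancel_right _ _ hPdet).symm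
      _ = G g' := by rw [h1, Matrix.mul_nonsing_inv_cancel_right _ _ hPdet])
  have hCs : C s = Matrix.diagonal d := by
    show P⁻¹ * S * P = _
    rw [Matrix.mul_assoc, hSP, Matrix.nonsing_inv_mul_cancel_left _ _ hPdet]
  have hdiag : ∀ (g h : V ≃ₗ[F] V) (e : Fin 5 → E), C h = Matrix.diagonal e → Function.Injective e →
      g * h = h * g → C g = Matrix.diagonal fun i => C g i i := by
    intro g h e he heinj hgh
    have h1 := congrArg C hgh
    rw [map_mul, map_mul, he] at h1
    ext i j
    by_cases hij : i = j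
    · subst hij; rw [Matrix.diagonal_apply_eq]
    · rw [Matrix.diagonal_apply_ne _ hij]
      have h2 := congrFun (congrFun h1 i) j
      rw [Matrix.mul_diagonal, Matrix.diagonal_mul] at h2
      by_contra h0
      exact hij (heinj (mul_left_cancel₀ h0 (by rw [mul_comm _ (e i), h2])))
  -- the transformed form
  let K : Matrix (Fin 5) (Fin 5) E := Pᵀ * J * P.map φ
  have hK : ∀ g ∈ D.iso, (C g)ᵀ * K * (C g).map φ = K := by
    intro g hg
    calc (C g)ᵀ * K * (C g).map φ = (P * C g)ᵀ * J * (P * C g).map φ := by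
          rw [Matrix.transpose_mul, Matrix.map_mul]; simp only [K, Matrix.mul_assoc]
      _ = (G g * P)ᵀ * J * (G g * P).map φ := by rw [hGC]
      _ = Pᵀ * ((G g)ᵀ * J * (G g).map φ) * P.map φ := by
          rw [Matrix.transpose_mul, Matrix.map_mul]; simp only [Matrix.mul_assoc]
      _ = K := by rw [D.iso_expand b hg φ hφ]
  have hKdiag : ∀ g ∈ D.iso, ∀ e : Fin 5 → E, C g = Matrix.diagonal e → ∀ i j, K i j ≠ 0 → e i * e j ^ q = 1 := by
    intro g hg e he i j hne
    have h1 := congrFun (congrFun (hK g hg) i) j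
    rw [he, Matrix.diagonal_transpose, Matrix.diagonal_map (map_zero _), Matrix.mul_diagonal,
      Matrix.diagonal_mul] at h1
    refine mul_right_cancel₀ hne ?_
    rw [one_mul]
    calc e i * e j ^ q * K i j = e i * K i j * φ (e j) := by rw [hφ]; ring
      _ = K i j := h1
  let nx : Fin 5 → Fin 5 := eigNext
  have hnx : ∀ i, d i * d (nx i) ^ q = 1 := by
    intro i
    fin_cases i
    · show (1 : E) * 1 ^ q = 1
      rw [one_pow, mul_one]
    · show x ^ q ^ 0 * (x ^ q ^ 1) ^ q = 1
      rw [← pow_mul, ← pow_add, show q ^ 0 + q ^ 1 * q = q ^ 2 + 1 by ring, hq21]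
    · show x ^ q ^ 1 * (x ^ q ^ 2) ^ q = 1
      rw [← pow_mul, ← pow_add, show q ^ 1 + q ^ 2 * q = (q ^ 2 + 1) * q by ring, pow_mul, hq21, one_pow]
    · show x ^ q ^ 2 * (x ^ q ^ 3) ^ q = 1
      rw [← pow_mul, ← pow_add, show q ^ 2 + q ^ 3 * q = (q ^ 2 + 1) * (q * q) by ring, pow_mul, hq21, one_pow]
    · show x ^ q ^ 3 * (x ^ q ^ 0) ^ q = 1
      rw [← pow_mul, ← pow_add, show q ^ 3 + q ^ 0 * q = (q ^ 2 + 1) * q by ring, pow_mul, hq21, one_pow]
  have hKdet : K.det ≠ 0 := by
    rw [Matrix.det_mul, Matrix.det_mul, Matrix.det_transpose]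
    refine mul_ne_zero (mul_ne_zero hPdet.ne_zero hJ) ?_
    have h1 : (P.map φ).det = φ P.det := (φ.map_det P).symm
    rw [h1]
    exact (map_ne_zero φ).mpr hPdet.ne_zero
  have hKnx : ∀ i, K i (nx i) ≠ 0 := by
    intro i hi
    refine hKdet (Matrix.det_eq_zero_of_row_eq_zero i fun j => ?_)
    by_contra hne
    have h1 := hKdiag s hs d hCs i j hne
    have h2 : d j ^ q ^ 1 = d (nx i) ^ q ^ 1 := by
      rw [pow_one]
      exact mul_left_cancel₀ (left_ne_zero_of_mul_eq_one h1) (h1.trans (hnx i).symm)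
    exact hne (hdinj (hpow_inj 1 _ _ h2) ▸ hi)
  have hdetC : ∀ g, (C g).det = algebraMap F E (LinearMap.det (g : V →ₗ[F] V)) := by
    intro g
    show (P⁻¹ * G g * P).det = _
    rw [Matrix.det_mul, Matrix.det_mul, mul_comm, ← mul_assoc, ← Matrix.det_mul,
      Matrix.mul_nonsing_inv _ hPdet, Matrix.det_one, one_mul]
    have h2 : (G g).det = algebraMap F E (LinearMap.toMatrix b b g.toLinearMap).det := by
      rw [RingHom.map_det]; rfl
    rw [h2, LinearMap.det_toMatrix]
  refine ⟨⟨x, C, φ, hφ, hCinj, hdetC, hCs, hdinj, hord.trans hsl.symm, hx4,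
    fun g hg e he i => hKdiag g hg e he i (nx i) (hKnx i), ?_⟩⟩
  have h0 : (Matrix.scalar (Fin 5) (1 : E) - S).det = 0 := (hroot 1).mp hroot1
  let A := LinearMap.toMatrix b b s.toLinearMap
  have h1 : (Matrix.scalar (Fin 5) (1 : F) - A).det = 0 := by
    apply (algebraMap F E).injective
    rw [map_zero, RingHom.map_det, ← h0, map_sub]
    congr 2
    rw [map_one, map_one, map_one]
  obtain ⟨a, ha, ha0⟩ := Matrix.exists_mulVec_eq_zero_iff.mpr h1
  let v : V := b.equivFun.symm a
  have hva : ⇑(b.repr v) = a := b.equivFun.apply_symm_apply a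
  have hv0 : v ≠ 0 := fun h => ha (by rw [← hva, h, map_zero]; rfl)
  have hsv : s v = v := by
    refine b.repr.injective (Finsupp.ext fun i => ?_)
    have h2 := LinearMap.toMatrix_mulVec_repr b b s.toLinearMap v
    have h3 := congrFun ha0 i
    rw [hva] at h2
    rw [Matrix.sub_mulVec, map_one, Matrix.one_mulVec, Pi.sub_apply, Pi.zero_apply, sub_eq_zero] at h3
    have h4 := congrFun h2 i
    change (A *ᵥ a) i = b.repr (s v) i at h4
    rw [← h4, ← h3, ← hva]
  -- coordinates of fixed vectors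
  have hfix : ∀ (c : F) (z : V), z ≠ 0 → s z = c • z →
      ∃ t : E, t ≠ 0 ∧ (fun i => algebraMap F E (b.repr z i)) = t • w 0 := by
    intro c z hz hsz
    let Z : Fin 5 → E := fun i => algebraMap F E (b.repr z i)
    have hZ0 : Z ≠ 0 := fun h => hz (b.repr.injective (Finsupp.ext fun i => by
      have h2 : algebraMap F E (b.repr z i) = 0 := congrFun h i
      rw [map_eq_zero_iff _ (algebraMap F E).injective] at h2
      simpa using h2))
    have hSZ : S *ᵥ Z = algebraMap F E c • Z := by
      funext i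
      have h2 := congrArg (algebraMap F E) (congrFun (LinearMap.toMatrix_mulVec_repr b b s.toLinearMap z) i)
      rw [show (s.toLinearMap z) = c • z from hsz] at h2
      simp only [Matrix.mulVec, dotProduct, map_sum, map_mul, map_smul, Finsupp.smul_apply, smul_eq_mul] at h2
      exact h2
    let y := P⁻¹ *ᵥ Z
    have hPy : P *ᵥ y = Z := by rw [Matrix.mulVec_mulVec, Matrix.mul_nonsing_inv _ hPdet, Matrix.one_mulVec]
    have hy : ∀ i, d i * y i = algebraMap F E c * y i := by
      intro i
      have h2 : Matrix.diagonal d *ᵥ y = algebraMap F E c • y := by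
        rw [← hCs]
        show (P⁻¹ * S * P) *ᵥ y = _
        rw [← Matrix.mulVec_mulVec, hPy, ← Matrix.mulVec_mulVec, hSZ, Matrix.mulVec_smul]
      have h3 := congrFun h2 i
      rwa [Matrix.mulVec_diagonal, Pi.smul_apply, smul_eq_mul] at h3
    have hy0 : ∀ i, i ≠ 0 → y i = 0 := by
      intro i hi
      by_contra hne
      have hdc : d i = algebraMap F E c := mul_right_cancel₀ hne (hy i)
      obtain ⟨i', rfl⟩ := (Fin.eq_zero_or_eq_succ i).resolve_left hi
      rw [hd] at hdc
      have hc : φ (φ (algebraMap F E c)) = algebraMap F E c := by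
        rw [show φ (φ (algebraMap F E c)) = algebraMap F E c ^ q ^ 2 from hφi 2 _, ← map_pow, hq, ← D.card_F,
          FiniteField.pow_card]
      rw [← hdc, show φ (φ (x ^ q ^ (i' : ℕ))) = (x ^ q ^ (i' : ℕ)) ^ q ^ 2 from hφi 2 _] at hc
      refine hxt 2 (by norm_num) (by norm_num) (hpow_inj (i' : ℕ) _ _ ?_)
      rw [← pow_mul, mul_comm, pow_mul, hc]
    have hZ : Z = y 0 • w 0 := by
      rw [← hPy]
      funext i
      rw [Matrix.mulVec, dotProduct, Finset.sum_eq_single 0 (fun j _ hj => by rw [hy0 j hj, mul_zero])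
        (fun h => absurd (Finset.mem_univ _) h)]
      show w 0 i * y 0 = y 0 * w 0 i
      exact mul_comm _ _
    exact ⟨y 0, fun h => hZ0 (by rw [hZ, h, zero_smul]), hZ⟩
  obtain ⟨t, ht0, ht⟩ := hfix 1 v hv0 (by rw [one_smul]; exact hsv)
  refine ⟨v, hv0, hsv, ?_, fun c z hz hsz => ?_⟩
  · intro hn0
    have h2 : algebraMap F E (D.nrm v) = t * t ^ q * K 0 0 := by
      have e1 : D.nrm v = ∑ j, ∑ i, b.repr v i * D.form (b i) (b j) * D.σ (b.repr v j) := by
        show D.form v v = _
        conv_lhs => rw [← b.sum_repr v]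
        rw [map_sum]
        refine Finset.sum_congr rfl fun j _ => ?_
        rw [LinearMap.map_smulₛₗ, map_sum, LinearMap.sum_apply, smul_eq_mul, Finset.mul_sum]
        refine Finset.sum_congr rfl fun i _ => ?_
        rw [map_smul, LinearMap.smul_apply, smul_eq_mul]
        ring
      rw [e1, map_sum]
      show _ = t * t ^ q * (Pᵀ * J * P.map φ) 0 0
      rw [Matrix.mul_apply, Finset.mul_sum]
      refine Finset.sum_congr rfl fun j _ => ?_
      rw [map_sum, Matrix.mul_apply, Finset.sum_mul, Finset.mul_sum]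
      refine Finset.sum_congr rfl fun i _ => ?_
      have hi : algebraMap F E (b.repr v i) = t * w 0 i := congrFun ht i
      have hj : algebraMap F E (b.repr v j) = t * w 0 j := congrFun ht j
      rw [map_mul, map_mul, D.σ_apply, map_pow, hi, hj]
      show _ = t * t ^ q * (w 0 i * algebraMap F E (D.form (b i) (b j)) * φ (w 0 j))
      rw [hφ]
      ring
    rw [hn0, map_zero, eq_comm, mul_eq_zero] at h2
    exact hKnx 0 (h2.resolve_left (mul_ne_zero ht0 (pow_ne_zero _ ht0)))
  · obtain ⟨t', -, ht'⟩ := hfix c z hz hsz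
    obtain ⟨k, hk⟩ : ∃ k, b.repr v k ≠ 0 := by
      by_contra hall
      push Not at hall
      exact hv0 (b.repr.injective (Finsupp.ext fun k => by simp [hall k]))
    refine ⟨b.repr z k / b.repr v k, b.repr.injective (Finsupp.ext fun i => (algebraMap F E).injective ?_)⟩
    have e1 := congrFun ht i
    have e2 := congrFun ht k
    have e3 := congrFun ht' i
    have e4 := congrFun ht' k
    simp only [Pi.smul_apply, smul_eq_mul] at e1 e2 e3 e4
    have hk' : algebraMap F E (b.repr v k) ≠ 0 := fun h0 => hk ((map_eq_zero_iff _ (algebraMap F E).injective).mp h0)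
    rw [map_smul, Finsupp.smul_apply, smul_eq_mul, map_mul, map_div₀, eq_comm, div_mul_eq_mul_div,
      div_eq_iff hk', e1, e2, e3, e4]
    ring


end Data

end CfsgLib.MaxSub.SU5Quintic
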