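/-
The centraliser and normaliser of an isometry of prime order dividing `q ^ 2 + 1`.
-/
import Cfsg.Agent.Lib.MaxSub.SU5Quintic.Eigen

set_option autoImplicit false
set_option linter.unusedSectionVars false
set_option linter.style.haveILetI false

namespace CfsgLib.MaxSub.SU5Quintic

open Matrix Module

universe u v

/-- Five values with distinct squares of the Frobenius form an injective family. -/
theorem injective_five {α : Type*} {f : Fin 5 → α} (h01 : f 0 ≠ f 1) (h02 : f 0 ≠ f 2) (h03 : f 0 ≠ f 3)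
    (h04 : f 0 ≠ f 4) (h12 : f 1 ≠ f 2) (h13 : f 1 ≠ f 3) (h14 : f 1 ≠ f 4) (h23 : f 2 ≠ f 3)
    (h24 : f 2 ≠ f 4) (h34 : f 3 ≠ f 4) : Function.Injective f := by
  intro i j hij
  by_contra hne
  fin_cases i <;> fin_cases j <;> simp_all [eq_comm]

variable {F : Type u} [Field F] [Fintype F] {V : Type v} [AddCommGroup V] [Module F V] {D : Data F V}
  {s : V ≃ₗ[F] V}

namespace EigFrame

variable (P : EigFrame D s)

theorem diag {g h : V ≃ₗ[F] V} {e : Fin 5 → AlgebraicClosure F} (he : P.C h = diagonal e)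
    (hinj : Function.Injective e) (hgh : g * h = h * g) : P.C g = diagonal fun i => P.C g i i := by
  have h1 := congrArg P.C hgh
  rw [map_mul, map_mul, he] at h1
  ext i j
  by_cases hij : i = j
  · subst hij; rw [diagonal_apply_eq]
  · rw [diagonal_apply_ne _ hij]
    have h2 := congrFun (congrFun h1 i) j
    rw [mul_diagonal, diagonal_mul, mul_comm (e i)] at h2
    by_contra h0
    exact hij (hinj (mul_left_cancel₀ h0 h2).symm)

theorem cent_diag (h : D.cent s) : P.C h = diagonal fun i => P.C h i i :=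
  P.diag P.apply_s P.eig_inj (D.mem_cent.mp h.2).2.2

theorem cent_rel (h : D.cent s) (i : Fin 5) :
    P.C h i i * P.phi (P.C h (eigNext i) (eigNext i)) = 1 := by
  rw [P.phi_apply]
  exact P.rel _ (D.mem_cent.mp h.2).1 _ (P.cent_diag h) i

theorem cent_ne (h : D.cent s) (i : Fin 5) : P.C h i i ≠ 0 := left_ne_zero_of_mul_eq_one (P.cent_rel h i)

theorem cent_val (h : D.cent s) :
    P.C h 4 4 = (P.phi (P.C h 1 1))⁻¹ ∧ P.C h 3 3 = P.phi (P.phi (P.C h 1 1)) ∧
      P.C h 2 2 = (P.phi (P.phi (P.phi (P.C h 1 1))))⁻¹ ∧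
      P.C h 1 1 = P.phi (P.phi (P.phi (P.phi (P.C h 1 1)))) := by
  have e1 : P.C h 1 1 = (P.phi (P.C h 2 2))⁻¹ := eq_inv_of_mul_eq_one_left (P.cent_rel h 1)
  have e2 : P.C h 2 2 = (P.phi (P.C h 3 3))⁻¹ := eq_inv_of_mul_eq_one_left (P.cent_rel h 2)
  have e3 : P.C h 3 3 = (P.phi (P.C h 4 4))⁻¹ := eq_inv_of_mul_eq_one_left (P.cent_rel h 3)
  have e4 : P.C h 4 4 = (P.phi (P.C h 1 1))⁻¹ := eq_inv_of_mul_eq_one_left (P.cent_rel h 4)
  have f3 : P.C h 3 3 = P.phi (P.phi (P.C h 1 1)) := by rw [e3, e4, map_inv₀, _root_.inv_inv]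
  have f2 : P.C h 2 2 = (P.phi (P.phi (P.phi (P.C h 1 1))))⁻¹ := by rw [e2, f3]
  refine ⟨e4, f3, f2, ?_⟩
  conv_lhs => rw [e1, f2, map_inv₀, _root_.inv_inv]

theorem cent_zero (h : D.cent s) : P.phi (P.C h 0 0) = (P.C h 0 0)⁻¹ :=
  eq_inv_of_mul_eq_one_left ((mul_comm _ _).trans (P.cent_rel h 0))

/-- The character of the centraliser. -/
noncomputable def ev : D.cent s →* (AlgebraicClosure F)ˣ :=
  MonoidHom.toHomUnits
    { toFun := fun h => P.C h 1 1
      map_one' := by rw [Subgroup.coe_one, map_one, one_apply_eq]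
      map_mul' := fun g h => by rw [Subgroup.coe_mul, map_mul, P.cent_diag g, diagonal_mul, diagonal_apply_eq] }

theorem ev_apply (h : D.cent s) : ((P.ev h : (AlgebraicClosure F)ˣ) : AlgebraicClosure F) = P.C h 1 1 := rfl

theorem ev_injective : Function.Injective P.ev := by
  rw [injective_iff_map_eq_one]
  intro h h1
  have hu : P.C h 1 1 = 1 := congrArg (fun u : (AlgebraicClosure F)ˣ => (u : AlgebraicClosure F)) h1
  obtain ⟨e4, e3, e2, -⟩ := P.cent_val h
  rw [hu, map_one] at e4 e3 e2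
  simp only [map_one, _root_.inv_one] at e4 e3 e2
  have hdet := P.det (h : V ≃ₗ[F] V)
  rw [(D.mem_cent.mp h.2).2.1, map_one, P.cent_diag h, det_diagonal, Fin.prod_univ_five, hu, e2, e3, e4] at hdet
  simp only [mul_one] at hdet
  refine Subtype.ext (P.inj ?_)
  refine (P.cent_diag h).trans (Eq.trans ?_ (diagonal_one.trans (map_one P.C).symm))
  refine congrArg diagonal (funext fun i => ?_)
  fin_cases i
  exacts [hdet, hu, e2, e3, e4]

theorem phi_sq (y : AlgebraicClosure F) : P.phi (P.phi y) = y ^ D.q ^ 2 := by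
  rw [P.phi_apply, P.phi_apply, ← pow_mul, pow_two]

theorem ev_pow (h : D.cent s) : P.ev h ^ (D.q ^ 4 - 1) = 1 := by
  apply Units.ext
  rw [Units.val_pow_eq_pow_val, Units.val_one, P.ev_apply]
  have h1 : P.C h 1 1 ^ D.q ^ 4 = P.C h 1 1 := by
    conv_rhs => rw [(P.cent_val h).2.2.2]
    rw [P.phi_sq, P.phi_sq, ← pow_mul]
    congr 1
    ring
  obtain ⟨r, hr⟩ : ∃ r, D.q ^ 4 = r + 1 :=
    ⟨D.q ^ 4 - 1, by have := Nat.one_le_pow 4 D.q (by have := D.two_le; omega); omega⟩
  rw [hr] at h1 ⊢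
  rw [Nat.add_sub_cancel]
  rw [pow_succ] at h1
  exact mul_right_cancel₀ (P.cent_ne h 1) (h1.trans (one_mul _).symm)

/-- An element of the centraliser off the ground field is centralised by the centraliser alone. -/
theorem regular (h : D.cent s) (hreg : P.ev h ^ (D.q ^ 2 - 1) ≠ 1) (g : V ≃ₗ[F] V) (hgh : g * h = h * g) :
    g * s = s * g := by
  obtain ⟨e4, e3, e2, e1⟩ := P.cent_val h
  have h0F : P.phi (P.phi (P.C h 0 0)) = P.C h 0 0 := by
    rw [P.cent_zero, map_inv₀, P.cent_zero, _root_.inv_inv]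
  have hu0 := P.cent_ne h 1
  have huF : P.phi (P.phi (P.C h 1 1)) ≠ P.C h 1 1 := by
    intro h1
    refine hreg (Units.ext ?_)
    rw [Units.val_pow_eq_pow_val, Units.val_one, P.ev_apply]
    obtain ⟨r, hr⟩ : ∃ r, D.q ^ 2 = r + 1 :=
      ⟨D.q ^ 2 - 1, by have := Nat.one_le_pow 2 D.q (by have := D.two_le; omega); omega⟩
    rw [P.phi_sq, hr, pow_succ] at h1
    rw [hr, Nat.add_sub_cancel]
    exact mul_right_cancel₀ hu0 (h1.trans (one_mul _).symm)
  have huq : P.phi (P.C h 1 1) ≠ (P.C h 1 1)⁻¹ := fun h1 => huF (by rw [h1, map_inv₀, h1, _root_.inv_inv])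
  have hinj : Function.Injective fun i => P.C h i i := by
    have key : ∀ i : Fin 5, P.phi (P.phi (P.C h i i)) ≠ P.C h i i → P.C h 0 0 ≠ P.C h i i := fun i hi h1 =>
      hi (by rw [← h1]; exact h0F)
    refine injective_five (key 1 huF) (key 2 ?_) (key 3 ?_) (key 4 ?_) ?_ ?_ ?_ ?_ ?_ ?_
    · intro h1
      rw [e2] at h1
      simp only [map_inv₀, _root_.inv_inj, P.phi.injective.eq_iff] at h1
      exact huF h1
    · intro h1
      rw [e3] at h1
      simp only [P.phi.injective.eq_iff] at h1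
      exact huF h1
    · intro h1
      rw [e4] at h1
      simp only [map_inv₀, _root_.inv_inj, P.phi.injective.eq_iff] at h1
      exact huF h1
    · intro h1
      rw [e2] at h1
      refine huq ?_
      have h3 := congrArg P.phi h1
      rw [map_inv₀, ← e1] at h3
      exact h3
    · intro h1
      rw [e3] at h1
      exact huF h1.symm
    · intro h1
      rw [e4] at h1
      refine huq ?_
      rw [inv_eq_iff_eq_inv.mp h1.symm]
    · intro h1
      rw [e2, e3] at h1
      refine huq (P.phi.injective (P.phi.injective ?_))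
      rw [map_inv₀, map_inv₀]
      exact inv_eq_iff_eq_inv.mp h1
    · intro h1
      rw [e2, e4] at h1
      simp only [_root_.inv_inj, P.phi.injective.eq_iff] at h1
      exact huF h1
    · intro h1
      rw [e3, e4] at h1
      refine huq (P.phi.injective ?_)
      rw [h1, map_inv₀]
  apply P.inj
  rw [map_mul, map_mul, P.apply_s, P.diag (P.cent_diag h) hinj hgh, diagonal_mul_diagonal, diagonal_mul_diagonal]
  exact congrArg diagonal (funext fun i => mul_comm _ _)

include P in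
/-- The conjugates of `s` among its powers. -/
theorem conj_pow (g : V ≃ₗ[F] V) (j : ℕ) (hgj : g * s = s ^ j * g) : ∃ i < 4, g * s = s ^ D.q ^ i * g := by
  have h1 := congrArg P.C hgj
  rw [map_mul, map_mul, map_pow, P.apply_s, diagonal_pow] at h1
  obtain ⟨i, hi⟩ : ∃ i, P.C g i 1 ≠ 0 := by
    by_contra hall
    push Not at hall
    have h2 : P.C g * P.C g⁻¹ = 1 := by rw [← map_mul, mul_inv_cancel, map_one]
    have h3 := congrArg Matrix.det h2
    rw [Matrix.det_mul, Matrix.det_eq_zero_of_column_eq_zero 1 hall, zero_mul, Matrix.det_one] at h3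
    exact zero_ne_one h3
  have h2 := congrFun (congrFun h1 i) 1
  rw [mul_diagonal, diagonal_mul, mul_comm (P.C g i 1), Pi.pow_apply] at h2
  have h3 : eig D.q P.x 1 = eig D.q P.x i ^ j := mul_right_cancel₀ hi h2
  have hx1 : eig D.q P.x 1 = P.x := by show P.x ^ D.q ^ 0 = P.x; rw [pow_zero, pow_one]
  rw [hx1] at h3
  have hpow : ∀ a : ℕ, P.x ^ a = P.x → s ^ a = s := by
    intro a ha
    rcases eq_or_ne P.x 0 with h0 | h0
    · exfalso
      exact P.eig_inj.ne (show (1 : Fin 5) ≠ 2 by decide) (by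
        show P.x ^ D.q ^ 0 = P.x ^ D.q ^ 1
        rw [h0, zero_pow (by simp), zero_pow (by have := D.two_le; simp; omega)])
    have h5 : Units.mk0 P.x h0 ^ a = Units.mk0 P.x h0 ^ 1 := Units.ext (by simpa using ha)
    rw [pow_inj_mod, ← orderOf_units, Units.val_mk0, P.x_order, ← pow_inj_mod, pow_one] at h5
    exact h5
  rcases Fin.eq_zero_or_eq_succ i with rfl | ⟨i, rfl⟩
  · exfalso
    have hone : eig D.q P.x 0 = 1 := rfl
    rw [hone, one_pow] at h3
    exact P.eig_inj.ne (show (1 : Fin 5) ≠ 0 by decide) (by rw [hx1, hone, h3])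
  have hd : eig D.q P.x i.succ = P.x ^ D.q ^ (i : ℕ) := by fin_cases i <;> rfl
  rw [hd, ← pow_mul] at h3
  have h4 := hpow _ h3.symm
  have h6 := hpow _ P.x_pow
  have hsj : s ^ j = s ^ D.q ^ (4 - (i : ℕ)) := by
    calc s ^ j = (s ^ D.q ^ 4) ^ j := by rw [h6]
      _ = (s ^ (D.q ^ (i : ℕ) * j)) ^ D.q ^ (4 - (i : ℕ)) := by
          rw [← pow_mul, ← pow_mul]
          congr 1
          rw [mul_right_comm, ← pow_add, show (i : ℕ) + (4 - i) = 4 by have := i.2; omega]
      _ = _ := by rw [h4]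
  rcases Nat.eq_zero_or_pos (i : ℕ) with h0 | h0
  · refine ⟨0, by norm_num, ?_⟩
    rw [hgj, hsj, h0, Nat.sub_zero, h6, pow_zero, pow_one]
  · exact ⟨4 - (i : ℕ), by omega, by rw [hgj, hsj]⟩

end EigFrame

end CfsgLib.MaxSub.SU5Quintic
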