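/-
The degree equation of the principal sector: the characters meeting `alpha triv η`.
-/
import Cfsg.Agent.Lib.MaxSub.SU5Quintic.CentralMain

set_option autoImplicit false
set_option linter.unusedSectionVars false
set_option linter.style.haveILetI false

namespace CfsgLib.MaxSub.SU5Quintic

open Cfsg CfsgLib.CharTheory
open CfsgLib.SingerFive (Lam mu mu_spec triv)
open scoped ComplexConjugate

universe u

namespace CZ

variable {G : Type u} [Group G] [Fintype G] {Z T : Subgroup G} {w : G} {e : ℕ}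

theorem triv_fixed (D : CZ Z T w e) : ¬ D.Good (triv T) := fun hg => hg (Subtype.ext (funext fun t => by
  rw [D.tw_apply]; rfl))

/-- The virtual character `Ind (1 - η)` has norm `e + 1` and degree zero, and its constituents
are trivial on `Z`, balanced with degree `k²` modulo `|T / Z|`, or exceptional. -/
theorem exists_equation (D : CZ Z T w e) [Fintype T] (hns : ∀ χ l, ¬ D.Small χ l)
    (hbig : (e + 1) * e + e + 1 < Z.relIndex T) {η : Lam T} (hη : D.Good η) (hηs : D.Same η (triv T)) :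
    ∃ k : IrrCharacter G → ℤ,
      (∀ χ : IrrCharacter G, k χ = (mu (χ : G → ℂ) (triv T) : ℤ) - mu (χ : G → ℂ) η) ∧
      (∑ χ : IrrCharacter G, (k χ : ℂ) * (χ : G → ℂ) 1 = 0) ∧
      (∑ χ : IrrCharacter G, k χ ^ 2 = (e : ℤ) + 1) ∧
      ∀ χ : IrrCharacter G, k χ ≠ 0 → (∀ z ∈ Z, (χ : G → ℂ) z = (χ : G → ℂ) 1) ∧
        ∀ n : ℕ, (χ : G → ℂ) 1 = n →
          ((Z.relIndex T : ℤ) ∣ k χ * n - k χ ^ 2 ∧
            (n = 1 → k χ = 1 ∧ ∀ t : T, (χ : G → ℂ) (t : G) = 1)) ∨
          ((k χ = 1 ∨ k χ = -1) ∧ (Z.relIndex T : ℤ) ∣ k χ * n + e ∧ Z.relIndex T ≤ n + e + 1) := by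
  classical
  have hb := D.same_refl (triv T)
  have hbf := D.triv_fixed
  obtain ⟨k, hksum, hkc, hksq⟩ := classInner_self_eq_sum_sq (D.isGen_alpha (triv T) η)
  rw [D.alpha_base_norm hbf hη (D.same_symm hηs)] at hksq
  have hksq' : ∑ ψ : IrrCharacter G, k ψ ^ 2 = (e : ℤ) + 1 := by exact_mod_cast hksq.symm
  have hval : ∀ χ : IrrCharacter G, k χ = (mu (χ : G → ℂ) (triv T) : ℤ) - mu (χ : G → ℂ) η := by
    intro χ
    have h6 := hkc χ
    rw [← classInner_comm, D.inner_alpha (isCharacter_of_irr χ.2)] at h6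
    simp only [map_sub, map_natCast] at h6
    exact_mod_cast h6.symm
  refine ⟨k, hval, ?_, hksq', fun χ hk => ?_⟩
  · have h1 := D.alpha_one (triv T) η
    rw [hksum] at h1
    simpa [Finset.sum_apply] using h1
  have hc := isCharacter_of_irr χ.2
  obtain ⟨l₀, hS₀, -⟩ := D.exists_sector χ.2
  have hS : D.InSector (χ : G → ℂ) (triv T) := by
    have h0 : D.Same l₀ (triv T) := by
      rcases Nat.eq_zero_or_pos (mu (χ : G → ℂ) (triv T)) with h1 | h1
      · have h2 : mu (χ : G → ℂ) η ≠ 0 := fun h3 => hk (by rw [hval, h1, h3]; simp)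
        exact D.same_trans (D.same_symm (hS₀ η h2)) hηs
      · exact D.same_symm (hS₀ _ h1.ne')
    exact fun l hl => D.same_trans (hS₀ l hl) h0
  refine ⟨fun z hz => ?_, fun n hn => ?_⟩
  · rw [show (χ : G → ℂ) z = (χ : G → ℂ) ((⟨z, D.le hz⟩ : T) : G) from rfl, D.mu_apply hc, D.deg_eq hc]
    refine Finset.sum_congr rfl fun l _ => ?_
    by_cases h0 : mu (χ : G → ℂ) l = 0
    · simp [h0]
    · rw [hS l h0 ⟨z, D.le hz⟩ hz]
      simp [triv]
  have hm1 : 1 ≤ Z.relIndex T := by omega
  by_cases hbal : D.Balanced (χ : G → ℂ) (triv T)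
  · left
    have hdeg : n = mu (χ : G → ℂ) (triv T) + mu (χ : G → ℂ) η * (Z.relIndex T - 1) := by
      have := hn.symm.trans (D.balanced_deg hc hS hbal hb hbf hη hηs)
      exact_mod_cast this
    have hdegz : (n : ℤ) = (mu (χ : G → ℂ) (triv T) : ℤ) + mu (χ : G → ℂ) η * ((Z.relIndex T : ℤ) - 1) := by
      rw [hdeg]
      push_cast [Nat.cast_sub hm1]
      ring
    refine ⟨⟨k χ * mu (χ : G → ℂ) η, by rw [hval, hdegz]; ring⟩, fun h1 => ?_⟩
    have hb0 : mu (χ : G → ℂ) η = 0 := by
      by_contra h0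
      have h2 : Z.relIndex T - 1 ≤ mu (χ : G → ℂ) η * (Z.relIndex T - 1) :=
        Nat.le_mul_of_pos_left _ (Nat.pos_of_ne_zero h0)
      have h3 := D.two_le
      omega
    have ha : mu (χ : G → ℂ) (triv T) = 1 := by rw [hb0, Nat.zero_mul] at hdeg; omega
    refine ⟨by rw [hval, ha, hb0]; norm_num, fun t => ?_⟩
    by_cases ht : (t : G) ∈ Z
    · rw [D.mu_apply hc]
      have hall : ∀ l : Lam T, (mu (χ : G → ℂ) l : ℂ) * (l : T → ℂ) t = (mu (χ : G → ℂ) l : ℂ) := fun l => by
        by_cases h0 : mu (χ : G → ℂ) l = 0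
        · simp [h0]
        · rw [hS l h0 t ht]; simp [triv]
      rw [Finset.sum_congr rfl fun l _ => hall l, ← D.deg_eq hc, hn, h1, Nat.cast_one]
    · rw [D.balanced_apply hc hS hbal hb hbf hη hηs ht, ha, hb0]
      simp [triv]
  · right
    obtain ⟨l, c, d, hl, hSl, hd, hs, hbig'⟩ := D.trichotomy χ.2 hS hbal
    rcases hbig' with ⟨n', hn', hle⟩ | hsm
    swap
    · exact absurd hsm (hns _ _)
    have hlt : D.Same l (triv T) := by
      obtain ⟨l₁, hl₁⟩ : ∃ l₁ : Lam T, mu (χ : G → ℂ) l₁ ≠ 0 := by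
        by_contra hall
        push Not at hall
        exact hk (by rw [hval, hall, hall]; simp)
      exact D.same_trans (D.same_symm (hSl l₁ hl₁)) (hS l₁ hl₁)
    have hηl : D.Same η l := D.same_trans hηs (D.same_symm hlt)
    let ι := {ν : Lam T // D.Good ν ∧ D.Same ν l}
    choose P hP using fun ν : ι => D.exists_partner χ.2 hl hSl hd hs ν.2.1 ν.2.2
    let g : ι → IrrCharacter G := fun ν => ⟨P ν, (hP ν).1⟩
    let S : Finset ι := Finset.univ.filter fun ν => ¬ D.Rel η ν.1
    have hd0 : d ≠ 0 := by omega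
    -- off the orbit of `η` the partners have coefficient `a - c`
    have hkS : ∀ ν ∈ S, k (g ν) = (mu (χ : G → ℂ) (triv T) : ℤ) - c := by
      intro ν hν
      obtain ⟨-, -, h3, -, h5, -⟩ := hP ν
      have h7 := (h3 η hη (D.same_trans hηl (D.same_symm ν.2.2))).2
        fun hr => (Finset.mem_filter.mp hν).2 (D.rel_symm hr)
      rw [hval]
      show (mu (P ν) (triv T) : ℤ) - mu (P ν) η = _
      rw [h5 _ hbf, h7]
    have hac : (mu (χ : G → ℂ) (triv T) : ℤ) = c := by
      by_contra hne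
      have hfib : ∀ ψ ∈ S.image g, (S.filter fun ν => g ν = ψ).card ≤ e := by
        intro ψ hψ
        obtain ⟨ν₀, -, rfl⟩ := Finset.mem_image.mp hψ
        refine le_trans (Finset.card_le_card fun ν hν => ?_)
          (D.fiber_le (l := l) hd0 Subtype.val Subtype.val_injective (fun i => i.2.1) (fun i => i.2.2)
            P (fun i => (hP i).2.2.1) ν₀)
        simp only [Finset.mem_filter, Finset.mem_univ, true_and] at hν ⊢
        exact congrArg Subtype.val hν.2
      have hSc : S.card + e + 1 = Z.relIndex T := by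
        have h1 := Finset.card_filter_add_card_filter_not (s := (Finset.univ : Finset ι)) (fun ν => D.Rel η ν.1)
        have h2 : (Finset.univ.filter fun ν : ι => D.Rel η ν.1).card = e := by
          refine Eq.trans ?_ (D.card_rel_filter hη)
          refine Finset.card_bij (fun ν _ => ν.1) (fun ν hν => by simpa using hν)
            (fun _ _ _ _ hh => Subtype.ext hh) fun ν hν => ?_
          have hr : D.Rel η ν := by simpa using hν
          exact ⟨⟨ν, D.rel_good hr hη, D.same_trans (D.same_rel hr) hηl⟩, by simp [hr], rfl⟩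
        rw [h2, Finset.card_univ, Fintype.card_subtype, D.card_good] at h1
        have h3 : S.card = (Finset.univ.filter fun ν : ι => ¬ D.Rel η ν.1).card := rfl
        omega
      have h1 : ((S.image g).card : ℤ) * ((mu (χ : G → ℂ) (triv T) : ℤ) - c) ^ 2 ≤ e + 1 := by
        rw [← hksq']
        refine le_trans (le_of_eq ?_) (Finset.sum_le_sum_of_subset_of_nonneg (Finset.subset_univ (S.image g))
          fun ψ _ _ => sq_nonneg _)
        rw [Finset.sum_congr rfl fun ψ hψ => ?_, Finset.sum_const, nsmul_eq_mul]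
        obtain ⟨ν, hν, rfl⟩ := Finset.mem_image.mp hψ
        rw [hkS ν hν]
      have h2 : (1 : ℤ) ≤ ((mu (χ : G → ℂ) (triv T) : ℤ) - c) ^ 2 := by
        have : (0 : ℤ) < ((mu (χ : G → ℂ) (triv T) : ℤ) - c) ^ 2 := by
          have := sub_ne_zero.mpr hne
          positivity
        omega
      have h3 : (S.image g).card ≤ e + 1 := by
        have h4 := le_mul_of_one_le_right (Int.natCast_nonneg (S.image g).card) h2
        omega
      have h5 := Finset.card_le_mul_card_image S e hfib
      have h6 := Nat.mul_le_mul_left e h3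
      rw [Nat.mul_comm e (e + 1)] at h6
      omega
    have hkd : k χ = -d := by
      have h8 := hs η hη hηl
      by_cases hr : D.Rel l η
      · rw [hval, h8.1 hr, hac]; ring
      · exact absurd (by rw [hval, h8.2 hr, hac, sub_self]) hk
    have hdeg := D.shape_deg hc hl hSl (b := triv T) (D.same_symm hlt) hbf hs
    have hdegz : (n : ℤ) = c * (Z.relIndex T : ℤ) + d * e := by
      have h9 : (n : ℤ) = (mu (χ : G → ℂ) (triv T) : ℤ) + c * ((Z.relIndex T : ℤ) - 1) + d * e := by
        have := hn.symm.trans hdeg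
        exact_mod_cast this
      rw [h9, hac]
      ring
    refine ⟨by omega, ⟨-d * c, ?_⟩, ?_⟩
    · rw [hkd, hdegz]
      rcases hd with rfl | rfl <;> ring
    · have : n' = n := by exact_mod_cast hn'.symm.trans hn
      omega

end CZ

end CfsgLib.MaxSub.SU5Quintic
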