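/-
The degree equation for the field with sixteen elements.
-/
import Mathlib

set_option autoImplicit false
set_option maxRecDepth 4000

namespace CfsgLib.MaxSub.SU5Quintic

/-- The index of the scalars in `SU(5, 4)`. -/
def fourIndex : ℕ := 2 ^ 20 * (3 ^ 2 * (5 ^ 4 * (13 * (17 * 41))))

/-- The signed divisors other than one that are one modulo the order of the torus. -/
def fourVals : List ℤ :=
  [-36208640000, -6517555200, -1277952000, -579338240, -522240000, -254592000, -49920000, -22630400,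
    -20447232, -18432000, -9945000, -8355840, -4073472, -1638400, -884000, -798720, -720000, -326400,
    -294912, -159120, -64000, -31200, -14144, -12750, -11520, -2500, -1024, -450, -204, -40, 288, 780,
    1600, 3978, 8160, 18000, 19968, 22100, 40960, 48750, 208896, 248625, 460800, 510000, 565760,
    1048576, 1248000, 2560000, 6364800, 11796480, 13056000, 14483456, 31948800, 35360000, 65536000,
    162938880, 334233600, 737280000, 905216000, 10183680000, 260702208000]

/-- A check of one triple. -/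
def fourOK (δ a b c : ℤ) : Bool :=
  decide (a ≤ b → b ≤ c →
    ¬ ((δ - 1 - a - b - c) % 41 = 36 ∧ 35 ≤ (δ - 1 - a - b - c).natAbs ∧
        (fourIndex : ℤ) % (δ - 1 - a - b - c) = 0) ∨
      (δ = 204 ∧ a = -14144 ∧ b = 208896 ∧ c = 1048576))

theorem four_search : (fourVals.all fun a => fourVals.all fun b => fourVals.all fun c =>
    fourOK 40 a b c && fourOK 204 a b c) = true := by
  decide +kernel

/-- A check of one signed divisor. -/
def fourMemOK (v : ℤ) : Bool := decide (v % 41 = 1 → v = 1 ∨ v ∈ fourVals)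

theorem mem_search : (((List.range 21).all fun i => (List.range 3).all fun j => (List.range 5).all fun k =>
    (List.range 2).all fun l => (List.range 2).all fun m =>
      fourMemOK ((2 ^ i * (3 ^ j * (5 ^ k * (13 ^ l * 17 ^ m))) : ℕ) : ℤ) &&
      fourMemOK (-((2 ^ i * (3 ^ j * (5 ^ k * (13 ^ l * 17 ^ m))) : ℕ) : ℤ)))) = true := by
  decide +kernel

/-- Divisors of the index in the progression are listed. -/
theorem mem_fourVals {v : ℤ} (hd : v.natAbs ∣ fourIndex) (h1 : v % 41 = 1) : v = 1 ∨ v ∈ fourVals := by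
  have h41 : ¬ 41 ∣ v.natAbs := fun h => by
    have : (41 : ℤ) ∣ v := Int.natCast_dvd.mpr h
    omega
  obtain ⟨a, r1, ha, hr1, hv⟩ := Nat.dvd_mul.mp hd
  obtain ⟨b, r2, hb, hr2, rfl⟩ := Nat.dvd_mul.mp hr1
  obtain ⟨c, r3, hc, hr3, rfl⟩ := Nat.dvd_mul.mp hr2
  obtain ⟨d, r4, hd', hr4, rfl⟩ := Nat.dvd_mul.mp hr3
  obtain ⟨f, g, hf, hg, rfl⟩ := Nat.dvd_mul.mp hr4
  obtain ⟨i, hi, rfl⟩ := (Nat.dvd_prime_pow (by norm_num)).mp ha
  obtain ⟨j, hj, rfl⟩ := (Nat.dvd_prime_pow (by norm_num)).mp hb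
  obtain ⟨k, hk, rfl⟩ := (Nat.dvd_prime_pow (by norm_num)).mp hc
  obtain ⟨l, hl, rfl⟩ : ∃ l, l ≤ 1 ∧ d = 13 ^ l := by
    rcases (Nat.dvd_prime (by norm_num : Nat.Prime 13)).mp hd' with rfl | rfl
    · exact ⟨0, by norm_num, by norm_num⟩
    · exact ⟨1, le_rfl, by norm_num⟩
  obtain ⟨m, hm, rfl⟩ : ∃ m, m ≤ 1 ∧ f = 17 ^ m := by
    rcases (Nat.dvd_prime (by norm_num : Nat.Prime 17)).mp hf with rfl | rfl
    · exact ⟨0, by norm_num, by norm_num⟩
    · exact ⟨1, le_rfl, by norm_num⟩
  have hg1 : g = 1 := by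
    rcases (Nat.dvd_prime (by norm_num : Nat.Prime 41)).mp hg with h | h
    · exact h
    · refine absurd ?_ h41
      rw [← hv, h]
      exact dvd_mul_of_dvd_right (dvd_mul_of_dvd_right (dvd_mul_of_dvd_right (dvd_mul_of_dvd_right
        (dvd_mul_left _ _) _) _) _) _
  subst hg1
  have h := mem_search
  simp only [List.all_eq_true, List.mem_range, Bool.and_eq_true, fourMemOK, decide_eq_true_eq] at h
  obtain ⟨hp, hn⟩ := h i (by omega) j (by omega) k (by omega) l (by omega) m (by omega)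
  rw [Nat.mul_one] at hv
  rcases Int.natAbs_eq v with he | he <;> rw [he, ← hv] at h1 ⊢
  · exact hp h1
  · exact hn h1

/-- The degree equation has one solution. -/
theorem four_equation {δ a b c x : ℤ} (hδ : δ = 40 ∨ δ = 204) (ha : a ∈ fourVals) (hb : b ∈ fourVals)
    (hc : c ∈ fourVals) (hab : a ≤ b) (hbc : b ≤ c) (hx : x % 41 = 36) (hx' : 35 ≤ x.natAbs)
    (hxd : x.natAbs ∣ fourIndex) (he : 1 - δ + a + b + c + x = 0) :
    δ = 204 ∧ c = 1048576 ∧ x = -1243125 := by
  have h := four_search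
  simp only [List.all_eq_true, Bool.and_eq_true, fourOK, decide_eq_true_eq] at h
  have hxe : x = δ - 1 - a - b - c := by linarith
  have hmod : (fourIndex : ℤ) % x = 0 := Int.emod_eq_zero_of_dvd (Int.natAbs_dvd.mp (Int.natCast_dvd_natCast.mpr hxd))
  rcases hδ with rfl | rfl
  · rcases (h a ha b hb c hc).1 hab hbc with h' | ⟨h', -⟩
    · rw [← hxe] at h'; exact absurd ⟨hx, hx', hmod⟩ h'
    · norm_num at h'
  · rcases (h a ha b hb c hc).2 hab hbc with h' | ⟨-, rfl, rfl, rfl⟩
    · rw [← hxe] at h'; exact absurd ⟨hx, hx', hmod⟩ h'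
    · exact ⟨rfl, rfl, by linarith⟩

theorem not_dvd_159 : ¬ 159 ∣ fourIndex := by
  decide +kernel

end CfsgLib.MaxSub.SU5Quintic
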