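/-
Arithmetic: degrees that do not divide the order, prime powers in `q ^ 2 + 1`, and the two-orbit equation.
-/
import Mathlib

set_option autoImplicit false
set_option maxRecDepth 4000
set_option maxHeartbeats 800000

namespace CfsgLib.MaxSub.SU5Quintic

/-- The order of `SU(5, q)`. -/
def suOrder (q : ℕ) : ℕ := q ^ 10 * ((q ^ 2 - 1) * (q ^ 3 + 1) * (q ^ 4 - 1) * (q ^ 5 + 1))

/-- The order of the torus in `SU(5, q)`. -/
def torOrder (q : ℕ) : ℕ := (q ^ 5 + 1) / (q + 1)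

theorem torOrder_mul (q : ℕ) : torOrder q * (q + 1) = q ^ 5 + 1 := by
  refine Nat.div_mul_cancel ?_
  have h1 : ((q : ℤ) + 1) ∣ (q : ℤ) ^ 5 + 1 := ⟨(q : ℤ) ^ 4 - q ^ 3 + q ^ 2 - q + 1, by ring⟩
  exact_mod_cast h1

theorem torOrder_eq (q : ℕ) :
    (torOrder q : ℤ) = (q : ℤ) ^ 4 - q ^ 3 + q ^ 2 - q + 1 := by
  have h1 : (torOrder q : ℤ) * (q + 1) = (q : ℤ) ^ 5 + 1 := by exact_mod_cast torOrder_mul q
  refine mul_right_cancel₀ (b := (q : ℤ) + 1) (by omega) ?_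
  rw [h1]
  ring

/-- The pieces `(a, b)` of interest. -/
def badPairs : List (ℕ × ℕ) := [(0, 1), (0, 2), (1, 2), (1, 3), (2, 3), (2, 4), (3, 4), (3, 5)]

theorem mem_badPairs {a b : ℕ} (hab : a < b) (hab2 : b ≤ a + 2) (hb : b ≤ 5) (hne : ¬ (a = 4 ∧ b = 5)) :
    (a, b) ∈ badPairs := by
  have ha : a < 5 := by omega
  interval_cases a <;> interval_cases b <;> simp_all [badPairs]

theorem small_table : ∀ q < 420, q % 5 = 4 → q ≠ 4 → ∀ p ∈ badPairs,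
    ¬ p.1 + p.2 * (torOrder q / 5 - 1) ∣ suOrder q := by
  decide +kernel

theorem suOrder_factor (q : ℕ) (hq : 1 ≤ q) :
    (suOrder q : ℤ) = (q : ℤ) ^ 10 * ((q : ℤ) - 1) ^ 2 * ((q : ℤ) + 1) ^ 4 * ((q : ℤ) ^ 2 + 1) *
      ((q : ℤ) ^ 2 - q + 1) * ((q : ℤ) ^ 4 - q ^ 3 + q ^ 2 - q + 1) := by
  rw [suOrder]
  push_cast [Nat.cast_sub (Nat.one_le_pow 2 q hq), Nat.cast_sub (Nat.one_le_pow 4 q hq)]
  ring

theorem gcd_dvd_residue {f x K : ℤ} (h : x ∣ f - K) : (Int.gcd f x : ℤ) ∣ K := by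
  have h1 : (Int.gcd f x : ℤ) ∣ f - K := (Int.gcd_dvd_right f x).trans h
  have h2 : (Int.gcd f x : ℤ) ∣ f := Int.gcd_dvd_left f x
  simpa using dvd_sub h2 h1

theorem dvd_gcd_mul {f a b : ℤ} (h : f ∣ a * b) : f ∣ (Int.gcd f a : ℤ) * b := by
  rw [Int.coe_gcd]
  exact dvd_gcd_mul_iff_dvd_mul.mpr h

theorem pow_gcd {f x : ℤ} (n : ℕ) {K : ℤ} (h : (Int.gcd f x : ℤ) ∣ K) : (Int.gcd f (x ^ n) : ℤ) ∣ K ^ n := by
  refine dvd_trans ?_ (pow_dvd_pow_of_dvd h n)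
  rw [Int.coe_gcd, Int.coe_gcd]
  exact gcd_pow_right_dvd_pow_gcd

theorem gcd_pow_prime {p e : ℕ} (hp : p.Prime) {f K : ℤ} (hK : (Int.gcd f (p ^ e : ℕ) : ℤ) ∣ K) (hK0 : K ≠ 0)
    (hbig : K.natAbs < p ^ e) (n : ℕ) : (Int.gcd f ((p ^ e : ℕ) ^ n : ℤ) : ℤ) ∣ K := by
  obtain ⟨j, -, hj⟩ := (Nat.dvd_prime_pow hp).mp (show Int.gcd f ((p ^ e : ℕ) ^ n : ℤ) ∣ p ^ (e * n) by
    rw [pow_mul]
    exact_mod_cast Int.gcd_dvd_right f ((p ^ e : ℕ) ^ n : ℤ))
  have hjf : (p ^ j : ℤ) ∣ f := by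
    have := Int.gcd_dvd_left f ((p ^ e : ℕ) ^ n : ℤ)
    rw [hj] at this
    exact_mod_cast this
  rw [hj]
  rcases le_or_gt j e with hje | hje
  · refine dvd_trans ?_ hK
    have h1 : (p ^ j : ℕ) ∣ Int.gcd f (p ^ e : ℕ) :=
      Int.dvd_gcd (by exact_mod_cast hjf) (by exact_mod_cast pow_dvd_pow p hje)
    exact_mod_cast h1
  · exfalso
    have h1 : (p ^ e : ℕ) ∣ Int.gcd f (p ^ e : ℕ) :=
      Int.dvd_gcd ((by exact_mod_cast pow_dvd_pow p hje.le : ((p ^ e : ℕ) : ℤ) ∣ (p : ℤ) ^ j).trans hjf) dvd_rfl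
    have h2 : p ^ e ∣ K.natAbs := Int.natCast_dvd.mp ((Int.natCast_dvd_natCast.mpr h1).trans hK)
    have h3 := Nat.le_of_dvd (Int.natAbs_pos.mpr hK0) h2
    omega

/-- The bound on a piece, via the residues of five times its degree. -/
theorem piece_bound {p e a b : ℕ} (hp : p.Prime) (hq : 420 ≤ p ^ e) (hmem : (a, b) ∈ badPairs)
    (hdvd : ((5 * a + b * (torOrder (p ^ e) - 5) : ℕ) : ℤ) ∣ 5 * (suOrder (p ^ e) : ℤ))
    (hm : 5 ≤ torOrder (p ^ e)) : False := by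
  generalize hqdef : p ^ e = q at *
  have hQ : (420 : ℤ) ≤ q := by exact_mod_cast hq
  have hf : ((5 * a + b * (torOrder q - 5) : ℕ) : ℤ) =
      5 * a + b * ((q : ℤ) ^ 4 - q ^ 3 + q ^ 2 - q + 1 - 5) := by
    push_cast [Nat.cast_sub hm]
    rw [torOrder_eq]
  rw [hf, suOrder_factor q (by omega)] at hdvd
  set Q : ℤ := (q : ℤ) with hQdef
  set f : ℤ := 5 * a + b * (Q ^ 4 - Q ^ 3 + Q ^ 2 - Q + 1 - 5) with hfdef
  have hpair : (a = 0 ∧ b = 1) ∨ (a = 0 ∧ b = 2) ∨ (a = 1 ∧ b = 2) ∨ (a = 1 ∧ b = 3) ∨ (a = 2 ∧ b = 3) ∨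
      (a = 2 ∧ b = 4) ∨ (a = 3 ∧ b = 4) ∨ (a = 3 ∧ b = 5) := by
    simpa [badPairs] using hmem
  have hfpos : 9 * ((b : ℤ) * Q ^ 4) ≤ 10 * f := by
    have h4 : 9 * Q ^ 4 ≤ 10 * (Q ^ 4 - Q ^ 3 + Q ^ 2 - Q + 1 - 5) := by
      nlinarith [mul_le_mul_of_nonneg_right hQ (pow_nonneg (by omega : (0 : ℤ) ≤ Q) 3)]
    have h6 := mul_le_mul_of_nonneg_left h4 (Int.natCast_nonneg b)
    rw [mul_left_comm, mul_left_comm (b : ℤ)] at h6
    linarith [Int.natCast_nonneg a]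
  have hp' : (p ^ e : ℕ) = q := hqdef
  set K : ℤ := 5 * a - 4 * b with hKdef
  have hK0 : K ≠ 0 := by omega
  have hKs : K.natAbs < q := by omega
  have gq : (Int.gcd f Q : ℤ) ∣ K := gcd_dvd_residue ⟨b * (Q ^ 3 - Q ^ 2 + Q - 1), by ring⟩
  have g1 : (Int.gcd f (Q ^ 10) : ℤ) ∣ K := by
    have := gcd_pow_prime hp (f := f) (K := K) (by rw [hp']; exact gq) hK0 (by rw [hp']; exact hKs) 10
    rwa [hp'] at this
  have g2 : (Int.gcd f ((Q - 1) ^ 2) : ℤ) ∣ K ^ 2 :=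
    pow_gcd 2 (gcd_dvd_residue ⟨b * (Q ^ 3 + Q), by ring⟩)
  have g4 : (Int.gcd f (Q ^ 2 + 1) : ℤ) ∣ K := gcd_dvd_residue ⟨b * (Q ^ 2 - Q), by ring⟩
  have g5 : (Int.gcd f (Q ^ 2 - Q + 1) : ℤ) ∣ (K ^ 2 - K * b + b ^ 2) := by
    have h1 : (Int.gcd f (Q ^ 2 - Q + 1) : ℤ) ∣ K - b * Q := gcd_dvd_residue ⟨b * Q ^ 2, by ring⟩
    have h2 : (Int.gcd f (Q ^ 2 - Q + 1) : ℤ) ∣ (K - b * Q) * (K - b + b * Q) + b ^ 2 * (Q ^ 2 - Q + 1) :=
      dvd_add (h1.mul_right _) ((Int.gcd_dvd_right _ _).mul_left _)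
    convert h2 using 1
    ring
  have g6 : (Int.gcd f (Q ^ 4 - Q ^ 3 + Q ^ 2 - Q + 1) : ℤ) ∣ 5 * ((a : ℤ) - b) :=
    gcd_dvd_residue ⟨b, by ring⟩
  -- remove the factors one at a time
  have peel : ∀ {x G r : ℤ}, (Int.gcd f x : ℤ) ∣ G → f ∣ x * r → f ∣ G * r := fun hG hd =>
    (dvd_gcd_mul hd).trans (mul_dvd_mul_right hG _)
  by_cases ha : a = 0
  · -- divide by `q + 1`
    subst ha
    set g : ℤ := Q ^ 3 - 2 * Q ^ 2 + 3 * Q - 4 with hgdef
    have hfg : f = (Q + 1) * (b * g) := by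
      rw [hfdef, hgdef]
      push_cast
      ring
    have hdvd' : b * g ∣ Q ^ 10 * ((Q - 1) ^ 2 * ((Q + 1) ^ 3 * ((Q ^ 2 + 1) *
        ((Q ^ 2 - Q + 1) * (5 * (Q ^ 4 - Q ^ 3 + Q ^ 2 - Q + 1)))))) := by
      refine (mul_dvd_mul_iff_left (show Q + 1 ≠ 0 by omega)).mp ?_
      rw [← hfg]
      exact hdvd.trans (dvd_of_eq (by ring))
    have hgd : g ∣ Q ^ 10 * ((Q - 1) ^ 2 * ((Q + 1) ^ 3 * ((Q ^ 2 + 1) *
        ((Q ^ 2 - Q + 1) * (5 * (Q ^ 4 - Q ^ 3 + Q ^ 2 - Q + 1)))))) := (dvd_mul_left g b).trans hdvd'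
    have e1 : (Int.gcd g (Q ^ 10) : ℤ) ∣ (-4) := by
      have := gcd_pow_prime hp (f := g) (K := -4) (by
        rw [hp']; exact gcd_dvd_residue ⟨Q ^ 2 - 2 * Q + 3, by ring⟩) (by norm_num) (by rw [hp']; omega) 10
      rwa [hp'] at this
    have e2 : (Int.gcd g ((Q - 1) ^ 2) : ℤ) ∣ (-2) ^ 2 :=
      pow_gcd 2 (gcd_dvd_residue ⟨Q ^ 2 - Q + 2, by ring⟩)
    have e3 : (Int.gcd g ((Q + 1) ^ 3) : ℤ) ∣ (-10) ^ 3 :=
      pow_gcd 3 (gcd_dvd_residue ⟨Q ^ 2 - 3 * Q + 6, by ring⟩)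
    have e4 : (Int.gcd g (Q ^ 2 + 1) : ℤ) ∣ 8 := by
      have h1 : (Int.gcd g (Q ^ 2 + 1) : ℤ) ∣ 2 * Q - 2 := gcd_dvd_residue ⟨Q - 2, by ring⟩
      have h2 : (Int.gcd g (Q ^ 2 + 1) : ℤ) ∣ 4 * (Q ^ 2 + 1) - (2 * Q - 2) * (2 * Q + 2) :=
        dvd_sub ((Int.gcd_dvd_right _ _).mul_left _) (h1.mul_right _)
      convert h2 using 1
      ring
    have e5 : (Int.gcd g (Q ^ 2 - Q + 1) : ℤ) ∣ 7 := by
      have h1 : (Int.gcd g (Q ^ 2 - Q + 1) : ℤ) ∣ Q - 3 := gcd_dvd_residue ⟨Q - 1, by ring⟩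
      have h2 : (Int.gcd g (Q ^ 2 - Q + 1) : ℤ) ∣ (Q ^ 2 - Q + 1) - (Q - 3) * (Q + 2) :=
        dvd_sub (Int.gcd_dvd_right _ _) (h1.mul_right _)
      convert h2 using 1
      ring
    have e6 : (Int.gcd g (5 * (Q ^ 4 - Q ^ 3 + Q ^ 2 - Q + 1)) : ℤ) ∣ 25 := by
      set x := Q ^ 4 - Q ^ 3 + Q ^ 2 - Q + 1 with hx
      have h1 : (Int.gcd g x : ℤ) ∣ 5 := by
        have h2 : (Int.gcd g x : ℤ) ∣ x - g * (Q + 1) :=
          dvd_sub (Int.gcd_dvd_right _ _) ((Int.gcd_dvd_left _ _).mul_right _)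
        convert h2 using 1
        rw [hx]
        ring
      have h3 : (Int.gcd g (5 * x) : ℤ) ∣ (Int.gcd (5 * g) (5 * x) : ℤ) :=
        Int.dvd_coe_gcd ((Int.gcd_dvd_left _ _).mul_left 5) (Int.gcd_dvd_right _ _)
      refine h3.trans ?_
      rw [Int.gcd_mul_left]
      push_cast
      exact mul_dvd_mul_left (5 : ℤ) h1
    have k1 := (dvd_gcd_mul hgd).trans (mul_dvd_mul_right e1 _)
    rw [mul_left_comm] at k1
    have k2 := (dvd_gcd_mul k1).trans (mul_dvd_mul_right e2 _)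
    rw [← mul_assoc, mul_left_comm] at k2
    have k3 := (dvd_gcd_mul k2).trans (mul_dvd_mul_right e3 _)
    rw [← mul_assoc, mul_left_comm] at k3
    have k4 := (dvd_gcd_mul k3).trans (mul_dvd_mul_right e4 _)
    rw [← mul_assoc, mul_left_comm] at k4
    have k5 := (dvd_gcd_mul k4).trans (mul_dvd_mul_right e5 _)
    rw [← mul_assoc, mul_comm _ (5 * _)] at k5
    have k6 := (dvd_gcd_mul k5).trans (mul_dvd_mul_right e6 _)
    have h8 := Int.natAbs_le_of_dvd_ne_zero k6 (by norm_num)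
    norm_num at h8
    have h9 : (420 : ℤ) ^ 3 ≤ Q ^ 3 := pow_le_pow_left₀ (by norm_num) hQ 3
    have h10 : Q ^ 3 ≤ 2 * g := by
      nlinarith [mul_le_mul_of_nonneg_right hQ (pow_nonneg (by omega : (0 : ℤ) ≤ Q) 2)]
    omega
  · have g3 : (Int.gcd f ((Q + 1) ^ 4) : ℤ) ∣ (5 * (a : ℤ)) ^ 4 :=
      pow_gcd 4 (gcd_dvd_residue ⟨b * (Q ^ 3 - 2 * Q ^ 2 + 3 * Q - 4), by ring⟩)
    have k0 : f ∣ Q ^ 10 * ((Q - 1) ^ 2 * ((Q + 1) ^ 4 * ((Q ^ 2 + 1) * ((Q ^ 2 - Q + 1) *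
        ((Q ^ 4 - Q ^ 3 + Q ^ 2 - Q + 1) * 5))))) := by
      exact hdvd.trans (dvd_of_eq (by ring))
    have k1 := peel g1 k0
    rw [mul_left_comm] at k1
    have k2 := peel g2 k1
    rw [← mul_assoc, mul_left_comm] at k2
    have k3 := peel g3 k2
    rw [← mul_assoc, mul_left_comm] at k3
    have k4 := peel g4 k3
    rw [← mul_assoc, mul_left_comm] at k4
    have k5 := peel g5 k4
    rw [← mul_assoc, mul_left_comm] at k5
    have k6 := peel g6 k5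
    have h9 : (420 : ℤ) ^ 4 ≤ Q ^ 4 := pow_le_pow_left₀ (by norm_num) hQ 4
    have h8 := Int.natAbs_le_of_dvd_ne_zero k6
    rcases hpair with ⟨rfl, rfl⟩ | ⟨rfl, rfl⟩ | ⟨rfl, rfl⟩ | ⟨rfl, rfl⟩ | ⟨rfl, rfl⟩ | ⟨rfl, rfl⟩ |
      ⟨rfl, rfl⟩ | ⟨rfl, rfl⟩ <;> first
      | exact absurd rfl ha
      | (simp only [hKdef] at h8; norm_num at h8 h9; omega)

/-- No piece `a + b (m / 5 - 1)` with `a < b ≤ a + 2` divides the order, apart from `q = 4`. -/
theorem piece_not_dvd {q a b : ℕ} (hq : IsPrimePow q) (h5 : q % 5 = 4) (hq4 : q ≠ 4) (hmem : (a, b) ∈ badPairs)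
    {mb : ℕ} (hmb : torOrder q = 5 * mb) : ¬ a + b * (mb - 1) ∣ suOrder q := by
  intro hd
  have hmb' : torOrder q / 5 = mb := by omega
  by_cases hs : q < 420
  · have := small_table q hs h5 hq4 (a, b) hmem
    rw [hmb'] at this
    exact this hd
  obtain ⟨p, e, hp, -, rfl⟩ := (isPrimePow_nat_iff q).mp hq
  have hm5 : 5 ≤ torOrder (p ^ e) := by
    have h1 := torOrder_eq (p ^ e)
    have h2 : (420 : ℤ) ≤ ((p ^ e : ℕ) : ℤ) := by exact_mod_cast (not_lt.mp hs)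
    nlinarith [mul_le_mul_of_nonneg_right h2 (pow_nonneg (by omega : (0 : ℤ) ≤ ((p ^ e : ℕ) : ℤ)) 3),
      sq_nonneg (((p ^ e : ℕ) : ℤ) - 1)]
  refine piece_bound hp (not_lt.mp hs) hmem ?_ hm5
  have h1 : 5 * (a + b * (mb - 1)) = 5 * a + b * (torOrder (p ^ e) - 5) := by
    rw [hmb, show 5 * mb - 5 = 5 * (mb - 1) by omega]
    ring
  rw [← h1]
  exact_mod_cast Nat.mul_dvd_mul_left 5 hd

theorem smooth_table : ∀ q < 114, q % 5 = 4 → q ≠ 4 → ¬ q ^ 2 + 1 ∣ 2 * 13 * 17 * 29 := by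
  decide +kernel

theorem residue_table : ∀ p ∈ List.range 35, p % 2 = 1 → p ≠ 1 → p ≠ 5 → ∀ x ∈ List.range p, (x ^ 2 + 1) % p = 0 →
    p = 13 ∨ p = 17 ∨ p = 25 ∨ p = 29 := by
  decide +kernel

/-- `q ^ 2 + 1` has a prime power divisor above `34`. -/
theorem exists_big_prime_power {q : ℕ} (h5 : q % 5 = 4) (hq4 : q ≠ 4) :
    ∃ l : ℕ, l.Prime ∧ l % 2 = 1 ∧ l ∣ q ^ 2 + 1 ∧ 34 < l ^ (q ^ 2 + 1).factorization l := by
  by_contra hall
  push Not at hall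
  have hn0 : q ^ 2 + 1 ≠ 0 := by positivity
  have hle : ∀ l : ℕ, l.Prime → l ∣ q ^ 2 + 1 →
      l ^ (q ^ 2 + 1).factorization l ∣ 2 * 13 * 17 * 29 := by
    intro l hl hld
    have hv : 1 ≤ (q ^ 2 + 1).factorization l := (hl.dvd_iff_one_le_factorization hn0).mp hld
    have hpd := Nat.ordProj_dvd (q ^ 2 + 1) l
    rcases hl.eq_two_or_odd with rfl | hodd
    · have h4 : ¬ 4 ∣ q ^ 2 + 1 := by
        intro h
        have : ∀ r : ZMod 4, r ^ 2 + 1 ≠ 0 := by decide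
        refine this (q : ZMod 4) ?_
        exact_mod_cast (ZMod.natCast_eq_zero_iff _ 4).mpr h
      have : (q ^ 2 + 1).factorization 2 = 1 := by
        by_contra hne
        exact h4 ((pow_dvd_pow 2 (show 2 ≤ (q ^ 2 + 1).factorization 2 by omega)).trans hpd)
      rw [this]
      norm_num
    · have h1 := hall l hl hodd hld
      have h2 : l ≤ l ^ (q ^ 2 + 1).factorization l := Nat.le_self_pow (by omega) l
      have hl5 : l ≠ 5 := by
        rintro rfl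
        have h6 : (q ^ 2 + 1) % 5 = 2 := by
          rw [Nat.add_mod, Nat.pow_mod, h5]
        omega
      have h3 : ((q % l) ^ 2 + 1) % l = 0 := by
        rw [Nat.add_mod, ← Nat.pow_mod, ← Nat.add_mod]
        exact Nat.mod_eq_zero_of_dvd hld
      have h4 := residue_table l (List.mem_range.mpr (by omega)) hodd hl.ne_one hl5 (q % l)
        (List.mem_range.mpr (Nat.mod_lt _ hl.pos)) h3
      have h5 : (q ^ 2 + 1).factorization l = 1 := by
        by_contra hne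
        have h6 := (Nat.pow_le_pow_right hl.pos (show 2 ≤ (q ^ 2 + 1).factorization l by omega)).trans h1
        have h7 : 13 ≤ l := by omega
        nlinarith
      rw [h5, pow_one]
      rcases h4 with rfl | rfl | rfl | rfl
      · norm_num
      · norm_num
      · norm_num at hl
      · norm_num
  have hdvd : q ^ 2 + 1 ∣ 2 * 13 * 17 * 29 := by
    rw [Nat.dvd_iff_prime_pow_dvd_dvd]
    intro l k hl hk
    rcases Nat.eq_zero_or_pos k with rfl | hk0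
    · simp
    refine (pow_dvd_pow l ((hl.pow_dvd_iff_le_factorization hn0).mp hk)).trans (hle l hl ?_)
    exact (dvd_pow_self l (by omega)).trans hk
  have hb : q < 114 := by
    have := Nat.le_of_dvd (by norm_num) hdvd
    nlinarith
  exact smooth_table q hb h5 hq4 hdvd

/-- The equation of the two-orbit case has no solution. -/
theorem two_orbit_false {p e d : ℕ} (hp : p.Prime) (hq : 3 ≤ p ^ e) (hd : d = 1 ∨ d = 5)
    (hd5 : d = 5 → ¬ p = 5) {i i' k k' : ℕ} (hi : 0 < i) (hi' : 0 < i') (hk : 0 < k) (hk' : 0 < k')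
    (hsum : i + i' = d * (p ^ e) ^ 2) (hksum : k + k' = d * (p ^ e + 1))
    (hside : d = 5 → ∃ f : ℕ, 13 ≤ f ∧ f ∣ (p ^ e) ^ 2 + 1 ∧ (f ∣ i ∨ f ∣ i + 5))
    (heq : (((p : ℤ) ^ e) ^ 5 * ((k' : ℤ) - k) ^ 2 * (i * i') +
        ((p : ℤ) ^ e + 1) ^ 2 * ((p : ℤ) ^ e * ((p : ℤ) ^ e - 1) * (((p : ℤ) ^ e) ^ 2 + 1) *
          ((i' : ℤ) - i) ^ 2) * (k * k') - 4 * ((p : ℤ) ^ e) ^ 2 * (k * k') * (i * i')) ^ 2 =
      4 * ((p : ℤ) ^ e + 1) ^ 2 * (((p : ℤ) ^ e) ^ 5 * ((k' : ℤ) - k) ^ 2) *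
        ((p : ℤ) ^ e * ((p : ℤ) ^ e - 1) * (((p : ℤ) ^ e) ^ 2 + 1) * ((i' : ℤ) - i) ^ 2) *
        (k * k') * (i * i')) : False := by
  have := Fact.mk hp
  have he : e ≠ 0 := by rintro rfl; norm_num at hq
  by_cases hdiv : (p ^ e) ^ 2 ∣ 2 * i
  · obtain ⟨r, hr⟩ := hdiv
    have hr0 : 0 < r := Nat.pos_of_ne_zero fun h0 => by rw [h0] at hr; omega
    have hrlt : r < 2 * d := by
      by_contra hge
      have : (p ^ e) ^ 2 * (2 * d) ≤ 2 * i := hr ▸ Nat.mul_le_mul_left _ (not_lt.mp hge)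
      nlinarith
    rcases hd with rfl | rfl
    · have hr1 : r = 1 := by omega
      subst hr1
      have hii : (i' : ℤ) - i = 0 := by omega
      rw [hii] at heq
      simp only [ne_eq, OfNat.ofNat_ne_zero, not_false_eq_true, zero_pow, mul_zero, zero_mul, add_zero] at heq
      rw [pow_eq_zero_iff two_ne_zero, sub_eq_zero] at heq
      have hQ : (3 : ℤ) ≤ (p : ℤ) ^ e := by exact_mod_cast hq
      have hks : (k : ℤ) + k' = (p : ℤ) ^ e + 1 := by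
        have : ((k + k' : ℕ) : ℤ) = ((1 * (p ^ e + 1) : ℕ) : ℤ) := by exact_mod_cast hksum
        push_cast at this
        linarith
      generalize (p : ℤ) ^ e = Q at heq hQ hks
      have h1 : Q ^ 3 * ((k' : ℤ) - k) ^ 2 = 4 * ((k : ℤ) * k') := by
        refine mul_right_cancel₀ (b := Q ^ 2 * ((i : ℤ) * i'))
          (mul_ne_zero (pow_ne_zero 2 (by omega)) (mul_ne_zero (by omega) (by omega))) ?_
        linear_combination heq
      by_cases hX : (k' : ℤ) - k = 0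
      · rw [hX] at h1
        have : (0 : ℤ) < k * k' := mul_pos (by exact_mod_cast hk) (by exact_mod_cast hk')
        norm_num at h1
        omega
      · have hX2 : (1 : ℤ) ≤ ((k' : ℤ) - k) ^ 2 := Int.add_one_le_iff.mpr (sq_pos_iff.mpr hX)
        have h2 : Q ^ 3 ≤ Q ^ 3 * ((k' : ℤ) - k) ^ 2 := le_mul_of_one_le_right (by positivity) hX2
        nlinarith [sq_nonneg ((k' : ℤ) - k), mul_le_mul_of_nonneg_right hQ (sq_nonneg Q)]
    · obtain ⟨f, hf, hfq, hfi⟩ := hside rfl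
      have h1 : (f : ℤ) ∣ ((p ^ e : ℕ) : ℤ) ^ 2 + 1 := by exact_mod_cast hfq
      have h2 : (2 : ℤ) * i = ((p ^ e : ℕ) : ℤ) ^ 2 * r := by exact_mod_cast hr
      rcases hfi with hfi | hfi
      · have h3 : (f : ℤ) ∣ (r : ℤ) := by
          have : (f : ℤ) ∣ (((p ^ e : ℕ) : ℤ) ^ 2 + 1) * r - 2 * i :=
            dvd_sub (h1.mul_right _) ((Int.natCast_dvd_natCast.mpr hfi).mul_left 2)
          rw [h2] at this
          convert this using 1
          ring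
        have := Nat.le_of_dvd hr0 (Int.natCast_dvd_natCast.mp h3)
        omega
      · have h3 : (f : ℤ) ∣ (r : ℤ) - 10 := by
          have : (f : ℤ) ∣ (((p ^ e : ℕ) : ℤ) ^ 2 + 1) * r - 2 * ((i + 5 : ℕ) : ℤ) :=
            dvd_sub (h1.mul_right _) ((Int.natCast_dvd_natCast.mpr hfi).mul_left 2)
          push_cast at this h2
          convert this using 1
          linear_combination h2
        have h4 := Int.natAbs_le_of_dvd_ne_zero h3 (by omega)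
        omega
  -- the valuation argument
  set v := padicValNat p i with hv
  obtain ⟨I, hI⟩ : p ^ v ∣ i := pow_padicValNat_dvd
  have hIp : ¬ p ∣ I := fun h => pow_succ_padicValNat_not_dvd (p := p) hi.ne'
    (by rw [← hv, pow_succ]; exact hI ▸ mul_dvd_mul_left _ h)
  have hdp : ¬ p ∣ d := by
    rcases hd with rfl | rfl
    · exact hp.not_dvd_one
    · exact fun h => hd5 rfl ((Nat.prime_dvd_prime_iff_eq hp (by norm_num)).mp h)
  have hve : v < 2 * e := by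
    by_contra hge
    refine hdiv (dvd_mul_of_dvd_right ?_ 2)
    rw [← pow_mul, Nat.mul_comm]
    exact (pow_dvd_pow p (not_lt.mp hge)).trans ⟨I, hI⟩
  obtain ⟨I', hI'⟩ : p ^ v ∣ i' := by
    have h1 : p ^ v ∣ d * (p ^ e) ^ 2 := dvd_mul_of_dvd_right
      (by rw [← pow_mul, Nat.mul_comm]; exact pow_dvd_pow p hve.le) d
    rw [← hsum] at h1
    exact (Nat.dvd_add_right ⟨I, hI⟩).mp h1
  have hII : (I + I' : ℕ) = d * p ^ (2 * e - v) := by
    refine Nat.eq_of_mul_eq_mul_left (pow_pos hp.pos v) ?_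
    rw [Nat.mul_add, ← hI, ← hI', hsum, mul_left_comm, ← pow_add, Nat.add_sub_cancel' hve.le, ← pow_mul,
      Nat.mul_comm e 2]
  set P : ℤ := (p : ℤ) with hP
  set Q : ℤ := P ^ e with hQ
  set w := padicValNat p (k * k') with hw
  have hkk : k * k' ≠ 0 := by positivity
  obtain ⟨B, hB⟩ : p ^ w ∣ k * k' := pow_padicValNat_dvd
  have hBp : ¬ p ∣ B := fun h => pow_succ_padicValNat_not_dvd (p := p) hkk
    (by rw [← hw, pow_succ]; exact hB ▸ mul_dvd_mul_left _ h)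
  have hppP : Prime P := Nat.prime_iff_prime_int.mp hp
  have hX : w + 2 * (if p = 2 then 1 else 0) + 1 ≤ 4 * e := by
    have hk5 : ¬ (p ∣ k ∧ p ∣ k') := fun ⟨ha, hb⟩ => by
      have h12 : p ∣ d * (p ^ e + 1) := hksum ▸ dvd_add ha hb
      rcases hp.dvd_mul.mp h12 with h13 | h13
      · exact hdp h13
      · exact hp.not_dvd_one ((Nat.dvd_add_right (dvd_pow_self p he)).mp h13)
    have h14 : p ^ w ∣ k ∨ p ^ w ∣ k' := by
      by_cases ha : p ∣ k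
      · left
        exact (Nat.Coprime.pow_left w (hp.coprime_iff_not_dvd.mpr fun hb => hk5 ⟨ha, hb⟩)).dvd_of_dvd_mul_right
          ⟨B, hB⟩
      · right
        exact (Nat.Coprime.pow_left w (hp.coprime_iff_not_dvd.mpr ha)).dvd_of_dvd_mul_left ⟨B, hB⟩
    have h15 : p ^ w < 8 * p ^ e := by
      have h16 : p ^ w ≤ k + k' := by
        rcases h14 with h14 | h14 <;> have := Nat.le_of_dvd (by omega) h14 <;> omega
      rcases hd with rfl | rfl <;> omega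
    split_ifs with hp2
    · subst hp2
      have h17 : w < e + 3 := (Nat.pow_lt_pow_iff_right (by norm_num : 1 < 2)).mp
        (by rw [pow_add]; linarith)
      have h18 : 2 ≤ e := by
        by_contra h
        have : e = 1 := by omega
        subst this
        norm_num at hq
      omega
    · have h3 : 3 ≤ p := by have := hp.two_le; omega
      have h19 : w < e + 2 := by
        refine (Nat.pow_lt_pow_iff_right (show 1 < p by omega)).mp (lt_of_lt_of_le h15 ?_)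
        rw [pow_add, Nat.mul_comm]
        exact Nat.mul_le_mul (le_refl _) (by nlinarith)
      omega
  have key : (Q ^ 4 * ((k' : ℤ) - k) ^ 2 * (I * I') +
      (Q + 1) ^ 2 * (Q - 1) * (Q ^ 2 + 1) * ((I' : ℤ) - I) ^ 2 * (k * k') - 4 * Q * (k * k') * (I * I')) ^ 2 =
      4 * (Q + 1) ^ 2 * (Q ^ 4 * ((k' : ℤ) - k) ^ 2) * ((Q - 1) * (Q ^ 2 + 1) * ((I' : ℤ) - I) ^ 2) *
        (k * k') * (I * I') := by
    have hi2 : (i : ℤ) = P ^ v * I := by rw [hI]; push_cast; rfl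
    have hi2' : (i' : ℤ) = P ^ v * I' := by rw [hI']; push_cast; rfl
    refine mul_left_cancel₀ (a := (Q * (P ^ v) ^ 2) ^ 2)
      (pow_ne_zero 2 (mul_ne_zero (pow_ne_zero e hppP.ne_zero) (pow_ne_zero 2 (pow_ne_zero v hppP.ne_zero)))) ?_
    rw [hi2, hi2'] at heq
    linear_combination heq
  -- the exact power of `p` in the middle term
  set t : ℕ := if p = 2 then 1 else 0 with ht
  have hY : ∃ Y : ℤ, (I' : ℤ) - I = P ^ t * Y ∧ ¬ P ∣ Y := by
    have h1 : (I' : ℤ) - I = d * P ^ (2 * e - v) - 2 * I := by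
      have h3 : ((I + I' : ℕ) : ℤ) = ((d * p ^ (2 * e - v) : ℕ) : ℤ) := by rw [hII]
      push_cast at h3
      rw [hP]
      linarith
    obtain ⟨u, hu⟩ : ∃ u, 2 * e - v = u + 1 := ⟨2 * e - v - 1, by omega⟩
    by_cases hp2 : p = 2
    · have hv2 : 2 ≤ 2 * e - v := by
        by_contra hlt
        refine hdiv ⟨I, ?_⟩
        rw [hI, hp2, ← pow_mul, show e * 2 = v + 1 by omega, pow_succ]
        ring
      obtain ⟨u2, hu2⟩ : ∃ u2, u = u2 + 1 := ⟨u - 1, by omega⟩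
      refine ⟨d * P ^ u - I, ?_, ?_⟩
      · rw [ht, if_pos hp2, h1, hu, pow_one, pow_succ, hP, hp2]
        push_cast
        ring
      · intro h2
        refine hIp (Int.natCast_dvd_natCast.mp ?_)
        have h3 : P ∣ (d : ℤ) * P ^ u := dvd_mul_of_dvd_right (hu2 ▸ dvd_pow_self P (by omega)) _
        simpa [hP] using dvd_sub h3 h2
    · refine ⟨d * P ^ (u + 1) - 2 * I, by rw [ht, if_neg hp2, pow_zero, one_mul, h1, hu], fun h2 => ?_⟩
      have h3 : P ∣ (d : ℤ) * P ^ (u + 1) := dvd_mul_of_dvd_right (dvd_pow_self P (by omega)) _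
      have h4 : P ∣ ((2 * I : ℕ) : ℤ) := by
        push_cast
        simpa using dvd_sub h3 h2
      rcases hp.dvd_mul.mp (Int.natCast_dvd_natCast.mp h4) with h5 | h5
      · exact hp2 ((Nat.prime_dvd_prime_iff_eq hp Nat.prime_two).mp h5)
      · exact hIp h5
  obtain ⟨Y, hYe, hYp⟩ := hY
  have ht1 : t ≤ 1 := by rw [ht]; split_ifs <;> omega
  have h4d : P ^ (2 * t) ∣ (4 : ℤ) := by
    rw [ht]
    split_ifs with h
    · rw [hP, h]; norm_num
    · simp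
  have hkz : ((k : ℤ) * k') = P ^ w * B := by
    have : ((k * k' : ℕ) : ℤ) = ((p ^ w * B : ℕ) : ℤ) := by rw [hB]
    push_cast at this
    exact this
  rw [hkz, hYe] at key
  set n := w + 2 * t with hn
  have hQ4 : P ^ (n + 1) ∣ Q ^ 4 := by
    rw [hQ, ← pow_mul]
    exact pow_dvd_pow P (by omega)
  set Tm : ℤ := (Q + 1) ^ 2 * (Q - 1) * (Q ^ 2 + 1) * (P ^ t * Y) ^ 2 * (P ^ w * B) with hTm
  have hrest : P ^ (n + 1) ∣ Q ^ 4 * ((k' : ℤ) - k) ^ 2 * (I * I') - 4 * Q * (P ^ w * B) * (I * I') := by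
    refine dvd_sub ((hQ4.mul_right _).mul_right _) (Dvd.dvd.mul_right ?_ _)
    have h1 : P ^ (2 * t) * P * P ^ w ∣ 4 * Q * (P ^ w * B) :=
      mul_dvd_mul (mul_dvd_mul h4d (dvd_pow_self P he)) (dvd_mul_right _ _)
    refine dvd_trans (dvd_of_eq ?_) h1
    rw [hn]; ring
  have hsq : P ^ (2 * n + 1) ∣ (Q ^ 4 * ((k' : ℤ) - k) ^ 2 * (I * I') + Tm - 4 * Q * (P ^ w * B) * (I * I')) ^ 2 := by
    rw [hTm, key]
    have h1 : P ^ (2 * t) * P ^ (4 * e) * P ^ (2 * t) * P ^ w ∣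
        4 * (Q + 1) ^ 2 * (Q ^ 4 * ((k' : ℤ) - k) ^ 2) * ((Q - 1) * (Q ^ 2 + 1) * (P ^ t * Y) ^ 2) *
        (P ^ w * B) * (I * I') := by
      refine Dvd.dvd.mul_right (mul_dvd_mul (mul_dvd_mul (mul_dvd_mul (h4d.mul_right _) ?_) ?_) (dvd_mul_right _ _)) _
      · rw [hQ, ← pow_mul, Nat.mul_comm e 4]
        exact dvd_mul_right _ _
      · refine dvd_mul_of_dvd_right ?_ _
        rw [mul_pow, ← pow_mul, Nat.mul_comm t 2]
        exact dvd_mul_right _ _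
    refine dvd_trans ?_ h1
    rw [← pow_add, ← pow_add, ← pow_add]
    exact pow_dvd_pow P (by omega)
  have hS : P ^ (n + 1) ∣ Q ^ 4 * ((k' : ℤ) - k) ^ 2 * (I * I') + Tm - 4 * Q * (P ^ w * B) * (I * I') := by
    set S := Q ^ 4 * ((k' : ℤ) - k) ^ 2 * (I * I') + Tm - 4 * Q * (P ^ w * B) * (I * I')
    by_cases h0 : S = 0
    · simp [h0]
    rw [hP] at hsq ⊢
    have h1 := (padicValInt_dvd_iff (2 * n + 1) (S ^ 2)).mp hsq
    refine (padicValInt_dvd_iff (n + 1) S).mpr (Or.inr ?_)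
    rcases h1 with h1 | h1
    · exact absurd (pow_eq_zero_iff two_ne_zero |>.mp h1) h0
    · rw [pow_two, padicValInt.mul h0 h0] at h1
      omega
  have hTd : P ^ (n + 1) ∣ Tm := by
    exact (dvd_sub hS hrest).trans (dvd_of_eq (by ring))
  have hTm' : Tm = P ^ n * ((Q + 1) ^ 2 * (Q - 1) * (Q ^ 2 + 1) * Y ^ 2 * B) := by
    rw [hTm, hn]
    ring
  rw [hTm', pow_succ, mul_dvd_mul_iff_left (pow_ne_zero n hppP.ne_zero)] at hTd
  have hPQ : P ∣ Q := dvd_pow_self P he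
  rcases hppP.dvd_mul.mp hTd with h1 | h1
  · rcases hppP.dvd_mul.mp h1 with h1 | h1
    · rcases hppP.dvd_mul.mp h1 with h1 | h1
      · rcases hppP.dvd_mul.mp h1 with h1 | h1
        · have := dvd_sub (hppP.dvd_of_dvd_pow h1) hPQ
          simp only [add_sub_cancel_left] at this
          exact hppP.not_isUnit (isUnit_of_dvd_one this)
        · have := dvd_sub hPQ h1
          simp only [sub_sub_cancel] at this
          exact hppP.not_isUnit (isUnit_of_dvd_one this)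
      · have := dvd_sub h1 (dvd_pow hPQ two_ne_zero)
        simp only [add_sub_cancel_left] at this
        exact hppP.not_isUnit (isUnit_of_dvd_one this)
    · exact hYp (hppP.dvd_of_dvd_pow h1)
  · exact hBp (Int.natCast_dvd_natCast.mp h1)

end CfsgLib.MaxSub.SU5Quintic
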