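/-
The central pieces of the Weil character, as class functions independent of the additive character.
-/
import Cfsg.Agent.Lib.MaxSub.SU5Quintic.Herm

set_option autoImplicit false
set_option linter.unusedSectionVars false

namespace CfsgLib.MaxSub.SU5Quintic

universe u v

namespace Data

variable {F : Type u} [Field F] [Fintype F] {V : Type v} [AddCommGroup V] [Module F V] (D : Data F V)

/-- The Weil character on linear automorphisms. -/
noncomputable def weilFn (g : V ≃ₗ[F] V) : ℂ :=
  (-1 : ℂ) ^ Module.finrank F V *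
    (-(D.q : ℂ)) ^ Module.finrank F (LinearMap.ker (g.toLinearMap - LinearMap.id))

/-- The units of norm one. -/
def circ : Subgroup Fˣ := (powMonoidHom (D.q + 1)).ker

theorem mem_circ {lam : Fˣ} : lam ∈ D.circ ↔ lam ^ (D.q + 1) = 1 := Iff.rfl

/-- Multiplication by a unit. -/
def scal (lam : Fˣ) : V ≃ₗ[F] V := LinearEquiv.smulOfUnit lam

@[simp] theorem scal_apply (lam : Fˣ) (v : V) : scal lam v = (lam : F) • v := rfl

open Classical in
/-- The part of the Weil character with central character `om`. -/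
noncomputable def theta (om : D.circ →* ℂˣ) (g : V ≃ₗ[F] V) : ℂ :=
  ((D.q : ℂ) + 1)⁻¹ * ∑ lam : D.circ, ((om lam : ℂˣ) : ℂ)⁻¹ * D.weilFn (scal (lam : Fˣ) * g)

/-- A set of vectors invariant under `M` and under all non-zero scalars. -/
def IsPointSet (M : Subgroup (V ≃ₗ[F] V)) (S : Set V) : Prop :=
  (∀ g ∈ M, ∀ v ∈ S, g v ∈ S) ∧ ∀ (c : F) (v : V), c ≠ 0 → v ∈ S → c • v ∈ S

end Data

end CfsgLib.MaxSub.SU5Quintic
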