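/-
The twisting cocycle, and hermitian Gauss sums.
-/
import Cfsg.Agent.Lib.MaxSub.SU5Quintic.Herm

set_option autoImplicit false
set_option linter.unusedSectionVars false

namespace CfsgLib.MaxSub.SU5Quintic

open scoped BigOperators ComplexConjugate

universe u v

variable {F : Type u} [Field F] [Fintype F] {V : Type v} [AddCommGroup V] [Module F V]

namespace Data

variable (D : Data F V)

theorem σσ (x : F) : D.σ (D.σ x) = x := by
  rw [D.σ_apply, D.σ_apply, ← pow_mul, ← sq, ← D.card_F, FiniteField.pow_card]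

theorem real_tr (x : F) : D.σ (D.tr x) = D.tr x := by
  rw [tr, map_add, D.σσ, add_comm]

theorem real_nrm (v : V) : D.σ (D.nrm v) = D.nrm v := D.herm v v

theorem tr_add (x y : F) : D.tr (x + y) = D.tr x + D.tr y := by
  simp only [tr, map_add]; ring

theorem tr_zero : D.tr 0 = 0 := by simp [tr]

theorem tr_neg (x : F) : D.tr (-x) = -D.tr x := by
  simp only [tr, map_neg]; ring

theorem tr_mul_real (x : F) {r : F} (hr : D.σ r = r) : D.tr (x * r) = D.tr x * r := by
  simp only [tr, map_mul, hr]; ring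

theorem tr_xi : D.tr D.xi = 1 := D.xi_trace

theorem xi_sub_ne : D.xi - D.σ D.xi ≠ 0 := sub_ne_zero.2 (Ne.symm D.xi_ne)

theorem coc_eq (v w : V) : D.coc v w = D.psi (D.tr (D.xi * D.form v w)) := rfl

theorem coc_add_left (u v w : V) : D.coc (u + v) w = D.coc u w * D.coc v w := by
  simp only [coc, map_add, LinearMap.add_apply, mul_add, D.tr_add, AddChar.map_add_eq_mul]

theorem coc_add_right (u v w : V) : D.coc u (v + w) = D.coc u v * D.coc u w := by
  simp only [coc, map_add, mul_add, D.tr_add, AddChar.map_add_eq_mul]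

theorem coc_zero_left (v : V) : D.coc 0 v = 1 := by
  simp [coc, tr]

theorem coc_zero_right (v : V) : D.coc v 0 = 1 := by
  simp [coc, tr]

theorem coc_ne_zero (v w : V) : D.coc v w ≠ 0 := by
  intro h
  have := D.psi.map_add_eq_mul (D.tr (D.xi * D.form v w)) (-(D.tr (D.xi * D.form v w)))
  rw [add_neg_cancel, AddChar.map_zero_eq_one, ← coc_eq, h, zero_mul] at this
  exact one_ne_zero this

theorem coc_neg_left (v w : V) : D.coc (-v) w = (D.coc v w)⁻¹ := by
  simp only [coc, map_neg, LinearMap.neg_apply, mul_neg, D.tr_neg, AddChar.map_neg_eq_inv]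

theorem coc_neg_right (v w : V) : D.coc v (-w) = (D.coc v w)⁻¹ := by
  simp only [coc, map_neg, mul_neg, D.tr_neg, AddChar.map_neg_eq_inv]

theorem coc_sub_right (u v w : V) : D.coc u (v - w) = D.coc u v / D.coc u w := by
  rw [sub_eq_add_neg, D.coc_add_right, D.coc_neg_right, div_eq_mul_inv]

theorem coc_sub_left (u v w : V) : D.coc (u - v) w = D.coc u w / D.coc v w := by
  rw [sub_eq_add_neg, D.coc_add_left, D.coc_neg_left, div_eq_mul_inv]

theorem conj_psi (x : F) : conj (D.psi x) = (D.psi x)⁻¹ := by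
  rw [← AddChar.map_neg_eq_conj, AddChar.map_neg_eq_inv]

theorem conj_coc (v w : V) : conj (D.coc v w) = (D.coc v w)⁻¹ := D.conj_psi _

/-- A vector symmetric for the cocycle against a subspace is perpendicular to it. -/
theorem perp_of_symm (P : Submodule F V) {v : V} (h : ∀ w ∈ P, D.coc v w = D.coc w v) :
    ∀ w ∈ P, D.form v w = 0 := by
  intro w hw
  by_contra hne
  obtain ⟨x, hx, hx1⟩ := D.psi_ne
  apply hx1
  set y := D.xi * x / (D.xi - D.σ D.xi) with hy
  set c := D.σ (y / D.form v w) with hc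
  have hform : D.form v (c • w) = y := by
    rw [map_smulₛₗ, smul_eq_mul, hc, D.σσ, div_mul_cancel₀ y hne]
  have h1 := h (c • w) (P.smul_mem c hw)
  rw [D.coc_eq, D.coc_eq, ← D.herm v (c • w), hform] at h1
  have h2 : D.psi (D.tr (D.xi * y) + -D.tr (D.xi * D.σ y)) = 1 := by
    rw [AddChar.map_add_eq_mul, AddChar.map_neg_eq_inv, h1, mul_inv_cancel₀]
    rw [← h1]
    intro h0
    exact D.coc_ne_zero v (c • w) (by rw [D.coc_eq, hform]; exact h0)
  convert h2 using 2
  have e : (D.xi - D.σ D.xi) * y = D.xi * x := by rw [hy, mul_div_cancel₀ _ D.xi_sub_ne]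
  have : D.tr ((D.xi - D.σ D.xi) * y) = D.tr (D.xi * y) + -D.tr (D.xi * D.σ y) := by
    simp only [tr, map_mul, map_sub, D.σσ]; ring
  rw [← this, e, D.tr_mul_real _ hx, D.tr_xi, one_mul]

theorem exists_skew {v : V} (hv : v ≠ 0) : ∃ w, D.coc v w ≠ D.coc w v := by
  by_contra h
  simp only [not_exists, not_not] at h
  exact hv (D.nondeg v fun w => D.perp_of_symm ⊤ (fun w _ => h w) w Submodule.mem_top)

/-- The one-dimensional Gauss sum. -/
theorem gauss_one {c : F} (hc : c ≠ 0) (hσ : D.σ c = c) :
    ∑ x : F, D.psi (x * D.σ x * c) = -(D.q : ℂ) := by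
  classical
  have hq := D.two_le
  have hN : ∀ x : F, x * D.σ x = x ^ (D.q + 1) := fun x => by rw [D.σ_apply, pow_succ']
  let K := (Finset.univ : Finset F).filter fun r => D.σ r = r ∧ r ≠ 0
  let X := (Finset.univ : Finset F).filter fun x => x ≠ 0
  have hmaps : ∀ x ∈ X, x ^ (D.q + 1) ∈ K := by
    intro x hx
    simp only [X, K, Finset.mem_filter, Finset.mem_univ, true_and] at hx ⊢
    exact ⟨by rw [← hN, map_mul, D.σσ, mul_comm], pow_ne_zero _ hx⟩
  have hfib : ∀ r ∈ K, (X.filter fun x => x ^ (D.q + 1) = r).card ≤ D.q + 1 := by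
    intro r _
    calc _ ≤ (Polynomial.nthRoots (D.q + 1) r).toFinset.card := Finset.card_le_card fun x hx => by
          rw [Multiset.mem_toFinset, Polynomial.mem_nthRoots (Nat.succ_pos _)]
          exact (Finset.mem_filter.1 hx).2
      _ ≤ Multiset.card (Polynomial.nthRoots (D.q + 1) r) := Multiset.toFinset_card_le _
      _ ≤ D.q + 1 := Polynomial.card_nthRoots _ _
  have hK : K.card ≤ D.q - 1 := by
    calc _ ≤ (Polynomial.nthRoots (D.q - 1) (1 : F)).toFinset.card := Finset.card_le_card fun r hr => by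
          simp only [K, Finset.mem_filter, Finset.mem_univ, true_and] at hr
          rw [Multiset.mem_toFinset, Polynomial.mem_nthRoots (by omega)]
          refine mul_left_cancel₀ hr.2 ?_
          rw [← pow_succ', Nat.sub_add_cancel (by omega), ← D.σ_apply, hr.1, mul_one]
      _ ≤ Multiset.card (Polynomial.nthRoots (D.q - 1) (1 : F)) := Multiset.toFinset_card_le _
      _ ≤ D.q - 1 := Polynomial.card_nthRoots _ _
  have hX : X.card = (D.q + 1) * (D.q - 1) := by
    simp only [X, Finset.filter_ne', Finset.card_erase_of_mem (Finset.mem_univ _), Finset.card_univ, D.card_F]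
    rw [← Nat.sq_sub_sq, one_pow]
  have hsum : X.card = ∑ r ∈ K, (X.filter fun x => x ^ (D.q + 1) = r).card :=
    Finset.card_eq_sum_card_fiberwise hmaps
  have hexact : ∀ r ∈ K, (X.filter fun x => x ^ (D.q + 1) = r).card = D.q + 1 := by
    intro r hr
    refine le_antisymm (hfib r hr) (not_lt.1 fun hlt => ?_)
    have h1 : X.card < ∑ _r ∈ K, (D.q + 1) := hsum ▸ Finset.sum_lt_sum hfib ⟨r, hr, hlt⟩
    rw [Finset.sum_const, smul_eq_mul, hX, mul_comm K.card] at h1
    exact absurd (Nat.lt_of_mul_lt_mul_left h1) (not_lt.2 hK)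
  -- the character sum over the fixed field
  have hS : ∑ r ∈ K, D.psi (r * c) = -1 := by
    obtain ⟨x₀, hx₀, hne⟩ := D.psi_ne
    let K' := (Finset.univ : Finset F).filter fun r => D.σ r = r
    have e : K' = insert 0 K := by
      ext r
      simp only [K, K', Finset.mem_filter, Finset.mem_univ, true_and, Finset.mem_insert]
      refine ⟨fun h => ?_, ?_⟩
      · by_cases h0 : r = 0
        · exact Or.inl h0
        · exact Or.inr ⟨h, h0⟩
      · rintro (rfl | h)
        · exact map_zero _
        · exact h.1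
    have h0 : ∑ r ∈ K', D.psi (r * c) = 0 := by
      have hmul : D.psi x₀ * ∑ r ∈ K', D.psi (r * c) = ∑ r ∈ K', D.psi (r * c) := by
        rw [Finset.mul_sum]
        refine Finset.sum_nbij' (fun r => r + x₀ / c) (fun r => r - x₀ / c) ?_ ?_ ?_ ?_ ?_
        · intro r hr
          have hr' : D.σ r = r := (Finset.mem_filter.1 (Finset.mem_coe.1 hr)).2
          refine Finset.mem_coe.2 (Finset.mem_filter.2 ⟨Finset.mem_univ _, ?_⟩)
          simp [hr', hσ, hx₀]
        · intro r hr
          have hr' : D.σ r = r := (Finset.mem_filter.1 (Finset.mem_coe.1 hr)).2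
          refine Finset.mem_coe.2 (Finset.mem_filter.2 ⟨Finset.mem_univ _, ?_⟩)
          simp [hr', hσ, hx₀]
        · intro r _; simp
        · intro r _; simp
        · intro r _
          rw [← AddChar.map_add_eq_mul, add_mul, div_mul_cancel₀ x₀ hc, add_comm]
      by_contra h
      exact hne (by rw [← mul_eq_right₀ h]; exact hmul)
    rw [e, Finset.sum_insert (by simp [K]), zero_mul, AddChar.map_zero_eq_one] at h0
    linear_combination h0
  have hsplit : ∑ x : F, D.psi (x * D.σ x * c) = 1 + ∑ x ∈ X, D.psi (x * D.σ x * c) := by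
    rw [← Finset.add_sum_erase _ _ (Finset.mem_univ (0 : F))]
    simp [X, Finset.filter_ne']
  have hfw : ∑ x ∈ X, D.psi (x * D.σ x * c) = ∑ r ∈ K, ((D.q : ℂ) + 1) * D.psi (r * c) := by
    rw [← Finset.sum_fiberwise_of_maps_to hmaps]
    refine Finset.sum_congr rfl fun r hr => ?_
    rw [Finset.sum_congr rfl (g := fun _ => D.psi (r * c))
      (fun x hx => by rw [hN, (Finset.mem_filter.1 hx).2]), Finset.sum_const, hexact r hr, nsmul_eq_mul]
    push_cast; ring
  rw [hsplit, hfw, ← Finset.mul_sum, hS]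
  ring

/-- Hermitian Gauss sums are powers of `-q`. -/
theorem gauss {W : Type v} [AddCommGroup W] [Module F W] [Fintype W] (H : W →ₗ[F] W →ₛₗ[D.σ] F)
    (hH : ∀ v w, D.σ (H v w) = H w v) :
    ∃ j : ℕ, ∑ v : W, D.psi (H v v) = (-(D.q : ℂ)) ^ j := by
  classical
  suffices key : ∀ (s : ℕ) (W : Type v) [AddCommGroup W] [Module F W] [Fintype W],
      Module.finrank F W ≤ s → ∀ H : W →ₗ[F] W →ₛₗ[D.σ] F, (∀ v w, D.σ (H v w) = H w v) →
      ∃ j : ℕ, ∑ v : W, D.psi (H v v) = (-(D.q : ℂ)) ^ j from key _ W le_rfl H hH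
  intro s
  induction s with
  | zero =>
    intro W _ _ _ hs H hH
    refine ⟨0, ?_⟩
    haveI : Subsingleton W := Module.finrank_zero_iff.1 (Nat.le_zero.1 hs)
    rw [Fintype.sum_eq_single (0 : W) (fun x hx => absurd (Subsingleton.elim x 0) hx)]
    simp
  | succ s ih =>
    intro W _ _ _ hs H hH
    by_cases h0 : ∀ v, H v v = 0
    · refine ⟨2 * Module.finrank F W, ?_⟩
      simp only [h0, AddChar.map_zero_eq_one, Finset.sum_const, Finset.card_univ, nsmul_eq_mul, mul_one]
      rw [Module.card_eq_pow_finrank (K := F), D.card_F, pow_mul, neg_sq]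
      push_cast; rfl
    simp only [not_forall] at h0
    obtain ⟨a, ha⟩ := h0
    let φ : W →ₗ[F] F := H.flip a
    have hφ : ∀ w, φ w = H w a := fun w => rfl
    let K : Submodule F W := LinearMap.ker φ
    have haK : a ∉ K := fun h => ha (by rw [LinearMap.mem_ker, hφ] at h; exact h)
    have hKW : Module.finrank F K ≤ s := by
      have := Submodule.finrank_lt (s := K) (fun h => haK (h ▸ Submodule.mem_top))
      omega
    obtain ⟨j, hj⟩ := ih K hKW
      (LinearMap.mk₂'ₛₗ (RingHom.id F) D.σ (fun x y => H (x : W) (y : W))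
        (fun x y z => by simp) (fun c x y => by simp) (fun x y z => by simp) (fun c x y => by simp))
      (fun v w => hH v w)
    refine ⟨1 + j, ?_⟩
    let e : F × K ≃ W :=
      { toFun := fun p => p.1 • a + (p.2 : W)
        invFun := fun w => (φ w / φ a, ⟨w - (φ w / φ a) • a, by
          rw [LinearMap.mem_ker, map_sub, map_smul, smul_eq_mul, div_mul_cancel₀ _ (by rwa [hφ]), sub_self]⟩)
        left_inv := fun p => by
          have hp : φ (p.2 : W) = 0 := p.2.2
          have : φ (p.1 • a + (p.2 : W)) / φ a = p.1 := by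
            rw [map_add, map_smul, hp, add_zero, smul_eq_mul, mul_div_cancel_right₀ _ (by rwa [hφ])]
          refine Prod.ext this (Subtype.ext ?_)
          show p.1 • a + (p.2 : W) - (φ (p.1 • a + (p.2 : W)) / φ a) • a = (p.2 : W)
          rw [this, add_sub_cancel_left]
        right_inv := fun w => add_sub_cancel _ _ }
    have hval : ∀ p : F × K, D.psi (H (e p) (e p)) = D.psi (p.1 * D.σ p.1 * H a a) * D.psi (H (p.2 : W) (p.2 : W)) := by
      intro p
      rw [← AddChar.map_add_eq_mul]
      have h1 : H (p.2 : W) a = 0 := p.2.2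
      have h2 : H a (p.2 : W) = 0 := by rw [← hH, h1, map_zero]
      show D.psi (H (p.1 • a + (p.2 : W)) (p.1 • a + (p.2 : W))) = _
      congr 1
      simp [h1, h2]
      ring
    rw [← e.sum_comp, Fintype.sum_congr _ _ hval, Fintype.sum_prod_type, pow_add, pow_one, ← hj, ← D.gauss_one ha (hH a a),
      Finset.sum_mul]
    refine Finset.sum_congr rfl fun x _ => ?_
    rw [Finset.mul_sum]
    rfl

end Data

end CfsgLib.MaxSub.SU5Quintic
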