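/-
The twisted group algebra is a matrix algebra.
-/
import Cfsg.Agent.Lib.MaxSub.SU5Quintic.WeilGauss

set_option autoImplicit false
set_option linter.unusedSectionVars false

namespace CfsgLib.MaxSub.SU5Quintic

open scoped BigOperators ComplexConjugate

universe u v

variable {F : Type u} [Field F] [Fintype F] {V : Type v} [AddCommGroup V] [Module F V]

/-- The twisted group algebra. -/
def Alg (_D : Data F V) : Type v := V → ℂ

namespace Data

variable (D : Data F V)

noncomputable instance : AddCommGroup (Alg D) := inferInstanceAs (AddCommGroup (V → ℂ))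
noncomputable instance : Module ℂ (Alg D) := inferInstanceAs (Module ℂ (V → ℂ))

theorem Alg.ext' {a b : Alg D} (h : ∀ x, a x = b x) : a = b := funext h

variable [Fintype V] [DecidableEq V]

noncomputable instance : Mul (Alg D) := ⟨fun a b => D.conv a b⟩
noncomputable instance : One (Alg D) := ⟨fun x => if x = 0 then 1 else 0⟩

theorem mul_apply (a b : Alg D) (x : V) :
    (a * b : Alg D) x = ∑ v, a v * b (x - v) * D.coc v (x - v) := rfl

theorem one_apply (x : V) : (1 : Alg D) x = if x = 0 then 1 else 0 := rfl

/-- A basis element. -/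
noncomputable def sgl (w : V) : Alg D := fun x => if x = w then 1 else 0

theorem sgl_zero : D.sgl 0 = (1 : Alg D) := rfl

theorem sgl_mul (w : V) (a : Alg D) (x : V) :
    (D.sgl w * a : Alg D) x = a (x - w) * D.coc w (x - w) := by
  rw [mul_apply, Finset.sum_eq_single w (fun v _ hv => by simp [sgl, hv]) (fun h => absurd (Finset.mem_univ _) h)]
  simp [sgl]

theorem mul_sgl (a : Alg D) (w : V) (x : V) :
    (a * D.sgl w : Alg D) x = a (x - w) * D.coc (x - w) w := by
  rw [mul_apply, Finset.sum_eq_single (x - w)
    (fun v _ hv => by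
      have : x - v ≠ w := fun e => hv (by rw [← e]; abel)
      simp [sgl, this])
    (fun h => absurd (Finset.mem_univ _) h)]
  simp [sgl]

noncomputable instance instRing : Ring (Alg D) :=
  { (inferInstance : AddCommGroup (Alg D)) with
    mul := (· * ·)
    one := 1
    left_distrib := fun a b c => funext fun x => by
      change (a * (b + c) : Alg D) x = (a * b : Alg D) x + (a * c : Alg D) x
      simp only [mul_apply]
      rw [← Finset.sum_add_distrib]
      exact Finset.sum_congr rfl fun v _ => by
        show a v * (b (x - v) + c (x - v)) * _ = _; ring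
    right_distrib := fun a b c => funext fun x => by
      change ((a + b) * c : Alg D) x = (a * c : Alg D) x + (b * c : Alg D) x
      simp only [mul_apply]
      rw [← Finset.sum_add_distrib]
      exact Finset.sum_congr rfl fun v _ => by
        show (a v + b v) * c (x - v) * _ = _; ring
    zero_mul := fun a => funext fun x => by
      change ((0 : Alg D) * a : Alg D) x = 0
      rw [mul_apply]
      exact Finset.sum_eq_zero fun v _ => by show (0 : ℂ) * _ * _ = 0; ring
    mul_zero := fun a => funext fun x => by
      change (a * (0 : Alg D) : Alg D) x = 0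
      rw [mul_apply]
      exact Finset.sum_eq_zero fun v _ => by show _ * (0 : ℂ) * _ = 0; ring
    one_mul := fun a => funext fun x => by
      change (D.sgl 0 * a : Alg D) x = a x
      rw [sgl_mul, sub_zero, coc_zero_left, mul_one]
    mul_one := fun a => funext fun x => by
      change (a * D.sgl 0 : Alg D) x = a x
      rw [mul_sgl, sub_zero, coc_zero_right, mul_one]
    mul_assoc := fun a b c => funext fun x => by
      change (a * b * c : Alg D) x = (a * (b * c) : Alg D) x
      simp only [mul_apply, Finset.sum_mul, Finset.mul_sum]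
      rw [Finset.sum_comm]
      refine Finset.sum_congr rfl fun u _ => ?_
      rw [← Equiv.sum_comp (Equiv.addLeft u)]
      refine Finset.sum_congr rfl fun w _ => ?_
      simp only [Equiv.coe_addLeft, add_sub_cancel_left, sub_sub]
      rw [D.coc_add_left u w, show x - u = w + (x - (u + w)) by abel, D.coc_add_right u w]
      ring }

theorem smul_apply (k : ℂ) (a : Alg D) (x : V) : (k • a : Alg D) x = k * a x := rfl

noncomputable instance instAlgebra : Algebra ℂ (Alg D) :=
  Algebra.ofModule
    (fun k a b => funext fun x => by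
      simp only [smul_apply, mul_apply, Finset.mul_sum, mul_assoc])
    (fun k a b => funext fun x => by
      simp only [smul_apply, mul_apply, Finset.mul_sum]
      exact Finset.sum_congr rfl fun v _ => by ring)

theorem eq_sum_sgl (a : Alg D) : a = ∑ v, a v • D.sgl v := by
  funext x
  have : (∑ v, a v • D.sgl v : Alg D) x = ∑ v, a v * (if x = v then 1 else 0) := Finset.sum_apply (M := fun _ => ℂ) x _ _
  rw [this, Finset.sum_eq_single x (fun v _ hv => by simp [Ne.symm hv]) (fun h => absurd (Finset.mem_univ _) h)]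
  simp

/-- The inverse of a basis element. -/
noncomputable def sglInv (w : V) : Alg D := D.coc w w • D.sgl (-w)

theorem sglInv_mul (w : V) : D.sglInv w * D.sgl w = 1 := by
  funext x
  rw [sglInv, smul_mul_assoc, smul_apply, sgl_mul]
  by_cases h : x = 0
  · subst h
    simp [one_apply, sgl, D.coc_neg_left, D.coc_ne_zero]
  · have : x - -w ≠ w := fun e => h (by
      rw [sub_neg_eq_add] at e; simpa using e)
    simp [one_apply, sgl, h]

theorem conj_sgl (w : V) (b : Alg D) (x : V) :
    (D.sgl w * b * D.sglInv w : Alg D) x = b x * (D.coc w x / D.coc x w) := by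
  rw [sglInv, mul_smul_comm, smul_apply, mul_sgl, sgl_mul]
  simp only [sub_neg_eq_add, add_sub_cancel_right, D.coc_add_left, D.coc_neg_right]
  field_simp [D.coc_ne_zero]

theorem sum_comm_ratio {x : V} (hx : x ≠ 0) : ∑ w, D.coc w x / D.coc x w = 0 := by
  obtain ⟨u, hu⟩ := D.exists_skew hx
  have hmul : D.coc u x / D.coc x u * ∑ w, D.coc w x / D.coc x w = ∑ w, D.coc w x / D.coc x w := by
    rw [Finset.mul_sum]
    refine Fintype.sum_equiv (Equiv.addLeft u) _ _ fun w => ?_
    rw [Equiv.coe_addLeft, D.coc_add_left, D.coc_add_right, div_mul_div_comm]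
  by_contra h
  exact hu ((div_eq_one_iff_eq (D.coc_ne_zero x u)).1 (mul_right_cancel₀ h (hmul.trans (one_mul _).symm))).symm

instance : Nontrivial (Alg D) := ⟨⟨1, 0, fun h => by
  have h1 := congrFun h (0 : V)
  rw [one_apply, if_pos rfl] at h1
  exact one_ne_zero (α := ℂ) h1⟩⟩

instance : IsSimpleRing (Alg D) := IsSimpleRing.of_eq_bot_or_eq_top fun I => by
  rw [or_iff_not_imp_left]
  intro hI
  obtain ⟨a, haI, ha⟩ := SetLike.exists_of_lt (bot_lt_iff_ne_bot.2 hI)
  obtain ⟨v₀, hv₀⟩ : ∃ v, a v ≠ 0 := by
    by_contra h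
    simp only [not_exists, not_not] at h
    exact ha (show a = 0 from funext h)
  set b := a * D.sgl (-v₀)
  have hb0 : b 0 ≠ 0 := by
    show (a * D.sgl (-v₀) : Alg D) 0 ≠ 0
    rw [mul_sgl, zero_sub, neg_neg]
    exact mul_ne_zero hv₀ (D.coc_ne_zero _ _)
  have hb : b ∈ I := I.mul_mem_right _ _ haI
  have hsum : (∑ w, D.sgl w * b * D.sglInv w) ∈ I :=
    sum_mem fun w _ => I.mul_mem_right _ _ (I.mul_mem_left _ _ hb)
  have heq : (∑ w, D.sgl w * b * D.sglInv w) = ((Fintype.card V : ℂ) * b 0) • (1 : Alg D) := by
    funext x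
    rw [smul_apply, one_apply]
    have : (∑ w, D.sgl w * b * D.sglInv w : Alg D) x = ∑ w, b x * (D.coc w x / D.coc x w) :=
      (Finset.sum_apply (M := fun _ => ℂ) x _ _).trans (Finset.sum_congr rfl fun w _ => D.conj_sgl w b x)
    rw [this, ← Finset.mul_sum]
    by_cases hx : x = 0
    · subst hx
      simp [D.coc_zero_left, D.coc_zero_right, mul_comm]
    · rw [D.sum_comm_ratio hx, if_neg hx, mul_zero, mul_zero]
  rw [← I.one_mem_iff]
  have hne : ((Fintype.card V : ℂ) * b 0) ≠ 0 := mul_ne_zero (Nat.cast_ne_zero.2 Fintype.card_ne_zero) hb0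
  have h1 := I.mul_mem_left ((((Fintype.card V : ℂ) * b 0)⁻¹) • (1 : Alg D)) _ hsum
  rwa [heq, smul_one_mul, smul_smul, inv_mul_cancel₀ hne, one_smul] at h1

instance : FiniteDimensional ℂ (Alg D) := inferInstanceAs (FiniteDimensional ℂ (V → ℂ))

/-- The twisted algebra is a matrix algebra of degree `q ^ n`, its trace the value at zero. -/
theorem exists_matrix : ∃ E : Alg D ≃ₐ[ℂ] Matrix (Fin (D.q ^ Module.finrank F V)) (Fin (D.q ^ Module.finrank F V)) ℂ,
    ∀ a, (E a).trace = (D.q : ℂ) ^ Module.finrank F V * a 0 := by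
  obtain ⟨N, -, ⟨E⟩⟩ := IsSimpleRing.exists_algEquiv_matrix_of_isAlgClosed ℂ (Alg D)
  have hN : N = D.q ^ Module.finrank F V := by
    have h1 := E.toLinearEquiv.finrank_eq
    rw [Module.finrank_matrix, Fintype.card_fin, Module.finrank_self, mul_one,
      show Module.finrank ℂ (Alg D) = Fintype.card V from Module.finrank_fintype_fun_eq_card ℂ,
      Module.card_eq_pow_finrank (K := F), D.card_F, pow_right_comm, sq] at h1
    exact (Nat.mul_self_inj.1 h1).symm
  subst hN
  refine ⟨E, fun a => ?_⟩
  have hs : ∀ v, v ≠ 0 → (E (D.sgl v)).trace = 0 := by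
    intro v hv
    obtain ⟨w, hw⟩ := D.exists_skew hv
    have hc : D.sgl w * D.sgl v * D.sglInv w = (D.coc w v / D.coc v w) • D.sgl v := by
      funext x
      rw [conj_sgl, smul_apply]
      by_cases hx : x = v
      · subst hx; rw [mul_comm]
      · simp [sgl, hx]
    have h1 := congrArg (fun b => (E b).trace) hc
    simp only [map_mul, map_smul, Matrix.trace_smul, smul_eq_mul] at h1
    rw [Matrix.trace_mul_cycle, ← map_mul, D.sglInv_mul, map_one, Matrix.one_mul] at h1
    by_contra h
    exact hw ((div_eq_one_iff_eq (D.coc_ne_zero v w)).1 (mul_right_cancel₀ h (h1.symm.trans (one_mul _).symm))).symm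
  conv_lhs => rw [D.eq_sum_sgl a]
  rw [map_sum, Matrix.trace_sum, Finset.sum_eq_single (0 : V)
    (fun v _ hv => by rw [map_smul, Matrix.trace_smul, hs v hv, smul_zero])
    (fun h => absurd (Finset.mem_univ _) h)]
  rw [map_smul, Matrix.trace_smul, sgl_zero, map_one, Matrix.trace_one, Fintype.card_fin, smul_eq_mul]
  push_cast; ring

end Data

end CfsgLib.MaxSub.SU5Quintic
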