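/-
The Weil representation of a finite unitary group.
-/
import Cfsg.Agent.Lib.MaxSub.SU5Quintic.WeilAlg

set_option autoImplicit false
set_option linter.unusedSectionVars false
set_option maxHeartbeats 400000

namespace CfsgLib.MaxSub.SU5Quintic

open scoped BigOperators ComplexConjugate

universe u v

variable {F : Type u} [Field F] [Fintype F] {V : Type v} [AddCommGroup V] [Module F V]

namespace Data

/-- The displacement of a linear automorphism. -/
def disp (g : V ≃ₗ[F] V) : V →ₗ[F] V := g.toLinearMap - LinearMap.id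

theorem disp_apply (g : V ≃ₗ[F] V) (u : V) : disp g u = g u - u := rfl

theorem disp_mem (g : V ≃ₗ[F] V) (u : V) : g u - u ∈ LinearMap.range (disp g) := ⟨u, rfl⟩

theorem range_disp_inv (g : V ≃ₗ[F] V) : LinearMap.range (disp g⁻¹) = LinearMap.range (disp g) := by
  ext x
  constructor
  · rintro ⟨u, rfl⟩
    exact ⟨-(g⁻¹ u), by
      rw [disp_apply, disp_apply, map_neg, ← LinearEquiv.mul_apply, mul_inv_cancel, LinearEquiv.coe_one, id]
      abel⟩
  · rintro ⟨u, rfl⟩
    exact ⟨-(g u), by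
      rw [disp_apply, disp_apply, map_neg, ← LinearEquiv.mul_apply, inv_mul_cancel, LinearEquiv.coe_one, id]
      abel⟩

/-- The rank of the displacement. -/
noncomputable def rk (g : V ≃ₗ[F] V) : ℕ := Module.finrank F (LinearMap.range (disp g))

variable (D : Data F V) [Fintype V] [DecidableEq V]

/-- The unnormalised Weil element. -/
noncomputable def weil₀ (g : V ≃ₗ[F] V) : Alg D := fun x =>
  open scoped Classical in
  if h : ∃ u, g u - u = x then D.coc (-x) h.choose else 0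

theorem weil₀_off {g : V ≃ₗ[F] V} {x : V} (hx : x ∉ LinearMap.range (disp g)) : D.weil₀ g x = 0 :=
  dif_neg fun ⟨u, hu⟩ => hx ⟨u, hu⟩

theorem form_inv {g : V ≃ₗ[F] V} (hg : g ∈ D.iso) {w : V} (hw : g w = w) (u : V) :
    D.form (g u - u) w = 0 := by
  rw [map_sub, LinearMap.sub_apply]
  nth_rewrite 1 [← hw]
  rw [hg, sub_self]

theorem weil₀_apply {g : V ≃ₗ[F] V} (hg : g ∈ D.iso) (u : V) :
    D.weil₀ g (g u - u) = D.coc (-(g u - u)) u := by
  have h : ∃ u', g u' - u' = g u - u := ⟨u, rfl⟩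
  rw [weil₀, dif_pos h]
  set u' := h.choose with hu'
  have he : g u' - u' = g u - u := h.choose_spec
  have hw : g (u' - u) = u' - u := by
    rw [map_sub, ← sub_eq_zero]
    rw [show g u' - g u - (u' - u) = (g u' - u') - (g u - u) by abel, he, sub_self]
  rw [show u' = u + (u' - u) by abel, D.coc_add_right, D.coc_neg_left (g u - u) (u' - u)]
  have : D.coc (g u - u) (u' - u) = 1 := by
    rw [D.coc_eq, D.form_inv hg hw, mul_zero, D.tr_zero, AddChar.map_zero_eq_one]
  rw [this, inv_one, mul_one]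

theorem weil₀_zero {g : V ≃ₗ[F] V} (hg : g ∈ D.iso) : D.weil₀ g 0 = 1 := by
  have := D.weil₀_apply hg 0
  simpa [D.coc_zero_left] using this

/-- The Weil element carries each basis element to its image. -/
theorem twist {g : V ≃ₗ[F] V} (hg : g ∈ D.iso) (w : V) :
    D.weil₀ g * D.sgl w = D.sgl (g w) * D.weil₀ g := by
  funext x
  rw [mul_sgl, sgl_mul]
  by_cases hx : x - w ∈ LinearMap.range (disp g)
  · obtain ⟨u, hu⟩ := hx
    rw [disp_apply] at hu
    have e : x - g w = g (u - w) - (u - w) := by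
      rw [map_sub, show x = g u - u + w by rw [hu]; abel]; abel
    rw [← hu, D.weil₀_apply hg, e, D.weil₀_apply hg]
    simp only [D.coc_eq, ← AddChar.map_add_eq_mul, ← D.tr_add, ← mul_add]
    congr 3
    simp only [map_sub, map_neg, LinearMap.sub_apply, LinearMap.neg_apply, hg _ _]
    ring
  · have hx' : x - g w ∉ LinearMap.range (disp g) := fun h => hx (by
      rw [show x - w = (x - g w) + (g w - w) by abel]
      exact Submodule.add_mem _ h (disp_mem g w))
    rw [D.weil₀_off hx, D.weil₀_off hx', zero_mul, zero_mul]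

theorem mem_range_of_perp {g : V ≃ₗ[F] V} (hg : g ∈ D.iso) {v : V}
    (hv : ∀ w, g w = w → D.form v w = 0) : v ∈ LinearMap.range (disp g) := by
  by_contra hmem
  obtain ⟨f, hf, hfR⟩ := Submodule.exists_dual_map_eq_bot_of_notMem hmem inferInstance
  have hfR : LinearMap.range (disp g) ≤ LinearMap.ker f := (LinearMap.le_ker_iff_map).2 hfR
  let Φ : V → Module.Dual F V := fun w => D.form.flip w
  have hinj : Function.Injective Φ := fun a b h => by
    refine sub_eq_zero.1 (D.nondeg _ fun x => ?_)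
    rw [← D.herm x (a - b), map_sub (D.form x) a b]
    have := LinearMap.congr_fun h x
    simp only [Φ, LinearMap.flip_apply] at this
    rw [this, sub_self, map_zero]
  haveI : Finite (Module.Dual F V) := Module.finite_of_finite F
  haveI : Fintype (Module.Dual F V) := Fintype.ofFinite _
  have hbij : Function.Bijective Φ := (Fintype.bijective_iff_injective_and_card Φ).2 ⟨hinj, by
    rw [Module.card_eq_pow_finrank (K := F), Module.card_eq_pow_finrank (K := F) (V := Module.Dual F V),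
      Subspace.dual_finrank_eq]⟩
  obtain ⟨w, rfl⟩ := hbij.2 f
  have hfix : g w = w := by
    refine (sub_eq_zero.1 (D.nondeg _ fun z => ?_))
    obtain ⟨u, rfl⟩ := g.surjective z
    have h0 : D.form (g u - u) w = 0 := hfR (disp_mem g u)
    rw [map_sub, LinearMap.sub_apply, hg, ← D.herm u w, ← D.herm (g u) w]
    rw [map_sub, LinearMap.sub_apply, sub_eq_zero] at h0
    rw [← h0, sub_self]
  exact hf (hv w hfix)

/-- The twisting relation determines the Weil element up to a scalar. -/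
theorem weil_unique {g : V ≃ₗ[F] V} (hg : g ∈ D.iso) {X : Alg D}
    (hX : ∀ w, X * D.sgl w = D.sgl (g w) * X) : X = X 0 • D.weil₀ g := by
  have key : ∀ x w, X (x - w) * D.coc (x - w) w = X (x - g w) * D.coc (g w) (x - g w) := fun x w => by
    rw [← D.mul_sgl, ← D.sgl_mul, hX]
  funext v
  rw [smul_apply]
  by_cases hv : v ∈ LinearMap.range (disp g)
  · obtain ⟨u, rfl⟩ := hv
    rw [disp_apply, D.weil₀_apply hg, D.coc_neg_left]
    have h := key (g u) u
    rw [sub_self, D.coc_zero_right, mul_one] at h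
    rw [← h, mul_inv_cancel_right₀ (D.coc_ne_zero _ _)]
  · rw [D.weil₀_off hv, mul_zero]
    by_contra h
    refine hv (D.mem_range_of_perp hg fun w hw => D.perp_of_symm (LinearMap.ker (disp g)) (fun w hw => ?_) w ?_)
    · have hw' : g w = w := sub_eq_zero.1 (by rw [← disp_apply]; exact hw)
      have := key (v + w) w
      rw [hw', add_sub_cancel_right] at this
      exact mul_left_cancel₀ h this
    · rw [LinearMap.mem_ker, disp_apply, hw, sub_self]

theorem weil₀_one : D.weil₀ (1 : V ≃ₗ[F] V) = 1 := by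
  funext x
  rw [one_apply]
  by_cases hx : x = 0
  · subst hx; rw [if_pos rfl, D.weil₀_zero D.iso.one_mem]
  · rw [if_neg hx, D.weil₀_off]
    rintro ⟨u, hu⟩
    exact hx (by rw [← hu, disp_apply]; simp)

/-- The conjugate-linear anti-automorphism. -/
noncomputable def adj (a : Alg D) : Alg D := fun x => conj (a (-x)) * D.coc x x

theorem adj_mul (a b : Alg D) : D.adj (a * b) = D.adj b * D.adj a := by
  funext x
  show conj ((a * b : Alg D) (-x)) * D.coc x x = _
  rw [mul_apply, mul_apply, map_sum, Finset.sum_mul, ← Equiv.sum_comp (Equiv.addRight x) (fun w => D.adj b w * _ * _)]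
  refine Finset.sum_congr rfl fun v _ => ?_
  simp only [Equiv.coe_addRight, adj, map_mul, D.conj_coc]
  rw [show x - (v + x) = -v by abel, neg_neg, show -(v + x) = -x - v by abel]
  simp only [D.coc_neg_left, D.coc_neg_right, D.coc_add_left, D.coc_add_right, D.coc_sub_right, inv_inv]
  field_simp [D.coc_ne_zero]

theorem adj_smul (k : ℂ) (a : Alg D) : D.adj (k • a) = conj k • D.adj a := by
  funext x
  simp only [adj, smul_apply, map_mul]
  ring

theorem adj_weil₀ {g : V ≃ₗ[F] V} (hg : g ∈ D.iso) : D.adj (D.weil₀ g) = D.weil₀ g⁻¹ := by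
  funext x
  show conj (D.weil₀ g (-x)) * D.coc x x = _
  by_cases hx : x ∈ LinearMap.range (disp g⁻¹)
  · obtain ⟨u, rfl⟩ := hx
    rw [disp_apply, D.weil₀_apply (D.iso.inv_mem hg)]
    have e : -(g⁻¹ u - u) = g (g⁻¹ u) - g⁻¹ u := by
      rw [← LinearEquiv.mul_apply, mul_inv_cancel, LinearEquiv.coe_one, id]; abel
    rw [e, D.weil₀_apply hg, ← e, neg_neg, D.conj_coc, D.coc_neg_left, D.coc_sub_right]
    field_simp [D.coc_ne_zero]
  · rw [D.weil₀_off hx, D.weil₀_off (g := g), map_zero, zero_mul]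
    rw [← range_disp_inv, Submodule.neg_mem_iff]
    exact hx

theorem inv_mul_weil₀ {g : V ≃ₗ[F] V} (hg : g ∈ D.iso) :
    D.weil₀ g⁻¹ * D.weil₀ g = (((D.q : ℂ) ^ 2) ^ rk g) • (1 : Alg D) := by
  classical
  have hX : ∀ w, D.weil₀ g⁻¹ * D.weil₀ g * D.sgl w = D.sgl ((1 : V ≃ₗ[F] V) w) * (D.weil₀ g⁻¹ * D.weil₀ g) := by
    intro w
    rw [mul_assoc, D.twist hg, ← mul_assoc, D.twist (D.iso.inv_mem hg), ← LinearEquiv.mul_apply, inv_mul_cancel,
      mul_assoc]
  rw [D.weil_unique D.iso.one_mem hX, D.weil₀_one]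
  congr 1
  rw [mul_apply]
  have hterm : ∀ v, D.weil₀ g⁻¹ v * D.weil₀ g (0 - v) * D.coc v (0 - v) =
      if v ∈ LinearMap.range (disp g) then 1 else 0 := by
    intro v
    by_cases hv : v ∈ LinearMap.range (disp g)
    · rw [if_pos hv]
      rw [← range_disp_inv] at hv
      obtain ⟨u, rfl⟩ := hv
      rw [disp_apply, D.weil₀_apply (D.iso.inv_mem hg), zero_sub]
      have e : -(g⁻¹ u - u) = g (g⁻¹ u) - g⁻¹ u := by
        rw [← LinearEquiv.mul_apply, mul_inv_cancel, LinearEquiv.coe_one, id]; abel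
      rw [e, D.weil₀_apply hg, ← e, neg_neg, D.coc_neg_left, D.coc_neg_right, D.coc_sub_right]
      field_simp [D.coc_ne_zero]
    · rw [if_neg hv, D.weil₀_off (by rwa [range_disp_inv]), zero_mul, zero_mul]
  rw [Finset.sum_congr rfl fun v _ => hterm v, Finset.sum_boole, ← Fintype.card_subtype,
    Module.card_eq_pow_finrank (K := F), D.card_F]
  push_cast
  rfl

/-- The coefficient at zero of a product is a power of `-q`. -/
theorem coeff_mul {g g' : V ≃ₗ[F] V} (hg : g ∈ D.iso) (hg' : g' ∈ D.iso) :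
    ∃ j : ℕ, (D.weil₀ g * D.weil₀ g' : Alg D) 0 = (-(D.q : ℂ)) ^ j := by
  classical
  let S : Submodule F V := LinearMap.range (disp g) ⊓ LinearMap.range (disp g')
  obtain ⟨s, hs⟩ := (disp g).rangeRestrict.exists_rightInverse_of_surjective (LinearMap.range_rangeRestrict _)
  obtain ⟨s', hs'⟩ := (disp g').rangeRestrict.exists_rightInverse_of_surjective (LinearMap.range_rangeRestrict _)
  let L : S →ₗ[F] V := -(s.comp (Submodule.inclusion inf_le_left)) - s'.comp (Submodule.inclusion inf_le_right) - S.subtype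
  let H : S →ₗ[F] S →ₛₗ[D.σ] F := LinearMap.mk₂'ₛₗ (RingHom.id F) D.σ
    (fun v w => D.xi * D.form (v : V) (L w) + D.σ D.xi * D.form (L v) (w : V))
    (fun x y z => by simp only [Submodule.coe_add, map_add, LinearMap.add_apply]; ring)
    (fun c x y => by simp only [Submodule.coe_smul, map_smul, LinearMap.smul_apply, smul_eq_mul, RingHom.id_apply]; ring)
    (fun x y z => by simp only [Submodule.coe_add, map_add]; ring)
    (fun c x y => by simp only [Submodule.coe_smul, map_smul, map_smulₛₗ, smul_eq_mul]; ring)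
  have hH : ∀ v w, D.σ (H v w) = H w v := fun v w => by
    show D.σ (D.xi * D.form (v : V) (L w) + D.σ D.xi * D.form (L v) (w : V)) =
      D.xi * D.form (w : V) (L v) + D.σ D.xi * D.form (L w) (v : V)
    rw [map_add, map_mul, map_mul, D.σσ, D.herm, D.herm, add_comm]
  obtain ⟨j, hj⟩ := D.gauss H hH
  refine ⟨j, ?_⟩
  rw [← hj, mul_apply, ← Finset.sum_filter_of_ne (p := fun v : V => v ∈ S)]
  · symm
    rw [Finset.sum_subtype (F := Fintype.ofFinite _) (p := fun v => v ∈ S) (Finset.univ.filter fun v => v ∈ S)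
      (fun x => by simp)]
    refine Finset.sum_congr (by ext; simp) fun v _ => ?_
    have h1 : g (s ⟨v, v.2.1⟩) - s ⟨v, v.2.1⟩ = (v : V) :=
      congrArg Subtype.val (LinearMap.congr_fun hs ⟨v, v.2.1⟩)
    have h2 : g' (-s' ⟨v, v.2.2⟩) - -s' ⟨v, v.2.2⟩ = 0 - (v : V) := by
      have h2' : g' (s' ⟨v, v.2.2⟩) - s' ⟨v, v.2.2⟩ = (v : V) :=
        congrArg Subtype.val (LinearMap.congr_fun hs' ⟨v, v.2.2⟩)
      rw [map_neg, zero_sub, neg_sub_neg, ← neg_sub, h2']
    have w1 : D.weil₀ g (v : V) = D.coc (-(v : V)) (s ⟨v, v.2.1⟩) := by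
      have := D.weil₀_apply hg (s ⟨v, v.2.1⟩); rwa [h1] at this
    have w2 : D.weil₀ g' (0 - (v : V)) = D.coc (-(0 - (v : V))) (-s' ⟨v, v.2.2⟩) := by
      have := D.weil₀_apply hg' (-s' ⟨v, v.2.2⟩); rwa [h2] at this
    rw [w1, w2]
    simp only [D.coc_eq, ← AddChar.map_add_eq_mul, ← D.tr_add, ← mul_add]
    show D.psi (D.xi * D.form (v : V) (L v) + D.σ D.xi * D.form (L v) (v : V)) = _
    rw [← D.herm (v : V) (L v), ← map_mul]
    show D.psi (D.tr (D.xi * D.form (v : V) (L v))) = _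
    congr 3
    show D.form (v : V) (-(s ⟨v, v.2.1⟩) - s' ⟨v, v.2.2⟩ - v) = _
    simp only [map_sub, map_neg, LinearMap.neg_apply, zero_sub, map_zero, LinearMap.sub_apply, LinearMap.zero_apply]
    ring
  · intro v _ hne
    by_contra hv
    apply hne
    by_cases h1 : v ∈ LinearMap.range (disp g)
    · rw [D.weil₀_off (g := g') (fun h => hv ⟨h1, by simpa using h⟩), mul_zero, zero_mul]
    · rw [D.weil₀_off h1, zero_mul, zero_mul]

theorem mul_weil₀ {g g' : V ≃ₗ[F] V} (hg : g ∈ D.iso) (hg' : g' ∈ D.iso) :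
    ∃ j : ℕ, j + rk (g * g') = rk g + rk g' ∧
      D.weil₀ g * D.weil₀ g' = ((-(D.q : ℂ)) ^ j) • D.weil₀ (g * g') := by
  obtain ⟨j, hj⟩ := D.coeff_mul hg hg'
  have hgg := D.iso.mul_mem hg hg'
  have hX : D.weil₀ g * D.weil₀ g' = ((-(D.q : ℂ)) ^ j) • D.weil₀ (g * g') := by
    rw [← hj]
    refine D.weil_unique hgg fun w => ?_
    rw [mul_assoc, D.twist hg', ← mul_assoc, D.twist hg, mul_assoc]
    rfl
  refine ⟨j, ?_, hX⟩
  have h := congrArg (fun a => D.adj a * a) hX
  simp only [D.adj_mul, D.adj_smul, D.adj_weil₀ hg, D.adj_weil₀ hg', D.adj_weil₀ hgg, smul_mul_smul_comm,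
    D.inv_mul_weil₀ hgg, smul_smul] at h
  rw [mul_assoc, ← mul_assoc (D.weil₀ g⁻¹), D.inv_mul_weil₀ hg, smul_mul_assoc, one_mul, mul_smul_comm,
    D.inv_mul_weil₀ hg', smul_smul] at h
  have h0 := congrFun h (0 : V)
  simp only [smul_apply, one_apply, if_pos, mul_one, map_pow, map_neg, Complex.conj_natCast] at h0
  rw [← mul_pow, neg_mul_neg, ← sq, ← pow_add, ← pow_add] at h0
  have hq : 1 < D.q ^ 2 := Nat.one_lt_pow two_ne_zero D.two_le
  exact (Nat.pow_right_injective hq (by exact_mod_cast h0)).symm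

/-- The Weil element. -/
noncomputable def weil (g : V ≃ₗ[F] V) : Alg D := ((-(D.q : ℂ)) ^ rk g)⁻¹ • D.weil₀ g

theorem negq_ne : (-(D.q : ℂ)) ≠ 0 := neg_ne_zero.2 (Nat.cast_ne_zero.2 (by have := D.two_le; omega))

theorem weil_one : D.weil (1 : V ≃ₗ[F] V) = 1 := by
  have : rk (1 : V ≃ₗ[F] V) = 0 := by
    rw [rk, show disp (1 : V ≃ₗ[F] V) = 0 from LinearMap.ext fun u => by simp [disp_apply], LinearMap.range_zero,
      finrank_bot]
  rw [weil, this, pow_zero, inv_one, one_smul, D.weil₀_one]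

theorem weil_mul {g g' : V ≃ₗ[F] V} (hg : g ∈ D.iso) (hg' : g' ∈ D.iso) :
    D.weil (g * g') = D.weil g * D.weil g' := by
  obtain ⟨j, hj, hX⟩ := D.mul_weil₀ hg hg'
  rw [weil, weil, weil, smul_mul_smul_comm, hX, smul_smul]
  congr 1
  rw [← mul_inv, ← pow_add, ← hj, pow_add]
  field_simp [D.negq_ne]

/-- Pull back along an automorphism. -/
noncomputable def pull (g : V ≃ₗ[F] V) (a : Alg D) : Alg D := fun x => a (g⁻¹ x)

theorem weil_twist {g : V ≃ₗ[F] V} (hg : g ∈ D.iso) (a : Alg D) :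
    D.weil g * a = D.pull g a * D.weil g := by
  rw [weil, smul_mul_assoc, mul_smul_comm]
  congr 1
  have hb : D.pull g a = ∑ w, a w • D.sgl (g w) := by
    refine (D.eq_sum_sgl _).trans ?_
    refine Fintype.sum_equiv g⁻¹.toEquiv _ _ fun v => ?_
    show D.pull g a v • D.sgl v = a (g⁻¹ v) • D.sgl (g (g⁻¹ v))
    show a (g⁻¹ v) • D.sgl v = a (g⁻¹ v) • D.sgl (g (g⁻¹ v))
    rw [← LinearEquiv.mul_apply g, mul_inv_cancel, LinearEquiv.coe_one, id]
  rw [hb]
  conv_lhs => rw [D.eq_sum_sgl a]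
  rw [Finset.mul_sum, Finset.sum_mul]
  exact Finset.sum_congr rfl fun w _ => by rw [mul_smul_comm, smul_mul_assoc, D.twist hg]

theorem weil_zero_apply {g : V ≃ₗ[F] V} (hg : g ∈ D.iso) : D.weil g 0 = ((-(D.q : ℂ)) ^ rk g)⁻¹ := by
  rw [weil, smul_apply, D.weil₀_zero hg, mul_one]

theorem par_real {lam : F} (hlam : lam ≠ 1) (hu : lam ^ (D.q + 1) = 1) : D.σ (D.par lam) = D.par lam := by
  have hl : lam * D.σ lam = 1 := by rw [D.σ_apply, ← pow_succ', hu]
  have hl0 : lam ≠ 0 := fun h => by simp [h] at hl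
  have hs : D.σ lam = lam⁻¹ := eq_inv_of_mul_eq_one_right hl
  have h1 : lam - 1 ≠ 0 := sub_ne_zero.2 hlam
  have h2 : (1 : F) - lam ≠ 0 := sub_ne_zero.2 (Ne.symm hlam)
  simp only [par, map_div₀, map_sub, map_mul, map_one, D.σσ, hs]
  field_simp
  ring

theorem par_add_inv {lam : F} (hlam : lam ≠ 1) (hl0 : lam ≠ 0) : D.par lam + D.par lam⁻¹ = 1 := by
  have h1 : lam - 1 ≠ 0 := sub_ne_zero.2 hlam
  have h2 : (1 : F) - lam ≠ 0 := sub_ne_zero.2 (Ne.symm hlam)
  have := D.xi_trace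
  simp only [par]
  field_simp
  linear_combination (-(1 - lam) ^ 2) * this

theorem par_inj {a b : F} (ha : a ≠ 1) (hb : b ≠ 1) (h : D.par a = D.par b) : a = b := by
  have h1 : a - 1 ≠ 0 := sub_ne_zero.2 ha
  have h2 : b - 1 ≠ 0 := sub_ne_zero.2 hb
  rw [par, par, div_eq_div_iff h1 h2] at h
  have : (D.xi - D.σ D.xi) * (b - a) = 0 := by linear_combination h
  exact (sub_eq_zero.1 ((mul_eq_zero.1 this).resolve_left D.xi_sub_ne)).symm

theorem weil_scalar {g : V ≃ₗ[F] V} (hg : g ∈ D.iso) {lam : F} (hlam : lam ≠ 1) (hu : lam ^ (D.q + 1) = 1)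
    (hs : ∀ v, g v = lam • v) :
    D.weil g = fun v => (-1 : ℂ) ^ Module.finrank F V * ((D.q : ℂ) ^ Module.finrank F V)⁻¹ *
      D.psi (D.par lam * D.nrm v) := by
  have h1 : lam - 1 ≠ 0 := sub_ne_zero.2 hlam
  have hu' : ∀ v : V, g ((lam - 1)⁻¹ • v) - (lam - 1)⁻¹ • v = v := fun v => by
    rw [hs, smul_smul, ← sub_smul, ← sub_one_mul, mul_inv_cancel₀ h1, one_smul]
  have hr : rk g = Module.finrank F V := by
    rw [rk, show LinearMap.range (disp g) = ⊤ from eq_top_iff.2 fun v _ => ⟨_, hu' v⟩, finrank_top]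
  funext v
  rw [weil, smul_apply, hr, neg_pow, mul_inv, ← inv_pow, inv_neg, inv_one]
  congr 1
  conv_lhs => rw [← hu' v, D.weil₀_apply hg, hu' v]
  rw [D.coc_eq, map_smulₛₗ, map_neg, LinearMap.neg_apply, smul_eq_mul]
  congr 1
  show D.tr _ = _
  have hl : lam * D.σ lam = 1 := by rw [D.σ_apply, ← pow_succ', hu]
  have hl0 : lam ≠ 0 := fun h => by simp [h] at hl
  have hsl : D.σ lam = lam⁻¹ := eq_inv_of_mul_eq_one_right hl
  have h2 : (1 : F) - lam ≠ 0 := sub_ne_zero.2 (Ne.symm hlam)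
  rw [show D.xi * (D.σ (lam - 1)⁻¹ * -D.form v v) = D.xi * -D.σ (lam - 1)⁻¹ * D.nrm v by rw [nrm]; ring,
    D.tr_mul_real _ (D.real_nrm v)]
  congr 1
  simp only [tr, par, map_inv₀, map_sub, map_mul, map_neg, map_one, D.σσ, hsl]
  field_simp
  ring

/-- The Weil representation. -/
theorem exists_weil :
    ∃ (ρ : Representation ℂ D.iso (Fin (D.q ^ Module.finrank F V) → ℂ))
      (E : (V → ℂ) ≃ₗ[ℂ] Module.End ℂ (Fin (D.q ^ Module.finrank F V) → ℂ)),
      E (Pi.single 0 1) = 1 ∧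
      (∀ a b, E (D.conv a b) = E a * E b) ∧
      (∀ a, LinearMap.trace ℂ _ (E a) = (D.q : ℂ) ^ Module.finrank F V * a 0) ∧
      (∀ (g : D.iso) (a : V → ℂ), ρ g * E a = E (fun v => a ((g⁻¹ : D.iso).1 v)) * ρ g) ∧
      (∀ g : D.iso, ρ.character g = (-1 : ℂ) ^ Module.finrank F V *
        (-(D.q : ℂ)) ^ Module.finrank F (LinearMap.ker ((g.1 : V ≃ₗ[F] V).toLinearMap - LinearMap.id))) ∧
      (∀ (g : D.iso) (lam : F), lam ≠ 1 → lam ^ (D.q + 1) = 1 → (∀ v, g.1 v = lam • v) →
        ρ g = E (fun v => (-1 : ℂ) ^ Module.finrank F V * ((D.q : ℂ) ^ Module.finrank F V)⁻¹ *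
          D.psi (D.par lam * D.nrm v))) := by
  obtain ⟨E₀, hE₀⟩ := D.exists_matrix
  let E₁ : Alg D ≃ₐ[ℂ] Module.End ℂ (Fin (D.q ^ Module.finrank F V) → ℂ) := E₀.trans Matrix.toLinAlgEquiv'
  have htr : ∀ a, LinearMap.trace ℂ _ (E₁ a) = (D.q : ℂ) ^ Module.finrank F V * a 0 := fun a => by
    rw [← hE₀]
    exact Matrix.trace_toLin'_eq _
  let ρ : Representation ℂ D.iso (Fin (D.q ^ Module.finrank F V) → ℂ) :=
    { toFun := fun g => E₁ (D.weil g.1)
      map_one' := by rw [OneMemClass.coe_one, D.weil_one, map_one]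
      map_mul' := fun g g' => by rw [Subgroup.coe_mul, D.weil_mul g.2 g'.2, map_mul] }
  have hmul : ∀ a b : Alg D, E₁ (a * b) = E₁ a * E₁ b := map_mul E₁
  refine ⟨ρ, E₁.toLinearEquiv, ?_, fun a b => hmul a b, htr, fun g a => ?_, fun g => ?_,
    fun g lam h1 h2 h3 => ?_⟩
  · have : (Pi.single (0 : V) (1 : ℂ)) = fun x => if x = 0 then (1 : ℂ) else 0 :=
      funext fun x => Pi.single_apply 0 1 x
    rw [this]
    exact map_one E₁
  · exact ((hmul _ _).symm.trans (congrArg E₁ (D.weil_twist g.2 a))).trans (hmul _ _)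
  · show LinearMap.trace ℂ _ (E₁ (D.weil g.1)) = _
    rw [htr, D.weil_zero_apply g.2]
    have hn : rk g.1 + Module.finrank F (LinearMap.ker (disp g.1)) = Module.finrank F V :=
      LinearMap.finrank_range_add_finrank_ker _
    show _ = _ * (-(D.q : ℂ)) ^ Module.finrank F (LinearMap.ker (disp g.1))
    rw [← hn, pow_add (-1 : ℂ), pow_add (D.q : ℂ), neg_pow (D.q : ℂ), neg_pow (D.q : ℂ)]
    have hq : (D.q : ℂ) ≠ 0 := neg_ne_zero.1 D.negq_ne
    field_simp
    rcases neg_one_pow_eq_or ℂ (rk g.1) with h | h <;>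
      rcases neg_one_pow_eq_or ℂ (Module.finrank F (LinearMap.ker (disp g.1))) with h' | h' <;> simp [h, h']
  · show E₁ (D.weil g.1) = _
    rw [D.weil_scalar g.2 h1 h2 h3]
    rfl

end Data

end CfsgLib.MaxSub.SU5Quintic
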