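/-
The central pieces of the Weil character are characters.
-/
import Cfsg.Agent.Lib.MaxSub.SU5Quintic.Theta
import Cfsg.Agent.Lib.MaxSub.SU5Quintic.Weil
import Cfsg.Agent.Lib.CharTheory

set_option autoImplicit false
set_option linter.unusedSectionVars false
set_option linter.style.haveILetI false

namespace CfsgLib.MaxSub.SU5Quintic

open Cfsg CfsgLib.CharTheory

universe u v w

/-- The trace of a representation against a commuting idempotent is a character. -/
theorem isCharacter_trace_idem {G : Type u} [Group G] {U : Type w} [AddCommGroup U] [Module ℂ U]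
    [FiniteDimensional ℂ U] (ρ : Representation ℂ G U) (P : Module.End ℂ U) (hP : P * P = P)
    (hc : ∀ g, P * ρ g = ρ g * P) : IsCharacter G fun g => LinearMap.trace ℂ U (P * ρ g) := by
  let S : Submodule ℂ U := LinearMap.range P
  have hS : ∀ g, ∀ x ∈ S, ρ g x ∈ S := by
    rintro g _ ⟨y, rfl⟩
    exact ⟨ρ g y, LinearMap.congr_fun (hc g) y⟩
  have hfix : ∀ x ∈ S, P x = x := by
    rintro _ ⟨y, rfl⟩
    exact LinearMap.congr_fun hP y
  let σ : Representation ℂ G S :=
    { toFun := fun g => (ρ g).restrict (hS g)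
      map_one' := LinearMap.ext fun x => Subtype.ext (by simp [LinearMap.restrict_apply])
      map_mul' := fun a b => LinearMap.ext fun x => Subtype.ext (by simp [LinearMap.restrict_apply, map_mul]) }
  have key : σ.character = fun g => LinearMap.trace ℂ U (P * ρ g) := by
    funext g
    rw [← LinearMap.trace_restrict_eq_of_forall_mem S (P * ρ g) (fun x => LinearMap.mem_range_self P _)]
    refine congrArg _ (LinearMap.ext fun x => Subtype.ext ?_)
    show ρ g x = P (ρ g x)
    exact (hfix _ (hS g x x.2)).symm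
  exact key ▸ isCharacter_character σ

namespace Data

variable {F : Type u} [Field F] [Fintype F] {V : Type v} [AddCommGroup V] [Module F V] [Fintype V] (D : Data F V)

/-- Scalars of norm one are isometries. -/
theorem scal_mem_iso {lam : Fˣ} (hl : lam ∈ D.circ) : scal lam ∈ D.iso := by
  intro v w
  show D.form ((lam : F) • v) ((lam : F) • w) = D.form v w
  rw [LinearMap.map_smulₛₗ, map_smul, LinearMap.smul_apply, smul_eq_mul, smul_eq_mul, D.σ_apply,
    ← mul_assoc, ← pow_succ, ← Units.val_pow_eq_pow_val, D.mem_circ.mp hl, Units.val_one, one_mul]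

theorem scal_comm (lam : Fˣ) (g : V ≃ₗ[F] V) : scal lam * g = g * scal lam :=
  LinearEquiv.ext fun x => (map_smul g (lam : F) x).symm

theorem scal_mul (a b : Fˣ) : (scal (a * b) : V ≃ₗ[F] V) = scal a * scal b :=
  LinearEquiv.ext fun x => by simp only [scal_apply, LinearEquiv.mul_apply, Units.val_mul, mul_smul]

theorem scal_one : (scal (1 : Fˣ) : V ≃ₗ[F] V) = 1 := LinearEquiv.ext fun x => by simp

open Classical in
/-- The pieces are characters of every group of isometries. -/
theorem isCharacter_theta {M : Subgroup (V ≃ₗ[F] V)} (hM : M ≤ D.iso) (om : D.circ →* ℂˣ) :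
    IsCharacter M fun g : M => D.theta om (g : V ≃ₗ[F] V) := by
  obtain ⟨ρ, E, -, -, -, -, hchar, -⟩ := D.exists_weil
  let sc : D.circ → D.iso := fun lam => ⟨scal (lam : Fˣ), D.scal_mem_iso lam.2⟩
  have hsc : ∀ a b, sc (a * b) = sc a * sc b := fun a b => Subtype.ext (scal_mul _ _)
  have hscc : ∀ a (g : D.iso), sc a * g = g * sc a := fun a g => Subtype.ext (scal_comm _ _)
  set P : Module.End ℂ (Fin (D.q ^ Module.finrank F V) → ℂ) :=
    ((D.q : ℂ) + 1)⁻¹ • ∑ lam : D.circ, ((om lam : ℂˣ) : ℂ)⁻¹ • ρ (sc lam) with hPdef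
  have hcard : Fintype.card D.circ = D.q + 1 := by
    rw [← Nat.card_eq_fintype_card]
    show Nat.card (powMonoidHom (D.q + 1) : Fˣ →* Fˣ).ker = _
    rw [IsCyclic.card_powMonoidHom_ker, Nat.card_units, Nat.card_eq_fintype_card, D.card_F]
    obtain ⟨r, hr⟩ : ∃ r, D.q = r + 1 := ⟨D.q - 1, by have := D.two_le; omega⟩
    refine Nat.gcd_eq_right ⟨r, ?_⟩
    rw [hr, Nat.sub_eq_iff_eq_add (Nat.one_le_pow _ _ (by omega))]
    ring
  have habs : ∀ a : D.circ, ρ (sc a) * (∑ lam : D.circ, ((om lam : ℂˣ) : ℂ)⁻¹ • ρ (sc lam)) =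
      ((om a : ℂˣ) : ℂ) • ∑ lam : D.circ, ((om lam : ℂˣ) : ℂ)⁻¹ • ρ (sc lam) := by
    intro a
    rw [Finset.mul_sum, Finset.smul_sum]
    refine Fintype.sum_equiv (Equiv.mulLeft a) _ _ fun x => ?_
    rw [mul_smul_comm, ← map_mul, ← hsc, smul_smul, Equiv.coe_mulLeft, map_mul, Units.val_mul, mul_inv,
      ← mul_assoc, mul_inv_cancel₀ (Units.ne_zero _), one_mul]
  have hne : ((D.q : ℂ) + 1) ≠ 0 := Nat.cast_add_one_ne_zero D.q
  have hP : P * P = P := by
    rw [hPdef, smul_mul_smul_comm, Finset.sum_mul]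
    simp only [smul_mul_assoc, habs, smul_smul, inv_mul_cancel₀ (Units.ne_zero _), Finset.sum_const,
      Finset.card_univ, hcard, one_smul]
    rw [← Nat.cast_smul_eq_nsmul ℂ, smul_smul]
    congr 1
    push_cast
    field_simp
  let ι : M →* D.iso := Subgroup.inclusion hM
  have hc : ∀ g : M, P * ρ (ι g) = ρ (ι g) * P := fun g => by
    rw [hPdef, smul_mul_assoc, mul_smul_comm, Finset.sum_mul, Finset.mul_sum]
    refine congrArg _ (Finset.sum_congr rfl fun a _ => ?_)
    rw [smul_mul_assoc, mul_smul_comm, ← map_mul, ← map_mul, hscc]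
  convert isCharacter_trace_idem (ρ.comp ι) P hP hc using 1
  funext g
  show D.theta om (g : V ≃ₗ[F] V) = LinearMap.trace ℂ _ (P * ρ (ι g))
  rw [theta, hPdef, smul_mul_assoc, Finset.sum_mul, map_smul, map_sum, smul_eq_mul]
  refine congrArg _ (Finset.sum_congr rfl fun a _ => ?_)
  rw [smul_mul_assoc, ← map_mul, map_smul, smul_eq_mul]
  congr 1
  exact (hchar (sc a * ι g)).symm

/-- The central character. -/
theorem theta_scal_mul (om : D.circ →* ℂˣ) (z : D.circ) (g : V ≃ₗ[F] V) :
    D.theta om (scal (z : Fˣ) * g) = ((om z : ℂˣ) : ℂ) * D.theta om g := by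
  classical
  rw [theta, theta, mul_left_comm]
  congr 1
  rw [Finset.mul_sum]
  refine Fintype.sum_equiv (Equiv.mulRight z) _ _ fun x => ?_
  rw [← mul_assoc, ← scal_mul, Equiv.coe_mulRight, map_mul, Units.val_mul, Subgroup.coe_mul, mul_inv]
  field_simp

open Classical in
theorem sum_om (om : D.circ →* ℂˣ) :
    ∑ lam : D.circ, ((om lam : ℂˣ) : ℂ)⁻¹ = if om = 1 then (Fintype.card D.circ : ℂ) else 0 := by
  split_ifs with h
  · simp [h]
  · obtain ⟨a, ha⟩ : ∃ a, om a ≠ 1 := by
      by_contra hh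
      push Not at hh
      exact h (MonoidHom.ext hh)
    have h1 : ((om a : ℂˣ) : ℂ)⁻¹ * ∑ lam : D.circ, ((om lam : ℂˣ) : ℂ)⁻¹ =
        ∑ lam : D.circ, ((om lam : ℂˣ) : ℂ)⁻¹ := by
      rw [Finset.mul_sum]
      exact Fintype.sum_equiv (Equiv.mulLeft a) _ _ fun x => by simp [map_mul, mul_comm]
    by_contra h0
    have h2 := mul_right_cancel₀ h0 (h1.trans (one_mul _).symm)
    exact ha (Units.ext (by rw [inv_eq_one] at h2; rw [h2, Units.val_one]))

theorem card_circ [Fintype D.circ] : Fintype.card D.circ = D.q + 1 := by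
  rw [← Nat.card_eq_fintype_card]
  show Nat.card (powMonoidHom (D.q + 1) : Fˣ →* Fˣ).ker = _
  rw [IsCyclic.card_powMonoidHom_ker, Nat.card_units, Nat.card_eq_fintype_card, D.card_F]
  obtain ⟨r, hr⟩ : ∃ r, D.q = r + 1 := ⟨D.q - 1, by have := D.two_le; omega⟩
  refine Nat.gcd_eq_right ⟨r, ?_⟩
  rw [hr, Nat.sub_eq_iff_eq_add (Nat.one_le_pow _ _ (by omega))]
  ring

open Classical in
/-- The value where no scalar multiple has a fixed vector. -/
theorem theta_of_free (hodd : Odd (Module.finrank F V)) (om : D.circ →* ℂˣ) {g : V ≃ₗ[F] V}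
    (hfree : ∀ lam : D.circ, ∀ x : V, ((lam : Fˣ) : F) • g x = x → x = 0) :
    D.theta om g = if om = 1 then -1 else 0 := by
  have h1 : ∀ lam : D.circ, D.weilFn (scal (lam : Fˣ) * g) = -1 := by
    intro lam
    have hk : LinearMap.ker ((scal (lam : Fˣ) * g).toLinearMap - LinearMap.id) = ⊥ := by
      rw [Submodule.eq_bot_iff]
      intro x hx
      exact hfree lam x (sub_eq_zero.mp hx)
    rw [weilFn, hk, finrank_bot, pow_zero, mul_one, hodd.neg_one_pow]
  rw [theta]
  simp only [h1, mul_neg, mul_one, Finset.sum_neg_distrib, D.sum_om]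
  split_ifs
  · rw [D.card_circ]
    push_cast
    field_simp
  · simp

open Classical in
/-- The degree. -/
theorem theta_one (hodd : Odd (Module.finrank F V)) (om : D.circ →* ℂˣ) :
    D.theta om 1 = ((D.q : ℂ) + 1)⁻¹ *
      ((D.q : ℂ) ^ Module.finrank F V + 1 - (if om = 1 then (D.q : ℂ) + 1 else 0)) := by
  haveI : FiniteDimensional F V := Module.Finite.of_finite
  have h1 : ∀ lam : D.circ, D.weilFn (scal (lam : Fˣ) * 1) =
      if lam = 1 then (D.q : ℂ) ^ Module.finrank F V else -1 := by
    intro lam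
    rw [mul_one]
    split_ifs with hl
    · subst hl
      have hk : LinearMap.ker ((scal (((1 : D.circ) : Fˣ)) : V ≃ₗ[F] V).toLinearMap - LinearMap.id) = ⊤ := by
        rw [Submodule.eq_top_iff']
        intro x
        simp [LinearMap.mem_ker]
      rw [weilFn, hk, finrank_top, neg_pow (D.q : ℂ), ← mul_assoc, ← pow_add, (Even.add_self _).neg_one_pow,
        one_mul]
    · have hk : LinearMap.ker ((scal (lam : Fˣ) : V ≃ₗ[F] V).toLinearMap - LinearMap.id) = ⊥ := by
        rw [Submodule.eq_bot_iff]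
        intro x hx
        have h2 : (((lam : Fˣ) : F) - 1) • x = 0 := by
          rw [sub_smul, one_smul]
          exact hx
        refine (smul_eq_zero.mp h2).resolve_left (sub_ne_zero.mpr fun h => hl (Subtype.ext (Units.ext ?_)))
        simpa using h
      rw [weilFn, hk, finrank_bot, pow_zero, mul_one, hodd.neg_one_pow]
  rw [theta]
  congr 1
  simp only [h1]
  rw [← Finset.add_sum_erase _ _ (Finset.mem_univ (1 : D.circ)), if_pos rfl, map_one, Units.val_one, inv_one, one_mul,
    Finset.sum_congr rfl fun a ha => by rw [if_neg (Finset.ne_of_mem_erase ha), mul_neg, mul_one],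
    Finset.sum_neg_distrib, Finset.sum_erase_eq_sub (Finset.mem_univ _), map_one, Units.val_one, inv_one, D.sum_om]
  split_ifs
  · rw [D.card_circ]
    push_cast
    ring
  · ring

end Data

end CfsgLib.MaxSub.SU5Quintic
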