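/-
Tools for the transitivity criterion: fixed isotropic vectors of p-groups, orbit divisibility, frames.
-/
import Cfsg.Agent.Lib.MaxSub.SU5Quintic.Theta
import Cfsg.Agent.Lib.HermCount
import Cfsg.Agent.Lib.Aschbacher.UnitaryPair

set_option autoImplicit false
set_option linter.unusedSectionVars false

namespace CfsgLib.MaxSub.SU5Quintic

open Module

universe u v

/-- In a transitive action with `d` dividing the degree, `d` divides every orbit of a subgroup whose
index is prime to `d`. -/
theorem orbit_dvd {G α : Type*} [Group G] [MulAction G α] [Finite G] [Finite α]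
    [MulAction.IsPretransitive G α] {d : ℕ} (hd : d ∣ Nat.card α) (P : Subgroup G)
    (hP : d.Coprime P.index) (x : α) : d ∣ Nat.card (MulAction.orbit P x) := by
  classical
  have h1 : (MulAction.stabilizer G x).index = Nat.card α := MulAction.index_stabilizer_of_transitive G x
  have h2 : MulAction.stabilizer P x = (MulAction.stabilizer G x).subgroupOf P := by
    ext g; exact Iff.rfl
  have h3 : (MulAction.stabilizer P x).index = Nat.card (MulAction.orbit P x) := by
    rw [MulAction.index_stabilizer, Nat.card_coe_set_eq]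
  have h4 : ((MulAction.stabilizer G x).subgroupOf P).index * P.index =
      (MulAction.stabilizer G x ⊓ P).index := by
    rw [← Subgroup.relIndex_mul_index (inf_le_right : MulAction.stabilizer G x ⊓ P ≤ P),
      Subgroup.inf_relIndex_right]
    rfl
  have h5 : (MulAction.stabilizer G x).index ∣ (MulAction.stabilizer G x ⊓ P).index :=
    Subgroup.index_dvd_of_le inf_le_left
  rw [← h4, ← h2, h3, h1] at h5
  exact hP.dvd_of_dvd_mul_right (dvd_trans hd h5)

namespace Data

variable {F : Type u} [Field F] [Fintype F] {V : Type v} [AddCommGroup V] [Module F V] (D : Data F V)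

theorem frob_frob (x : F) : D.σ (D.σ x) = x := by
  rw [D.σ_apply, D.σ_apply, ← pow_mul, ← sq, ← D.card_F, FiniteField.pow_card]

theorem nrm_fixed (v : V) : D.σ (D.nrm v) = D.nrm v := D.herm v v

theorem form_add_right (v w w' : V) : D.form v (w + w') = D.form v w + D.form v w' := map_add _ _ _

theorem form_smul_right (c : F) (v w : V) : D.form v (c • w) = D.σ c * D.form v w := by
  rw [map_smulₛₗ, smul_eq_mul]

theorem form_add_left (v v' w : V) : D.form (v + v') w = D.form v w + D.form v' w := by
  rw [map_add, LinearMap.add_apply]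

theorem form_smul_left (c : F) (v w : V) : D.form (c • v) w = c * D.form v w := by
  rw [map_smul, LinearMap.smul_apply, smul_eq_mul]

theorem nrm_add_smul (v w : V) (c : F) :
    D.nrm (v + c • w) = D.nrm v + D.σ c * D.form v w + c * D.form w v + c * D.σ c * D.nrm w := by
  simp only [nrm, D.form_add_left, D.form_add_right, D.form_smul_left, D.form_smul_right]
  ring

theorem exists_norm {c : F} (hc : D.σ c = c) : ∃ t : F, t * D.σ t = c := by
  rcases eq_or_ne c 0 with rfl | h0
  · exact ⟨0, by simp⟩
  obtain ⟨t, ht⟩ := CfsgLib.HermCount.exists_norm D.card_F h0 (by rw [← D.σ_apply, hc])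
  exact ⟨(t : F), by rw [D.σ_apply, ← pow_succ', ht]⟩

theorem q_gt_one : 1 < D.q := D.two_le

/-- A subspace spanned by two orthogonal vectors contains an isotropic vector. -/
theorem exists_iso_comb {f g : V} (hf : D.nrm f ≠ 0) (hfg : D.form g f = 0) :
    ∃ c : F, D.nrm (g + c • f) = 0 := by
  obtain ⟨t, ht⟩ := D.exists_norm (c := -(D.nrm g) / D.nrm f) (by
    rw [map_div₀, map_neg, D.nrm_fixed, D.nrm_fixed])
  refine ⟨t, ?_⟩
  rw [D.nrm_add_smul, hfg, ← D.herm g f, hfg, ht]
  simp only [map_zero, mul_zero, add_zero]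
  field_simp
  ring

/-- Every vector can be moved to an isotropic one along an isotropic vector pairing with it. -/
theorem exists_iso_shift {y w : V} (hw : D.nrm w = 0) (h : D.form y w = 1) :
    ∃ c : F, D.nrm (y + c • w) = 0 ∧ D.form (y + c • w) w = 1 := by
  refine ⟨-(D.xi * D.nrm y), ?_, ?_⟩
  · rw [D.nrm_add_smul, h, ← D.herm y w, h, hw, map_one, map_neg, map_mul, D.nrm_fixed]
    linear_combination -(D.nrm y) * D.xi_trace
  · rw [D.form_add_left, D.form_smul_left, h, show D.form w w = 0 from hw, mul_zero, add_zero]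

/-- A vector pairing to one with a non-zero vector. -/
theorem exists_pair {w : V} (hw : w ≠ 0) : ∃ y, D.form y w = 1 := by
  obtain ⟨z, hz⟩ : ∃ z, D.form w z ≠ 0 := by
    by_contra h
    push Not at h
    exact hw (D.nondeg w h)
  have hz' : D.form z w ≠ 0 := fun e => hz (by rw [← D.herm, e, map_zero])
  exact ⟨(D.form z w)⁻¹ • z, by rw [D.form_smul_left, inv_mul_cancel₀ hz']⟩

/-- A p-group of isometries fixes a non-zero isotropic vector in every invariant subspace of
dimension at least two (for an action through linear maps). -/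
theorem exists_fixed_iso [Finite V] (p : ℕ) [Fact p.Prime] [CharP F p] {P : Type*} [Group P]
    (hP : IsPGroup p P) [Finite P] (ρ : P → V →ₗ[F] V) (W : Submodule F V) (hW : 2 ≤ finrank F W)
    (hinv : ∀ g, ∀ v ∈ W, ρ g v ∈ W) (h1 : ∀ v ∈ W, ρ 1 v = v)
    (hmul : ∀ g h, ∀ v ∈ W, ρ (g * h) v = ρ g (ρ h v))
    (hiso : ∀ g, ∀ v ∈ W, ∀ w ∈ W, D.form (ρ g v) (ρ g w) = D.form v w) :
    ∃ e ∈ W, e ≠ 0 ∧ D.nrm e = 0 ∧ ∀ g, ρ g e = e := by
  classical
  have hfix : ∀ U : Submodule F V, U ≤ W → U ≠ ⊥ → (∀ g, ∀ v ∈ U, ρ g v ∈ U) →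
      ∃ v ∈ U, v ≠ 0 ∧ ∀ g, ρ g v = v := by
    intro U hUW hU hUi
    letI : MulAction P U :=
      { smul := fun g v => ⟨ρ g v, hUi g v v.2⟩
        one_smul := fun v => Subtype.ext (h1 v (hUW v.2))
        mul_smul := fun g h v => Subtype.ext (hmul g h v (hUW v.2)) }
    have hcard : p ∣ Nat.card U := by
      rw [Module.natCard_eq_pow_finrank (K := F)]
      refine dvd_pow ?_ ?_
      · obtain ⟨n, -, hn⟩ := FiniteField.card F p
        rw [Nat.card_eq_fintype_card, hn]
        exact dvd_pow_self p n.pos.ne'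
      · intro h
        exact hU (Submodule.finrank_eq_zero.1 h)
    have h0 : (0 : U) ∈ MulAction.fixedPoints P U := fun g => Subtype.ext (map_zero (ρ g))
    obtain ⟨v, hv, hne⟩ := hP.exists_fixed_point_of_prime_dvd_card_of_fixed_point U hcard h0
    exact ⟨v, v.2, fun e => hne (Subtype.ext e.symm), fun g => congrArg Subtype.val (hv g)⟩
  obtain ⟨f, hfW, hf0, hf⟩ := hfix W le_rfl (fun e => by rw [e, finrank_bot] at hW; omega) hinv
  by_cases hn : D.nrm f = 0
  · exact ⟨f, hfW, hf0, hn, hf⟩
  let U : Submodule F V := W ⊓ LinearMap.ker (D.form.flip f)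
  have hU : ∀ v, v ∈ U ↔ v ∈ W ∧ D.form v f = 0 := fun v => by simp [U]
  have hUne : U ≠ ⊥ := by
    intro e
    obtain ⟨v, hv, hvf⟩ : ∃ v ∈ W, v ∉ Submodule.span F {f} := by
      by_contra h
      push Not at h
      have := Submodule.finrank_mono (show W ≤ Submodule.span F {f} from h)
      rw [finrank_span_singleton hf0] at this
      omega
    have hmem : v - (D.form v f / D.nrm f) • f ∈ U := by
      refine (hU _).2 ⟨W.sub_mem hv (W.smul_mem _ hfW), ?_⟩
      rw [map_sub, LinearMap.sub_apply, D.form_smul_left]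
      show D.form v f - D.form v f / D.nrm f * D.nrm f = 0
      rw [div_mul_cancel₀ _ hn, sub_self]
    rw [e, Submodule.mem_bot, sub_eq_zero] at hmem
    exact hvf (hmem ▸ Submodule.smul_mem _ _ (Submodule.mem_span_singleton_self f))
  obtain ⟨g, hgU, hg0, hg⟩ := hfix U inf_le_left hUne (fun r v hv => by
    rw [hU] at hv ⊢
    refine ⟨hinv r v hv.1, ?_⟩
    conv_lhs => rw [← hf r]
    rw [hiso r v hv.1 f hfW, hv.2])
  rw [hU] at hgU
  obtain ⟨c, hc⟩ := D.exists_iso_comb hn hgU.2
  refine ⟨g + c • f, W.add_mem hgU.1 (W.smul_mem c hfW), ?_, hc, fun r => ?_⟩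
  · intro e
    have := congrArg (fun v => D.form v f) e
    simp only [D.form_add_left, D.form_smul_left, hgU.2, map_zero, LinearMap.zero_apply, zero_add] at this
    rcases mul_eq_zero.1 this with h | h
    · rw [h, zero_smul, add_zero] at e; exact hg0 e
    · exact hn h
  · rw [map_add, map_smul, hf, hg]

/-- Orthonormal coordinates. -/
theorem exists_coord [FiniteDimensional F V] {n : ℕ} (hn : finrank F V = n) :
    ∃ e : (Fin n → F) ≃ₗ[F] V, ∀ a b, D.form (e a) (e b) = Cfsg.hermForm n F D.q a b := by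
  classical
  let b : Basis (Fin n) F V := (Module.finBasis F V).reindex (finCongr hn)
  let G : Matrix (Fin n) (Fin n) F := Matrix.of fun i j => D.form (b i) (b j)
  let τ : F ≃+* F := RingEquiv.ofBijective D.σ ⟨RingHom.injective _, fun x => ⟨D.σ x, D.frob_frob x⟩⟩
  have hτ : ∀ x, τ x = D.σ x := fun _ => rfl
  have hform : ∀ v : V, ∀ j, D.form v (b j) = ∑ i, b.repr v i * G i j := by
    intro v j
    conv_lhs => rw [← b.sum_repr v]
    simp only [map_sum, map_smul, LinearMap.sum_apply, LinearMap.smul_apply, smul_eq_mul]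
    rfl
  have hG : IsUnit G := by
    rw [Matrix.isUnit_iff_isUnit_det, isUnit_iff_ne_zero]
    intro hd
    obtain ⟨x, hx, hx0⟩ := Matrix.exists_vecMul_eq_zero_iff.2 hd
    have hv : ∀ j, D.form (∑ i, x i • b i) (b j) = 0 := fun j => by
      simp only [map_sum, map_smul, LinearMap.sum_apply, LinearMap.smul_apply, smul_eq_mul]
      exact congrFun hx0 j
    have h0 := D.nondeg _ (fun w => by
      rw [← b.sum_repr w, map_sum]
      refine Finset.sum_eq_zero fun j _ => ?_
      rw [D.form_smul_right, hv, mul_zero])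
    exact hx (funext fun i => Fintype.linearIndependent_iff.1 b.linearIndependent x h0 i)
  obtain ⟨C, hC⟩ := CfsgLib.Aschbacher.exists_orthonormal (σ := τ)
    (fun e => D.xi_ne (by rw [← hτ, e]; rfl)) (fun a => D.frob_frob a) hG (by
      ext i j
      simp only [Matrix.transpose_apply, Matrix.map_apply, hτ]
      exact (D.herm _ _).symm)
  let e0 : (Fin n → F) ≃ₗ[F] (Fin n → F) :=
    Matrix.GeneralLinearGroup.toLin C |> LinearMap.GeneralLinearGroup.toLinearEquiv
  have he0 : ∀ a, e0 a = (C : Matrix (Fin n) (Fin n) F).mulVec a := fun a => rfl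
  refine ⟨e0.trans b.equivFun.symm, fun a a' => ?_⟩
  have hsum : ∀ a, b.equivFun.symm a = ∑ i, a i • b i := fun a => b.equivFun_symm_apply a
  have key : ∀ x y : Fin n → F, D.form (∑ i, x i • b i) (∑ j, y j • b j) =
      dotProduct x (G.mulVec (τ ∘ y)) := by
    intro x y
    simp only [map_sum, map_smul, LinearMap.sum_apply, LinearMap.smul_apply, smul_eq_mul,
      D.form_smul_right, dotProduct, Matrix.mulVec, Function.comp_apply, Finset.mul_sum]
    rw [Finset.sum_comm]
    exact Finset.sum_congr rfl fun i _ => Finset.sum_congr rfl fun j _ => by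
      simp only [G, Matrix.of_apply, hτ]; ring
  rw [LinearEquiv.trans_apply, LinearEquiv.trans_apply, hsum, hsum, key, he0, he0,
    show (τ : F → F) ∘ (C : Matrix (Fin n) (Fin n) F).mulVec a' =
      ((C : Matrix (Fin n) (Fin n) F).map τ).mulVec (τ ∘ a') from
      funext fun i => RingHom.map_mulVec τ.toRingHom _ _ i,
    ← Matrix.vecMul_transpose, ← Matrix.dotProduct_mulVec, Matrix.mulVec_mulVec, Matrix.mulVec_mulVec,
    hC, Matrix.one_mulVec]
  simp only [dotProduct, Cfsg.hermForm, Function.comp_apply, hτ, D.σ_apply]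

end Data

end CfsgLib.MaxSub.SU5Quintic
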