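/-
Fourier transforms on a five dimensional hermitian space.
-/
import Cfsg.Agent.Lib.MaxSub.SU5Quintic.ThetaChar
import Cfsg.Agent.Lib.MaxSub.SU5Quintic.TransTools

set_option autoImplicit false
set_option linter.unusedSectionVars false
set_option maxHeartbeats 400000

namespace CfsgLib.MaxSub.SU5Quintic

open scoped BigOperators ComplexConjugate

universe u v

namespace Data

variable {F : Type u} [Field F] [Fintype F] {V : Type v} [AddCommGroup V] [Module F V] (D : Data F V) [Fintype V]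
  [DecidableEq V]

theorem tr_σ (x : F) : D.tr (D.σ x) = D.tr x := by
  simp only [tr, D.σσ]; ring

theorem tr_sub (x y : F) : D.tr (x - y) = D.tr x - D.tr y := by
  simp only [tr, map_sub]; ring

theorem tr_smul_real {r : F} (hr : D.σ r = r) (x : F) : D.tr (r * x) = r * D.tr x := by
  rw [mul_comm, D.tr_mul_real x hr, mul_comm]

theorem tr_xi_real {r : F} (hr : D.σ r = r) : D.tr (D.xi * r) = r := by
  rw [D.tr_mul_real _ hr, D.tr_xi, one_mul]

theorem σ_zero : D.σ 0 = 0 := map_zero _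

theorem xi_not_real : D.σ D.xi ≠ D.xi := D.xi_ne

theorem psi_zero : D.psi 0 = 1 := AddChar.map_zero_eq_one _

theorem psi_add (x y : F) : D.psi (x + y) = D.psi x * D.psi y := AddChar.map_add_eq_mul _ _ _

open Classical in
/-- The fixed field, as a finite set. -/
noncomputable def re : Finset F := Finset.univ.filter fun r => D.σ r = r

theorem mem_re {r : F} : r ∈ D.re ↔ D.σ r = r := by
  classical
  simp [re]

theorem zero_mem_re : (0 : F) ∈ D.re := D.mem_re.2 (map_zero _)

theorem one_mem_re : (1 : F) ∈ D.re := D.mem_re.2 (map_one _)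

theorem sub_xi_ne {r : F} (hr : D.σ r = r) : r - D.xi ≠ 0 := fun h =>
  D.xi_ne (by rw [← sub_eq_zero.1 h, hr])

theorem sub_σxi_ne {r : F} (hr : D.σ r = r) : r - D.σ D.xi ≠ 0 := fun h =>
  D.sub_xi_ne hr (by
    have h1 := congrArg D.σ (sub_eq_zero.1 h)
    rw [hr, D.σσ] at h1
    rw [h1, sub_self])

/-- The scalar of norm one with a given parameter. -/
noncomputable def unpar (r : F) : F := (r - D.σ D.xi) / (r - D.xi)

theorem unpar_ne_zero {r : F} (hr : D.σ r = r) : D.unpar r ≠ 0 :=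
  div_ne_zero (D.sub_σxi_ne hr) (D.sub_xi_ne hr)

theorem unpar_ne_one {r : F} (hr : D.σ r = r) : D.unpar r ≠ 1 := by
  rw [unpar, Ne, div_eq_one_iff_eq (D.sub_xi_ne hr)]
  intro h
  exact D.xi_ne (by linear_combination -h)

theorem unpar_pow {r : F} (hr : D.σ r = r) : D.unpar r ^ (D.q + 1) = 1 := by
  have h1 := D.sub_xi_ne hr
  have h2 := D.sub_σxi_ne hr
  rw [pow_succ, ← D.σ_apply, unpar, map_div₀, map_sub, map_sub, hr, D.σσ]
  field_simp

theorem par_unpar {r : F} (hr : D.σ r = r) : D.par (D.unpar r) = r := by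
  have h1 := D.sub_xi_ne hr
  have h3 := D.xi_sub_ne
  have e1 : D.xi * D.unpar r - D.σ D.xi = r * (D.xi - D.σ D.xi) / (r - D.xi) := by
    rw [unpar]; field_simp; ring
  have e2 : D.unpar r - 1 = (D.xi - D.σ D.xi) / (r - D.xi) := by
    rw [unpar]; field_simp; ring
  rw [par, e1, e2, div_div_div_cancel_right₀ h1, mul_div_assoc, div_self h3, mul_one]

/-- The parameter of a scalar. -/
noncomputable def parU (lam : D.circ) : F := D.par ((lam : Fˣ) : F)

theorem circ_pow (lam : D.circ) : ((lam : Fˣ) : F) ^ (D.q + 1) = 1 := by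
  rw [← Units.val_pow_eq_pow_val, D.mem_circ.1 lam.2, Units.val_one]

theorem circ_val_ne_one {lam : D.circ} (h : lam ≠ 1) : ((lam : Fˣ) : F) ≠ 1 := fun e =>
  h (Subtype.ext (Units.ext e))

theorem parU_real {lam : D.circ} (h : lam ≠ 1) : D.σ (D.parU lam) = D.parU lam :=
  D.par_real (D.circ_val_ne_one h) (D.circ_pow lam)

theorem parU_inv {lam : D.circ} (h : lam ≠ 1) : D.parU lam + D.parU lam⁻¹ = 1 := by
  have := D.par_add_inv (D.circ_val_ne_one h) (Units.ne_zero _)
  rwa [parU, parU, Subgroup.coe_inv, Units.val_inv_eq_inv_val]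

/-- The scalar of norm one with a given parameter, as an element of the group. -/
noncomputable def unparU {r : F} (hr : D.σ r = r) : D.circ :=
  ⟨Units.mk0 (D.unpar r) (D.unpar_ne_zero hr), D.mem_circ.2 (Units.ext (by
    rw [Units.val_pow_eq_pow_val, Units.val_mk0, D.unpar_pow hr, Units.val_one]))⟩

theorem unparU_ne_one {r : F} (hr : D.σ r = r) : D.unparU hr ≠ 1 := fun h =>
  D.unpar_ne_one hr (congrArg (fun x : D.circ => ((x : Fˣ) : F)) h)

theorem parU_unparU {r : F} (hr : D.σ r = r) : D.parU (D.unparU hr) = r := D.par_unpar hr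

open Classical in
/-- The scalars other than one correspond to the fixed field. -/
theorem sum_circ {A : Type*} [AddCommMonoid A] (f : F → A) :
    ∑ lam ∈ (Finset.univ : Finset D.circ).erase 1, f (D.parU lam) = ∑ r ∈ D.re, f r := by
  refine Finset.sum_bij (fun lam _ => D.parU lam) (fun lam h => ?_) (fun a ha b hb h => ?_)
    (fun r hr => ?_) (fun _ _ => rfl)
  · exact D.mem_re.2 (D.parU_real (Finset.ne_of_mem_erase h))
  · exact Subtype.ext (Units.ext (D.par_inj (D.circ_val_ne_one (Finset.ne_of_mem_erase ha))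
      (D.circ_val_ne_one (Finset.ne_of_mem_erase hb)) h))
  · exact ⟨D.unparU (D.mem_re.1 hr), Finset.mem_erase.2 ⟨D.unparU_ne_one _, Finset.mem_univ _⟩,
      D.parU_unparU _⟩

theorem card_re : D.re.card = D.q := by
  classical
  have h := D.sum_circ (fun _ => (1 : ℕ))
  rw [Finset.sum_const, Finset.sum_const, smul_eq_mul, smul_eq_mul, mul_one, mul_one,
    Finset.card_erase_of_mem (Finset.mem_univ _), Finset.card_univ, D.card_circ] at h
  omega

open Classical in
theorem sum_re_psi {c : F} (hc : D.σ c = c) :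
    ∑ r ∈ D.re, D.psi (r * c) = if c = 0 then (D.q : ℂ) else 0 := by
  split_ifs with h
  · subst h
    simp [D.card_re]
  · obtain ⟨x₀, hx₀, hne⟩ := D.psi_ne
    have hx : D.σ (x₀ / c) = x₀ / c := by rw [map_div₀, hx₀, hc]
    have key : D.psi x₀ * ∑ r ∈ D.re, D.psi (r * c) = ∑ r ∈ D.re, D.psi (r * c) := by
      rw [Finset.mul_sum]
      refine Finset.sum_nbij' (fun r => r + x₀ / c) (fun r => r - x₀ / c) ?_ ?_ ?_ ?_ ?_
      · intro r hr
        refine Finset.mem_coe.2 (D.mem_re.2 ?_)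
        rw [map_add, hx, D.mem_re.1 (Finset.mem_coe.1 hr)]
      · intro r hr
        refine Finset.mem_coe.2 (D.mem_re.2 ?_)
        rw [map_sub, hx, D.mem_re.1 (Finset.mem_coe.1 hr)]
      · intro r _; simp
      · intro r _; simp
      · intro r _
        rw [← D.psi_add, add_mul, div_mul_cancel₀ x₀ h, add_comm]
    by_contra h0
    exact hne (by rw [← mul_eq_right₀ h0]; exact key)

open Classical in
theorem sum_re_psi_erase {c : F} (hc : D.σ c = c) :
    ∑ r ∈ D.re.erase 0, D.psi (r * c) = (if c = 0 then (D.q : ℂ) else 0) - 1 := by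
  rw [← D.sum_re_psi hc, Finset.sum_erase_eq_sub D.zero_mem_re, zero_mul, D.psi_zero]

/-- The point of a line `tr t = a` with a given second coordinate. -/
noncomputable def t2 (a s : F) : F := (s - D.σ D.xi * a) / (D.xi - D.σ D.xi)

theorem tr_t2 {a s : F} (ha : D.σ a = a) (hs : D.σ s = s) :
    D.tr (D.t2 a s) = a ∧ D.tr (D.xi * D.t2 a s) = s := by
  have h := D.xi_sub_ne
  have h' : D.σ D.xi - D.xi ≠ 0 := fun e => h (by linear_combination -e)
  constructor <;>
  · simp only [tr, t2, map_mul, map_div₀, map_sub, D.σσ, ha, hs]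
    field_simp
    ring

theorem t2_unique {t a s : F} (h1 : D.tr t = a) (h2 : D.tr (D.xi * t) = s) : t = D.t2 a s := by
  rw [t2, eq_div_iff D.xi_sub_ne, ← h1, ← h2]
  simp only [tr, map_mul]
  ring

theorem eq_of_tr_eq {t t' : F} (h1 : D.tr t = D.tr t') (h2 : D.tr (D.xi * t) = D.tr (D.xi * t')) :
    t = t' :=
  (D.t2_unique h1 h2).trans (D.t2_unique rfl rfl).symm

open Classical in
/-- Sums over a line. -/
theorem sum_line {A : Type*} [AddCommMonoid A] {a : F} (ha : D.σ a = a) (f : F → A) :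
    ∑ t : F, (if D.tr t = a then f t else 0) = ∑ s ∈ D.re, f (D.t2 a s) := by
  rw [← Finset.sum_filter]
  refine Finset.sum_bij' (fun t _ => D.tr (D.xi * t)) (fun s _ => D.t2 a s) (fun t _ => ?_)
    (fun s hs => ?_) (fun t ht => ?_) (fun s hs => ?_) (fun t ht => ?_)
  · exact D.mem_re.2 (D.real_tr _)
  · simpa using (D.tr_t2 ha (D.mem_re.1 hs)).1
  · exact (D.t2_unique (Finset.mem_filter.1 ht).2 rfl).symm
  · exact (D.tr_t2 ha (D.mem_re.1 hs)).2
  · rw [← D.t2_unique (Finset.mem_filter.1 ht).2 rfl]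

open Classical in
theorem sum_line_psi {a : F} (ha : D.σ a = a) :
    ∑ t : F, (if D.tr t = a then D.psi (D.tr (D.xi * t)) else 0) = 0 := by
  rw [D.sum_line ha]
  calc ∑ s ∈ D.re, D.psi (D.tr (D.xi * D.t2 a s)) = ∑ s ∈ D.re, D.psi (s * 1) :=
        Finset.sum_congr rfl fun s hs => by rw [(D.tr_t2 ha (D.mem_re.1 hs)).2, mul_one]
    _ = 0 := by rw [D.sum_re_psi (map_one _), if_neg one_ne_zero]

theorem sum_psiT : ∑ t : F, D.psi (D.tr t) = 0 := by
  obtain ⟨x₀, hx₀, hne⟩ := D.psi_ne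
  have key : D.psi x₀ * ∑ t : F, D.psi (D.tr t) = ∑ t : F, D.psi (D.tr t) := by
    rw [Finset.mul_sum]
    refine Fintype.sum_equiv (Equiv.addRight (D.xi * x₀)) _ _ fun t => ?_
    rw [Equiv.coe_addRight, D.tr_add, D.psi_add, D.tr_xi_real hx₀, mul_comm]
  by_contra h0
  exact hne (by rw [← mul_eq_right₀ h0]; exact key)

theorem nrm_zero : D.nrm (0 : V) = 0 := by simp [nrm]

theorem nrm_neg (v : V) : D.nrm (-v) = D.nrm v := by simp [nrm]

theorem nrm_smul (c : F) (v : V) : D.nrm (c • v) = c * D.σ c * D.nrm v := by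
  simp only [nrm, D.form_smul_left, D.form_smul_right]; ring

theorem nrm_smul_circ (lam : D.circ) (v : V) : D.nrm (((lam : Fˣ) : F) • v) = D.nrm v := by
  rw [D.nrm_smul, D.σ_apply, ← pow_succ', D.circ_pow, one_mul]

theorem nrm_sub (v w : V) : D.nrm (v - w) = D.nrm v - D.tr (D.form v w) + D.nrm w := by
  simp only [nrm, tr, map_sub, LinearMap.sub_apply, D.herm v w]; ring

theorem nrm_iso {g : V ≃ₗ[F] V} (hg : g ∈ D.iso) (v : V) : D.nrm (g v) = D.nrm v := hg v v

theorem coc_neg_self (v : V) : D.coc v (-v) = D.psi (-D.nrm v) := by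
  rw [D.coc_eq, map_neg, mul_neg, D.tr_neg, ← nrm, D.tr_xi_real (D.real_nrm v)]

theorem smul_nrm_ne {c : F} (hc : c ≠ 0) {v : V} (hv : D.nrm v ≠ 0) : D.nrm (c • v) ≠ 0 := by
  rw [D.nrm_smul]
  exact mul_ne_zero (mul_ne_zero hc ((map_ne_zero D.σ).2 hc)) hv

/-- The additive character pairing. -/
noncomputable def chi (v w : V) : ℂ := D.psi (D.tr (D.form v w))

theorem chi_comm (v w : V) : D.chi v w = D.chi w v := by
  rw [chi, chi, ← D.herm v w, D.tr_σ]

theorem chi_add_right (u v w : V) : D.chi u (v + w) = D.chi u v * D.chi u w := by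
  simp only [chi, map_add, D.tr_add, D.psi_add]

theorem chi_zero_right (v : V) : D.chi v 0 = 1 := by
  simp [chi, D.tr_zero]

theorem chi_zero_left (v : V) : D.chi 0 v = 1 := by
  rw [chi_comm, chi_zero_right]

theorem chi_neg_right (v w : V) : D.chi v (-w) = D.chi (-v) w := by
  simp [chi]

theorem chi_iso {g : V ≃ₗ[F] V} (hg : g ∈ D.iso) (v w : V) : D.chi (g v) (g w) = D.chi v w := by
  rw [chi, chi, hg]

open Classical in
theorem sum_chi (v : V) : ∑ w, D.chi v w = if v = 0 then (Fintype.card V : ℂ) else 0 := by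
  split_ifs with h
  · subst h
    simp [D.chi_zero_left]
  · obtain ⟨w, hw⟩ : ∃ w, D.form v w ≠ 0 := by
      by_contra hh
      push Not at hh
      exact h (D.nondeg v hh)
    obtain ⟨x₀, hx₀, hne⟩ := D.psi_ne
    have h1 : D.chi v (D.σ (D.xi * x₀ / D.form v w) • w) = D.psi x₀ := by
      rw [chi, D.form_smul_right, D.σσ, div_mul_cancel₀ _ hw, D.tr_xi_real hx₀]
    have key : D.psi x₀ * ∑ u, D.chi v u = ∑ u, D.chi v u := by
      rw [← h1, Finset.mul_sum]
      exact Fintype.sum_equiv (Equiv.addLeft (D.σ (D.xi * x₀ / D.form v w) • w)) _ _ fun u => by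
        rw [Equiv.coe_addLeft, D.chi_add_right]
    by_contra h0
    exact hne (by rw [← mul_eq_right₀ h0]; exact key)

/-- The Fourier transform. -/
noncomputable def ft (f : V → ℂ) : V → ℂ := fun y => ∑ w, D.chi y w * f w

theorem ft_apply (f : V → ℂ) (y : V) : D.ft f y = ∑ w, D.chi y w * f w := rfl

theorem ft_zero (f : V → ℂ) : D.ft f 0 = ∑ w, f w := by
  simp [ft, D.chi_zero_left]

theorem ft_add (f g : V → ℂ) (y : V) : D.ft (fun w => f w + g w) y = D.ft f y + D.ft g y := by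
  simp [ft, mul_add, Finset.sum_add_distrib]

theorem ft_sub (f g : V → ℂ) (y : V) : D.ft (fun w => f w - g w) y = D.ft f y - D.ft g y := by
  simp [ft, mul_sub, Finset.sum_sub_distrib]

theorem ft_smul (a : ℂ) (f : V → ℂ) (y : V) : D.ft (fun w => a * f w) y = a * D.ft f y := by
  simp [ft, Finset.mul_sum, mul_left_comm]

theorem ft_ft (f : V → ℂ) (x : V) : D.ft (D.ft f) x = (Fintype.card V : ℂ) * f (-x) := by
  classical
  simp only [ft, Finset.mul_sum]
  rw [Finset.sum_comm]
  have h : ∀ w, ∑ y, D.chi x y * (D.chi y w * f w) =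
      (if w = -x then (Fintype.card V : ℂ) else 0) * f w := by
    intro w
    have h1 : ∑ y, D.chi (x + w) y = if w = -x then (Fintype.card V : ℂ) else 0 := by
      rw [D.sum_chi]
      simp only [add_eq_zero_iff_eq_neg']
    rw [← h1, Finset.sum_mul]
    refine Finset.sum_congr rfl fun y _ => ?_
    rw [D.chi_comm (x + w) y, D.chi_add_right, D.chi_comm x y]
    ring
  rw [Finset.sum_congr rfl fun w _ => h w]
  simp

theorem ft_duality (f g : V → ℂ) : ∑ x, f x * D.ft g x = ∑ x, g x * D.ft f x := by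
  simp only [ft, Finset.mul_sum]
  rw [Finset.sum_comm]
  exact Finset.sum_congr rfl fun x _ => Finset.sum_congr rfl fun y _ => by rw [D.chi_comm]; ring

theorem ft_iso_inv {g : V ≃ₗ[F] V} (hg : g ∈ D.iso) {f : V → ℂ} (hf : ∀ v, f (g v) = f v) (y : V) :
    D.ft f (g y) = D.ft f y := by
  rw [ft_apply, ft_apply, ← g.toEquiv.sum_comp]
  exact Finset.sum_congr rfl fun w _ => by rw [LinearEquiv.coe_toEquiv, D.chi_iso hg, hf]

/-- Invariance under non-zero scalars. -/
def ScalInv (f : V → ℂ) : Prop := ∀ c : F, c ≠ 0 → ∀ v : V, f (c • v) = f v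

theorem ScalInv.even {f : V → ℂ} (hf : ScalInv (F := F) f) (v : V) : f (-v) = f v := by
  rw [← neg_one_smul F v]
  exact hf _ (by simp) v

theorem sum_smul_comp {A : Type*} [AddCommMonoid A] {c : F} (hc : c ≠ 0) (f : V → A) :
    ∑ w, f (c • w) = ∑ w, f w :=
  Fintype.sum_equiv (scal (Units.mk0 c hc)).toEquiv _ _ fun _ => rfl

theorem ft_scalInv {f : V → ℂ} (hf : ScalInv (F := F) f) : ScalInv (F := F) (D.ft f) := by
  intro c hc y
  rw [ft_apply, ft_apply,
    ← sum_smul_comp ((map_ne_zero D.σ).2 hc) (fun w => D.chi y w * f w)]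
  refine Finset.sum_congr rfl fun w _ => ?_
  rw [hf _ ((map_ne_zero D.σ).2 hc), chi, chi, D.form_smul_left, D.form_smul_right, D.σσ]

open Classical in
/-- A scalar invariant function averages any function of the inner product. -/
theorem scal_avg {g : V → ℂ} (hg : ScalInv (F := F) g) (x : V) (φ : F → ℂ) :
    ∑ w, g w * φ (D.form x w) =
      (φ 0 - (∑ t, φ t) / (D.q : ℂ) ^ 2) * D.ft g x + (∑ t, φ t) / (D.q : ℂ) ^ 2 * ∑ w, g w := by
  set A := ∑ w, if D.form x w = 0 then g w else 0 with hA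
  have gen : ∀ φ : F → ℂ, ((D.q : ℂ) ^ 2 - 1) * ∑ w, g w * φ (D.form x w) =
      ((D.q : ℂ) ^ 2 * φ 0 - ∑ t, φ t) * A + (∑ t, φ t - φ 0) * ∑ w, g w := by
    intro φ
    have hcard : (((Finset.univ : Finset F).erase 0).card : ℂ) = (D.q : ℂ) ^ 2 - 1 := by
      rw [Finset.card_erase_of_mem (Finset.mem_univ _), Finset.card_univ, D.card_F,
        Nat.cast_sub (Nat.one_le_pow _ _ (by have := D.two_le; omega))]
      push_cast; ring
    have h1 : ((D.q : ℂ) ^ 2 - 1) * ∑ w, g w * φ (D.form x w) =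
        ∑ c ∈ (Finset.univ : Finset F).erase 0, ∑ w, g w * φ (D.σ c * D.form x w) := by
      rw [← hcard, ← nsmul_eq_mul, ← Finset.sum_const]
      refine Finset.sum_congr rfl fun c hc => ?_
      rw [← sum_smul_comp (Finset.ne_of_mem_erase hc) (fun w => g w * φ (D.form x w))]
      exact Finset.sum_congr rfl fun w _ => by
        rw [hg c (Finset.ne_of_mem_erase hc), D.form_smul_right]
    rw [h1, Finset.sum_comm, hA, Finset.mul_sum, Finset.mul_sum, ← Finset.sum_add_distrib]
    refine Finset.sum_congr rfl fun w _ => ?_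
    rw [← Finset.mul_sum]
    split_ifs with h
    · simp only [h, mul_zero, Finset.sum_const, nsmul_eq_mul, hcard]
      ring
    · have : ∑ c ∈ (Finset.univ : Finset F).erase 0, φ (D.σ c * D.form x w) = (∑ t, φ t) - φ 0 := by
        rw [← Finset.sum_erase_eq_sub (Finset.mem_univ _)]
        refine Finset.sum_bij' (fun c _ => D.σ c * D.form x w) (fun t _ => D.σ (t / D.form x w)) ?_ ?_ ?_ ?_ ?_
        · intro c hc; simpa [h] using hc
        · intro t ht; simpa [h] using ht
        · intro c _; rw [mul_div_cancel_right₀ _ h, D.σσ]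
        · intro t _; rw [D.σσ, div_mul_cancel₀ _ h]
        · intro c _; rfl
      rw [this]
      ring
  have hne : ((D.q : ℂ) ^ 2 - 1) ≠ 0 := by
    have := D.two_le
    rw [sub_ne_zero]
    exact_mod_cast (Nat.one_lt_pow two_ne_zero this).ne'
  have hq : (D.q : ℂ) ≠ 0 := Nat.cast_ne_zero.2 (by have := D.two_le; omega)
  have h2 : ((D.q : ℂ) ^ 2 - 1) * D.ft g x = (D.q : ℂ) ^ 2 * A - ∑ w, g w := by
    have := gen fun t => D.psi (D.tr t)
    rw [D.sum_psiT, D.tr_zero, D.psi_zero] at this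
    rw [show D.ft g x = ∑ w, g w * D.psi (D.tr (D.form x w)) from
      Finset.sum_congr rfl fun w _ => mul_comm _ _, this]
    ring
  refine mul_left_cancel₀ hne ?_
  rw [gen φ]
  field_simp
  linear_combination (∑ t, φ t - (D.q : ℂ) ^ 2 * φ 0) * h2

theorem card_V (hn : Module.finrank F V = 5) : (Fintype.card V : ℂ) = (D.q : ℂ) ^ 10 := by
  rw [Module.card_eq_pow_finrank (K := F), D.card_F, hn, ← pow_mul]
  push_cast; rfl

/-- The weil element of a scalar. -/
theorem weil_scal_apply (hn : Module.finrank F V = 5) {lam : D.circ} (h : lam ≠ 1) (v : V) :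
    D.weil (scal (lam : Fˣ)) v = -((D.q : ℂ) ^ 5)⁻¹ * D.psi (D.parU lam * D.nrm v) := by
  rw [D.weil_scalar (D.scal_mem_iso lam.2) (D.circ_val_ne_one h) (D.circ_pow lam) (fun _ => rfl), hn, parU]
  show (-1 : ℂ) ^ 5 * _ * _ = _
  ring

/-- The quadratic Gauss sum of the space. -/
theorem gauss_V (hn : Module.finrank F V = 5) {r : F} (hr : D.σ r = r) (hr0 : r ≠ 0) :
    ∑ v : V, D.psi (r * D.nrm v) = -(D.q : ℂ) ^ 5 := by
  set a := D.unparU hr
  set b := D.unparU (map_one D.σ)
  have ha := D.unparU_ne_one hr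
  have hb := D.unparU_ne_one (map_one D.σ)
  have hab : a * b ≠ 1 := by
    intro h
    have h1 : a = b⁻¹ := eq_inv_of_mul_eq_one_left h
    have h2 := D.parU_inv hb
    rw [← h1, D.parU_unparU, D.parU_unparU] at h2
    exact hr0 (by linear_combination h2)
  have hq : ((D.q : ℂ) ^ 5) ≠ 0 := pow_ne_zero _ (Nat.cast_ne_zero.2 (by have := D.two_le; omega))
  have h := congrFun (D.weil_mul (D.scal_mem_iso a.2) (D.scal_mem_iso b.2)) (0 : V)
  rw [← scal_mul, ← Subgroup.coe_mul, D.weil_scal_apply hn hab, D.nrm_zero, mul_zero, D.psi_zero, D.mul_apply] at h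
  have h' : ∀ v, D.weil (scal (a : Fˣ)) v * D.weil (scal (b : Fˣ)) (0 - v) * D.coc v (0 - v) =
      (((D.q : ℂ) ^ 5)⁻¹) ^ 2 * D.psi (r * D.nrm v) := by
    intro v
    rw [zero_sub, D.weil_scal_apply hn ha, D.weil_scal_apply hn hb, D.nrm_neg, D.coc_neg_self,
      D.parU_unparU, D.parU_unparU, one_mul]
    have : D.psi (D.nrm v) * D.psi (-D.nrm v) = 1 := by rw [← D.psi_add, add_neg_cancel, D.psi_zero]
    linear_combination (((D.q : ℂ) ^ 5)⁻¹) ^ 2 * D.psi (r * D.nrm v) * this
  rw [Finset.sum_congr rfl fun v _ => h' v, ← Finset.mul_sum, mul_one] at h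
  rw [eq_comm] at h
  calc ∑ v : V, D.psi (r * D.nrm v) = ((D.q : ℂ) ^ 5) ^ 2 * (((D.q : ℂ) ^ 5)⁻¹ ^ 2 * ∑ v, D.psi (r * D.nrm v)) := by
        rw [← mul_assoc, ← mul_pow, mul_inv_cancel₀ hq, one_pow, one_mul]
    _ = -(D.q : ℂ) ^ 5 := by rw [h, sq, mul_neg, mul_assoc, mul_inv_cancel₀ hq, mul_one]

/-- A shifted Gauss sum. -/
theorem gauss_shift (hn : Module.finrank F V = 5) {r : F} (hr : D.σ r = r) (hr0 : r ≠ 0) (y : V) :
    ∑ v : V, D.psi (r * D.nrm v) * D.chi y v = -(D.q : ℂ) ^ 5 * D.psi (-(r⁻¹ * D.nrm y)) := by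
  rw [← D.gauss_V hn hr hr0, Finset.sum_mul, ← (Equiv.subRight (r⁻¹ • y)).sum_comp]
  refine Finset.sum_congr rfl fun v _ => ?_
  rw [Equiv.subRight_apply, chi, ← D.psi_add, ← D.psi_add]
  congr 1
  have hri : D.σ r⁻¹ = r⁻¹ := by rw [map_inv₀, hr]
  rw [D.nrm_sub, D.nrm_smul, D.form_smul_right, hri, map_sub, D.form_smul_right, hri, ← nrm, D.tr_sub,
    D.tr_smul_real hri, D.tr_smul_real hri, ← D.herm y v, D.tr_σ]
  have h2 : D.tr (D.nrm y) = D.nrm y + D.nrm y := by rw [tr, D.real_nrm]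
  rw [h2]
  field_simp
  ring

open Classical in
/-- The indicator of the vectors of norm zero. -/
noncomputable def cone (v : V) : ℂ := if D.nrm v = 0 then 1 else 0

open Classical in
theorem ft_cone (hn : Module.finrank F V = 5) (y : V) :
    D.ft D.cone y = (if y = 0 then (D.q : ℂ) ^ 9 else 0) + (D.q : ℂ) ^ 4 - (D.q : ℂ) ^ 5 * D.cone y := by
  have hq : (D.q : ℂ) ≠ 0 := Nat.cast_ne_zero.2 (by have := D.two_le; omega)
  refine mul_left_cancel₀ hq ?_
  have h1 : (D.q : ℂ) * D.ft D.cone y = ∑ r ∈ D.re, ∑ v : V, D.psi (r * D.nrm v) * D.chi y v := by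
    rw [Finset.sum_comm, ft_apply, Finset.mul_sum]
    refine Finset.sum_congr rfl fun v _ => ?_
    rw [← Finset.sum_mul, D.sum_re_psi (D.real_nrm v), cone]
    split_ifs <;> ring
  rw [h1, ← Finset.add_sum_erase _ _ D.zero_mem_re,
    Finset.sum_congr rfl fun r hr => D.gauss_shift hn (D.mem_re.1 (Finset.mem_of_mem_erase hr))
      (Finset.ne_of_mem_erase hr) y, ← Finset.mul_sum]
  have h2 : ∑ r ∈ D.re.erase 0, D.psi (-(r⁻¹ * D.nrm y)) = (D.q : ℂ) * D.cone y - 1 := by
    have h3 := D.sum_re_psi_erase (c := -D.nrm y) (by rw [map_neg, D.real_nrm])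
    rw [cone, mul_ite, mul_one, mul_zero]
    simp only [neg_eq_zero] at h3
    rw [← h3]
    refine Finset.sum_nbij' (fun r => r⁻¹) (fun r => r⁻¹) ?_ ?_ ?_ ?_ ?_
    · intro r hr
      simpa [D.mem_re] using hr
    · intro r hr
      simpa [D.mem_re] using hr
    · intro r _; simp
    · intro r _; simp
    · intro r _; ring_nf
  rw [h2]
  simp only [zero_mul, D.psi_zero, one_mul, D.sum_chi, D.card_V hn]
  split_ifs <;> ring

open Classical in
theorem sum_level (hn : Module.finrank F V = 5) {s : F} (hs : D.σ s = s) (hs0 : s ≠ 0) :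
    ∑ v : V, (if D.nrm v = s then (1 : ℂ) else 0) = (D.q : ℂ) ^ 9 + (D.q : ℂ) ^ 4 := by
  have hq : (D.q : ℂ) ≠ 0 := Nat.cast_ne_zero.2 (by have := D.two_le; omega)
  refine mul_left_cancel₀ hq ?_
  have h1 : (D.q : ℂ) * ∑ v : V, (if D.nrm v = s then (1 : ℂ) else 0) =
      ∑ r ∈ D.re, ∑ v : V, D.psi (r * D.nrm v) * D.psi (r * -s) := by
    rw [Finset.sum_comm, Finset.mul_sum]
    refine Finset.sum_congr rfl fun v _ => ?_
    simp only [← D.psi_add, ← mul_add, ← sub_eq_add_neg]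
    rw [D.sum_re_psi (by rw [map_sub, D.real_nrm, hs])]
    simp only [sub_eq_zero]
    split_ifs <;> ring
  rw [h1, ← Finset.add_sum_erase _ _ D.zero_mem_re,
    Finset.sum_congr rfl fun r hr => (Finset.sum_mul _ _ _).symm.trans (by
      rw [D.gauss_V hn (D.mem_re.1 (Finset.mem_of_mem_erase hr)) (Finset.ne_of_mem_erase hr)]),
    ← Finset.mul_sum, D.sum_re_psi_erase (by rw [map_neg, hs]), if_neg (neg_ne_zero.2 hs0)]
  simp only [zero_mul, D.psi_zero, mul_one, Finset.sum_const, nsmul_eq_mul, Finset.card_univ, D.card_V hn]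
  ring

end Data

end CfsgLib.MaxSub.SU5Quintic
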