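/-
The irreducible principal piece of the Weil representation gives eigen equations for invariant functions.
-/
import Cfsg.Agent.Lib.MaxSub.SU5Quintic.OrbitsFT

set_option autoImplicit false
set_option linter.unusedSectionVars false
set_option linter.style.haveILetI false
set_option maxHeartbeats 1000000

namespace CfsgLib.MaxSub.SU5Quintic

open scoped BigOperators ComplexConjugate
open Cfsg CfsgLib.CharTheory

universe u v w

/-- An idempotent of trace one has a line as its range. -/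
theorem idem_line {W : Type w} [AddCommGroup W] [Module ℂ W] [FiniteDimensional ℂ W] (L : W →ₗ[ℂ] W)
    (hL : ∀ x, L (L x) = L x) (ht : LinearMap.trace ℂ W L = 1) {z : W} (hz : L z = z) (hz0 : z ≠ 0) (x : W) :
    ∃ c : ℂ, L x = c • z := by
  have hp : LinearMap.IsProj (LinearMap.range L) L :=
    ⟨fun x => LinearMap.mem_range_self L x, by rintro _ ⟨y, rfl⟩; exact hL y⟩
  have h1 : Module.finrank ℂ (LinearMap.range L) = 1 := by
    have h := hp.trace
    rw [ht] at h
    exact_mod_cast h.symm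
  obtain ⟨c, hc⟩ := (finrank_eq_one_iff_of_nonzero' (⟨z, ⟨z, hz⟩⟩ : LinearMap.range L)
    (fun e => hz0 (congrArg Subtype.val e))).1 h1 ⟨L x, LinearMap.mem_range_self L x⟩
  exact ⟨c, (congrArg Subtype.val hc).symm⟩

namespace Data

variable {F : Type u} [Field F] [Fintype F] {V : Type v} [AddCommGroup V] [Module F V] (D : Data F V) [Fintype V]
  [DecidableEq V]

/-- Invariance under a group and under the scalars of norm one. -/
def Inv (M : Subgroup (V ≃ₗ[F] V)) (f : V → ℂ) : Prop :=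
  (∀ g ∈ M, ∀ v, f (g v) = f v) ∧ ∀ (lam : D.circ) (v : V), f (((lam : Fˣ) : F) • v) = f v

/-- Invariance under a group and under all non-zero scalars. -/
def PInv (M : Subgroup (V ≃ₗ[F] V)) (f : V → ℂ) : Prop :=
  (∀ g ∈ M, ∀ v, f (g v) = f v) ∧ ScalInv (F := F) f

theorem PInv.inv {M : Subgroup (V ≃ₗ[F] V)} {f : V → ℂ} (h : PInv M f) : D.Inv M f :=
  ⟨h.1, fun _ v => h.2 _ (Units.ne_zero _) v⟩

theorem ft_pinv {M : Subgroup (V ≃ₗ[F] V)} (hM : M ≤ D.iso) {f : V → ℂ} (h : PInv M f) : PInv M (D.ft f) :=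
  ⟨fun g hg y => D.ft_iso_inv (hM hg) (h.1 g hg) y, D.ft_scalInv h.2⟩

/-- The trace of an element of the twisted algebra. -/
noncomputable def tau (a : Alg D) : ℂ := (D.q : ℂ) ^ Module.finrank F V * a 0

theorem tau_smul (k : ℂ) (a : Alg D) : D.tau (k • a) = k * D.tau a := by
  rw [tau, tau, D.smul_apply]; ring

theorem tau_sum {ι : Type*} (s : Finset ι) (a : ι → Alg D) : D.tau (∑ i ∈ s, a i) = ∑ i ∈ s, D.tau (a i) := by
  simp only [tau]
  rw [← Finset.mul_sum]
  exact congrArg _ (Finset.sum_apply (M := fun _ => ℂ) (0 : V) s a)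

theorem mul_apply_zero (a b : Alg D) : (a * b : Alg D) 0 = ∑ v, a v * b (-v) * D.psi (-D.nrm v) := by
  rw [D.mul_apply]
  exact Finset.sum_congr rfl fun v _ => by rw [zero_sub, D.coc_neg_self]

theorem tau_comm (a b : Alg D) : D.tau (a * b) = D.tau (b * a) := by
  rw [tau, tau, D.mul_apply_zero, D.mul_apply_zero]
  congr 1
  refine Fintype.sum_equiv (Equiv.neg V) _ _ fun v => ?_
  rw [Equiv.neg_apply, neg_neg, D.nrm_neg]; ring

theorem tau_weil {g : V ≃ₗ[F] V} (hg : g ∈ D.iso) : D.tau (D.weil g) = D.weilFn g := by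
  rw [tau, D.weil_zero_apply hg, weilFn]
  have hn : rk g + Module.finrank F (LinearMap.ker (disp g)) = Module.finrank F V :=
    LinearMap.finrank_range_add_finrank_ker _
  show _ = _ * (-(D.q : ℂ)) ^ Module.finrank F (LinearMap.ker (disp g))
  rw [← hn, pow_add (-1 : ℂ), pow_add (D.q : ℂ), neg_pow (D.q : ℂ), neg_pow (D.q : ℂ)]
  have hq : (D.q : ℂ) ≠ 0 := neg_ne_zero.1 D.negq_ne
  field_simp
  rcases neg_one_pow_eq_or ℂ (rk g) with h | h <;>
    rcases neg_one_pow_eq_or ℂ (Module.finrank F (LinearMap.ker (disp g))) with h' | h' <;> simp [h, h']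

/-- Multiplication on both sides. -/
noncomputable def lr (a b : Alg D) : Alg D →ₗ[ℂ] Alg D :=
  (LinearMap.mulLeft ℂ a).comp (LinearMap.mulRight ℂ b)

theorem lr_apply (a b x : Alg D) : D.lr a b x = a * (x * b) := rfl

theorem trace_eq_sum (L : Alg D →ₗ[ℂ] Alg D) : LinearMap.trace ℂ (Alg D) L = ∑ v, L (D.sgl v) v := by
  let b : Module.Basis V ℂ (Alg D) := Pi.basisFun ℂ V
  rw [LinearMap.trace_eq_matrix_trace ℂ b L, Matrix.trace]
  refine Finset.sum_congr rfl fun v _ => ?_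
  rw [Matrix.diag_apply, LinearMap.toMatrix_apply]
  have hb : b v = D.sgl v := funext fun x => by
    show (Pi.basisFun ℂ V v : V → ℂ) x = _
    rw [Pi.basisFun_apply, sgl, Pi.single_apply]
  rw [hb]
  rfl

theorem trace_lr (a b : Alg D) : LinearMap.trace ℂ (Alg D) (D.lr a b) = D.tau a * D.tau b := by
  rw [D.trace_eq_sum]
  have h1 : ∀ v, D.lr a b (D.sgl v) v =
      ∑ w, a w * b (-w) * D.coc w (-w) * (D.coc w v / D.coc v w) := by
    intro v
    rw [D.lr_apply, D.mul_apply]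
    refine Finset.sum_congr rfl fun w _ => ?_
    rw [D.sgl_mul, show v - w - v = -w by abel, show v - w = v + -w by abel, D.coc_add_right, D.coc_neg_right v w,
      div_eq_mul_inv]
    ring
  rw [Finset.sum_congr rfl fun v _ => h1 v, Finset.sum_comm, Fintype.sum_eq_single (0 : V)]
  · simp only [neg_zero, D.coc_zero_left, D.coc_zero_right, div_one, mul_one, Finset.sum_const, nsmul_eq_mul,
      Finset.card_univ, tau]
    rw [Module.card_eq_pow_finrank (K := F), D.card_F]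
    push_cast
    ring
  · intro w hw
    rw [← Finset.mul_sum]
    have : ∑ v, D.coc w v / D.coc v w = 0 := by
      obtain ⟨u, hu⟩ := D.exists_skew hw
      have hmul : D.coc w u / D.coc u w * ∑ v, D.coc w v / D.coc v w = ∑ v, D.coc w v / D.coc v w := by
        rw [Finset.mul_sum]
        refine Fintype.sum_equiv (Equiv.addLeft u) _ _ fun v => ?_
        rw [Equiv.coe_addLeft, D.coc_add_right, D.coc_add_left, div_mul_div_comm]
      by_contra h
      exact hu ((div_eq_one_iff_eq (D.coc_ne_zero u w)).1 (mul_right_cancel₀ h (hmul.trans (one_mul _).symm)))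
    rw [this, mul_zero]

open Classical in
/-- The central idempotent of a character of the scalars of norm one. -/
noncomputable def pom (om : D.circ →* ℂˣ) : Alg D :=
  ((D.q : ℂ) + 1)⁻¹ • ∑ lam : D.circ, ((om lam : ℂˣ) : ℂ)⁻¹ • D.weil (scal (lam : Fˣ))

theorem weil_scal_comm (lam : D.circ) {g : V ≃ₗ[F] V} (hg : g ∈ D.iso) :
    D.weil (scal (lam : Fˣ)) * D.weil g = D.weil g * D.weil (scal (lam : Fˣ)) := by
  rw [← D.weil_mul (D.scal_mem_iso lam.2) hg, ← D.weil_mul hg (D.scal_mem_iso lam.2), scal_comm]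

theorem pom_comm (om : D.circ →* ℂˣ) {g : V ≃ₗ[F] V} (hg : g ∈ D.iso) :
    D.pom om * D.weil g = D.weil g * D.pom om := by
  classical
  rw [pom, smul_mul_assoc, mul_smul_comm, Finset.sum_mul, Finset.mul_sum]
  refine congrArg _ (Finset.sum_congr rfl fun a _ => ?_)
  rw [smul_mul_assoc, mul_smul_comm, D.weil_scal_comm a hg]

theorem pom_absorb (om : D.circ →* ℂˣ) (a : D.circ) :
    D.weil (scal (a : Fˣ)) * D.pom om = ((om a : ℂˣ) : ℂ) • D.pom om := by
  classical
  rw [pom, mul_smul_comm, Finset.mul_sum, smul_comm ((om a : ℂˣ) : ℂ)]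
  congr 1
  rw [Finset.smul_sum]
  refine Fintype.sum_equiv (Equiv.mulLeft a) _ _ fun x => ?_
  rw [mul_smul_comm, ← D.weil_mul (D.scal_mem_iso a.2) (D.scal_mem_iso x.2), ← scal_mul, ← Subgroup.coe_mul,
    smul_smul, Equiv.coe_mulLeft, map_mul, Units.val_mul, mul_inv, ← mul_assoc, mul_inv_cancel₀ (Units.ne_zero _),
    one_mul]

theorem pom_idem (om : D.circ →* ℂˣ) : D.pom om * D.pom om = D.pom om := by
  classical
  have hne : ((D.q : ℂ) + 1) ≠ 0 := Nat.cast_add_one_ne_zero D.q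
  conv_lhs => arg 1; rw [pom]
  rw [smul_mul_assoc, Finset.sum_mul]
  simp only [smul_mul_assoc, D.pom_absorb, smul_smul, inv_mul_cancel₀ (Units.ne_zero _), one_smul,
    Finset.sum_const, Finset.card_univ, D.card_circ]
  rw [← Nat.cast_smul_eq_nsmul ℂ, smul_smul]
  convert one_smul ℂ _
  push_cast
  field_simp

theorem tau_pom_weil (om : D.circ →* ℂˣ) {g : V ≃ₗ[F] V} (hg : g ∈ D.iso) :
    D.tau (D.pom om * D.weil g) = D.theta om g := by
  classical
  rw [pom, smul_mul_assoc, D.tau_smul, Finset.sum_mul, D.tau_sum, theta]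
  refine congrArg _ (Finset.sum_congr rfl fun a _ => ?_)
  rw [smul_mul_assoc, D.tau_smul, ← D.weil_mul (D.scal_mem_iso a.2) hg,
    D.tau_weil (D.iso.mul_mem (D.scal_mem_iso a.2) hg)]

theorem weil_comm_of_fix {g : V ≃ₗ[F] V} (hg : g ∈ D.iso) {f : Alg D} (hf : ∀ v, f (g v) = f v) :
    D.weil g * f = f * D.weil g := by
  rw [D.weil_twist hg]
  congr 1
  funext x
  show f (g⁻¹ x) = f x
  rw [← hf (g⁻¹ x), ← LinearEquiv.mul_apply, mul_inv_cancel, LinearEquiv.coe_one, id]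

theorem pom_comm_inv {M : Subgroup (V ≃ₗ[F] V)} (om : D.circ →* ℂˣ) {f : Alg D} (hf : D.Inv M f) :
    D.pom om * f = f * D.pom om := by
  classical
  rw [pom, smul_mul_assoc, mul_smul_comm, Finset.sum_mul, Finset.mul_sum]
  refine congrArg _ (Finset.sum_congr rfl fun a _ => ?_)
  rw [smul_mul_assoc, mul_smul_comm, D.weil_comm_of_fix (D.scal_mem_iso a.2) fun v => hf.2 a v]

open Classical in
theorem pom_one_apply (hn : Module.finrank F V = 5) (v : V) :
    D.pom 1 v = ((D.q : ℂ) + 1)⁻¹ * ((if v = 0 then 1 else 0) - ((D.q : ℂ) ^ 4)⁻¹ * D.cone v) := by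
  have hq : (D.q : ℂ) ≠ 0 := Nat.cast_ne_zero.2 (by have := D.two_le; omega)
  rw [pom, D.smul_apply]
  congr 1
  rw [show (∑ lam : D.circ, ((1 : D.circ →* ℂˣ) lam : ℂ)⁻¹ • D.weil (scal (lam : Fˣ)) : Alg D) v =
    ∑ lam : D.circ, (((1 : D.circ →* ℂˣ) lam : ℂ)⁻¹ • D.weil (scal (lam : Fˣ)) : Alg D) v from
      Finset.sum_apply (M := fun _ => ℂ) v _ _]
  simp only [D.smul_apply, MonoidHom.one_apply, Units.val_one, inv_one, one_mul]
  rw [← Finset.add_sum_erase _ _ (Finset.mem_univ (1 : D.circ)),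
    Finset.sum_congr rfl fun lam h => D.weil_scal_apply hn (Finset.ne_of_mem_erase h) v, ← Finset.mul_sum,
    D.sum_circ (fun r => D.psi (r * D.nrm v)), D.sum_re_psi (D.real_nrm v), OneMemClass.coe_one, scal_one,
    D.weil_one, D.one_apply, cone]
  split_ifs <;> field_simp <;> ring

/-- The eigen equations of the invariant functions. -/
def Eig (M : Subgroup (V ≃ₗ[F] V)) : Prop :=
  ∀ f : V → ℂ, D.Inv M f → f 0 = 0 → ∑ v, D.cone v * f v = 0 →
    ∀ x, ∑ v, D.cone v * (f (x - v) * D.coc v (x - v)) = (D.q : ℂ) ^ 4 * f x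

theorem eig_of_norm_one (hn : Module.finrank F V = 5) (M : Subgroup (V ≃ₗ[F] V)) [Fintype M] (hM : M ≤ D.iso)
    (hone : classInner (fun g : M => D.theta 1 (g : V ≃ₗ[F] V)) (fun g : M => D.theta 1 (g : V ≃ₗ[F] V)) = 1) :
    D.Eig M := by
  classical
  intro f hf hf0 hfc x
  have hq : (D.q : ℂ) ≠ 0 := Nat.cast_ne_zero.2 (by have := D.two_le; omega)
  have hne : ((D.q : ℂ) + 1) ≠ 0 := Nat.cast_add_one_ne_zero D.q
  have hcard : (Nat.card M : ℂ) ≠ 0 := Nat.cast_ne_zero.2 Nat.card_pos.ne'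
  set P := D.pom 1
  let R : Alg D →ₗ[ℂ] Alg D :=
    (Nat.card M : ℂ)⁻¹ • ∑ g : M, D.lr (P * D.weil (g : V ≃ₗ[F] V)) (D.weil ((g : V ≃ₗ[F] V))⁻¹ * P)
  have hR : ∀ x : Alg D, R x = (Nat.card M : ℂ)⁻¹ • ∑ g : M,
      P * D.weil (g : V ≃ₗ[F] V) * (x * (D.weil ((g : V ≃ₗ[F] V))⁻¹ * P)) := by
    intro x
    simp only [R, LinearMap.smul_apply, LinearMap.sum_apply, D.lr_apply]
  have hPW : ∀ g : M, P * D.weil (g : V ≃ₗ[F] V) = D.weil (g : V ≃ₗ[F] V) * P := fun g => D.pom_comm 1 (hM g.2)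
  have hPW' : ∀ g : M, P * D.weil (g : V ≃ₗ[F] V)⁻¹ = D.weil (g : V ≃ₗ[F] V)⁻¹ * P := fun g =>
    D.pom_comm 1 (D.iso.inv_mem (hM g.2))
  have hWW : ∀ g : M, D.weil (g : V ≃ₗ[F] V) * D.weil (g : V ≃ₗ[F] V)⁻¹ = 1 := fun g => by
    rw [← D.weil_mul (hM g.2) (D.iso.inv_mem (hM g.2)), mul_inv_cancel, D.weil_one]
  have hPP : P * P = P := D.pom_idem 1
  have hRinv : ∀ a : Alg D, (∀ g : M, D.weil (g : V ≃ₗ[F] V) * a = a * D.weil (g : V ≃ₗ[F] V)) → P * a = a * P →
      R a = P * a := by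
    intro a ha hPa
    rw [hR, Finset.sum_congr rfl (g := fun _ => P * a) fun g _ => ?_, Finset.sum_const, Finset.card_univ,
      ← Nat.card_eq_fintype_card, ← Nat.cast_smul_eq_nsmul ℂ, smul_smul, inv_mul_cancel₀ hcard, one_smul]
    calc P * D.weil (g : V ≃ₗ[F] V) * (a * (D.weil ((g : V ≃ₗ[F] V))⁻¹ * P))
        = P * (D.weil (g : V ≃ₗ[F] V) * a) * D.weil ((g : V ≃ₗ[F] V))⁻¹ * P := by simp only [mul_assoc]
      _ = P * a * (D.weil (g : V ≃ₗ[F] V) * D.weil ((g : V ≃ₗ[F] V))⁻¹) * P := by rw [ha g]; simp only [mul_assoc]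
      _ = P * a := by rw [hWW, mul_one, mul_assoc, ← hPa, ← mul_assoc, hPP]
  have hidem : ∀ x, R (R x) = R x := by
    intro x
    have hterm : ∀ g h : M, P * D.weil (g : V ≃ₗ[F] V) * (P * D.weil (h : V ≃ₗ[F] V) *
        (x * (D.weil ((h : V ≃ₗ[F] V))⁻¹ * P)) * (D.weil ((g : V ≃ₗ[F] V))⁻¹ * P)) =
        P * D.weil ((g * h : M) : V ≃ₗ[F] V) * (x * (D.weil (((g * h : M) : V ≃ₗ[F] V))⁻¹ * P)) := by
      intro g h
      calc _ = P * (D.weil (g : V ≃ₗ[F] V) * P) * D.weil (h : V ≃ₗ[F] V) *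
            x * (D.weil ((h : V ≃ₗ[F] V))⁻¹ * (P * D.weil ((g : V ≃ₗ[F] V))⁻¹) * P) := by simp only [mul_assoc]
        _ = P * P * (D.weil (g : V ≃ₗ[F] V) * D.weil (h : V ≃ₗ[F] V)) *
            x * (D.weil ((h : V ≃ₗ[F] V))⁻¹ * D.weil ((g : V ≃ₗ[F] V))⁻¹ * (P * P)) := by
              rw [← hPW, hPW']; simp only [mul_assoc]
        _ = _ := by
              rw [hPP, ← D.weil_mul (hM g.2) (hM h.2),
                ← D.weil_mul (D.iso.inv_mem (hM h.2)) (D.iso.inv_mem (hM g.2)), ← mul_inv_rev]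
              simp only [mul_assoc, Subgroup.coe_mul]
    rw [hR (R x), hR x]
    have h1 : ∀ g : M, P * D.weil (g : V ≃ₗ[F] V) * (((Nat.card M : ℂ)⁻¹ • ∑ h : M,
        P * D.weil (h : V ≃ₗ[F] V) * (x * (D.weil ((h : V ≃ₗ[F] V))⁻¹ * P))) *
          (D.weil ((g : V ≃ₗ[F] V))⁻¹ * P)) =
        (Nat.card M : ℂ)⁻¹ • ∑ h : M,
          P * D.weil (h : V ≃ₗ[F] V) * (x * (D.weil ((h : V ≃ₗ[F] V))⁻¹ * P)) := by
      intro g
      rw [smul_mul_assoc, mul_smul_comm, Finset.sum_mul, Finset.mul_sum]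
      exact congrArg _ (Fintype.sum_equiv (Equiv.mulLeft g) _ _ fun h => hterm g h)
    rw [Finset.sum_congr rfl fun g _ => h1 g, Finset.sum_const, Finset.card_univ, ← Nat.card_eq_fintype_card,
      ← Nat.cast_smul_eq_nsmul ℂ, smul_smul, inv_mul_cancel₀ hcard, one_smul]
  have htr : LinearMap.trace ℂ (Alg D) R = 1 := by
    rw [← hone, map_smul, map_sum, smul_eq_mul, classInner]
    congr 1
    refine Finset.sum_congr rfl fun g _ => ?_
    rw [D.trace_lr, D.tau_comm (D.weil _) P, D.tau_pom_weil 1 (hM g.2), D.tau_pom_weil 1 (D.iso.inv_mem (hM g.2))]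
    congr 1
    exact char_apply_inv (D.isCharacter_theta hM 1) g
  have hP0 : P ≠ 0 := by
    intro h
    have h1 := congrFun h (0 : V)
    simp only [P] at h1
    rw [D.pom_one_apply hn, if_pos rfl, cone, if_pos D.nrm_zero, mul_one] at h1
    have h2 : (0 : Alg D) (0 : V) = 0 := rfl
    rw [h2] at h1
    rcases mul_eq_zero.1 h1 with h3 | h3
    · exact inv_ne_zero hne h3
    · rw [sub_eq_zero, eq_comm, inv_eq_one] at h3
      have : (D.q : ℕ) ^ 4 = 1 := by exact_mod_cast h3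
      have h4 := Nat.one_lt_pow (n := 4) (by norm_num) D.two_le
      omega
  have hRP : R P = P := (hRinv P (fun g => (hPW g).symm) rfl).trans hPP
  let a : Alg D := f
  obtain ⟨c, hc⟩ := idem_line R hidem htr hRP hP0 a
  rw [hRinv a (fun g => D.weil_comm_of_fix (hM g.2) (hf.1 _ g.2)) (D.pom_comm_inv 1 (f := a) hf)] at hc
  have hval : ∀ x, (P * a : Alg D) x = ((D.q : ℂ) + 1)⁻¹ *
      (f x - ((D.q : ℂ) ^ 4)⁻¹ * ∑ v, D.cone v * (f (x - v) * D.coc v (x - v))) := by
    intro x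
    rw [D.mul_apply]
    simp only [P, D.pom_one_apply hn, mul_sub, sub_mul, Finset.sum_sub_distrib]
    congr 1
    · rw [Fintype.sum_eq_single (0 : V) fun v hv => by simp [hv]]
      simp [D.coc_zero_left, a]
    · rw [Finset.mul_sum, Finset.mul_sum]
      exact Finset.sum_congr rfl fun v _ => by ring
  have hc0 : c = 0 := by
    have h1 := congrFun hc (0 : V)
    rw [hval, D.smul_apply, hf0] at h1
    have h2 : ∑ v, D.cone v * (f (0 - v) * D.coc v (0 - v)) = 0 := by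
      rw [← hfc]
      refine Fintype.sum_equiv (Equiv.neg V) _ _ fun v => ?_
      rw [Equiv.neg_apply, zero_sub, D.coc_neg_self, cone, cone, D.nrm_neg]
      split_ifs with h
      · rw [h, neg_zero, D.psi_zero, mul_one]
      · ring
    rw [h2, mul_zero, sub_zero, mul_zero] at h1
    rcases mul_eq_zero.1 h1.symm with h3 | h3
    · exact h3
    · exfalso
      rw [show P 0 = _ from D.pom_one_apply hn 0, if_pos rfl, cone, if_pos D.nrm_zero, mul_one] at h3
      rcases mul_eq_zero.1 h3 with h4 | h4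
      · exact inv_ne_zero hne h4
      · rw [sub_eq_zero, eq_comm, inv_eq_one] at h4
        have : (D.q : ℕ) ^ 4 = 1 := by exact_mod_cast h4
        have h5 := Nat.one_lt_pow (n := 4) (by norm_num) D.two_le
        omega
  have h1 := congrFun hc x
  rw [hval, D.smul_apply, hc0, zero_mul, mul_eq_zero, or_iff_right (inv_ne_zero hne), sub_eq_zero] at h1
  rw [h1]
  field_simp

theorem Eig.scaled {M : Subgroup (V ≃ₗ[F] V)} (hE : D.Eig M) {f : V → ℂ} (hf : D.Inv M f) (hf0 : f 0 = 0)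
    (hfc : ∑ v, D.cone v * f v = 0) {N : F} (hN : D.σ N = N) (hN0 : N ≠ 0) (x : V) :
    ∑ v, D.cone v * (f (x - v) * D.psi (N * D.tr (D.xi * D.form v (x - v)))) = (D.q : ℂ) ^ 4 * f x := by
  classical
  obtain ⟨c, hc⟩ := D.exists_norm hN
  have hc0 : c ≠ 0 := fun h => hN0 (by rw [← hc, h, zero_mul])
  have hcone : ∀ v, D.cone (c • v) = D.cone v := fun v => by
    simp only [cone, D.nrm_smul, hc, mul_eq_zero, hN0, false_or]
  have h := hE (fun w => f (c⁻¹ • w)) ⟨fun g hg v => by dsimp only; rw [← map_smul]; exact hf.1 g hg _,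
      fun lam v => by dsimp only; rw [smul_comm]; exact hf.2 lam _⟩
    (by rw [smul_zero]; exact hf0)
    (by
      rw [← hfc, ← sum_smul_comp hc0 (fun v => D.cone v * f (c⁻¹ • v))]
      exact Finset.sum_congr rfl fun v _ => by rw [hcone, smul_smul, inv_mul_cancel₀ hc0, one_smul])
    (c • x)
  rw [← sum_smul_comp hc0] at h
  simp only [← smul_sub, smul_smul, inv_mul_cancel₀ hc0, one_smul, hcone] at h
  rw [← h]
  refine Finset.sum_congr rfl fun v _ => ?_
  rw [D.coc_eq, D.form_smul_left, D.form_smul_right, ← mul_assoc c, hc, mul_left_comm D.xi, D.tr_smul_real hN]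

end Data

end CfsgLib.MaxSub.SU5Quintic
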