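/-
Fourier eigen functions: invariant functions on isotropic and on anisotropic points.
-/
import Cfsg.Agent.Lib.MaxSub.SU5Quintic.OrbitsEigen

set_option autoImplicit false
set_option linter.unusedSectionVars false
set_option linter.style.haveILetI false
set_option maxHeartbeats 1000000

namespace CfsgLib.MaxSub.SU5Quintic

open scoped BigOperators ComplexConjugate

universe u v

namespace Data

variable {F : Type u} [Field F] [Fintype F] {V : Type v} [AddCommGroup V] [Module F V] (D : Data F V) [Fintype V]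
  [DecidableEq V]

open Classical in
/-- The restriction to one level. -/
noncomputable def lev (e : F) (f : V → ℂ) (v : V) : ℂ := if D.nrm v = e then f v else 0

theorem cone_zero : D.cone (0 : V) = 1 := by
  classical
  rw [cone, if_pos D.nrm_zero]

theorem cone_sq (v : V) : D.cone v * D.cone v = D.cone v := by
  classical
  rw [cone]; split_ifs <;> simp

theorem cone_scalInv : ScalInv (F := F) (D.cone : V → ℂ) := by
  classical
  intro c hc v
  simp only [cone, D.nrm_smul, mul_eq_zero, hc, (map_ne_zero D.σ).2 hc, false_or]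

theorem cone_iso {g : V ≃ₗ[F] V} (hg : g ∈ D.iso) (v : V) : D.cone (g v) = D.cone v := by
  classical
  simp only [cone, D.nrm_iso hg]

theorem lev_inv {M : Subgroup (V ≃ₗ[F] V)} (hM : M ≤ D.iso) {f : V → ℂ} (hf : D.Inv M f) (e : F) :
    D.Inv M (D.lev e f) := by
  classical
  exact ⟨fun g hg v => by simp only [lev, D.nrm_iso (hM hg), hf.1 g hg],
    fun lam v => by simp only [lev, D.nrm_smul_circ, hf.2]⟩

theorem lev_zero {e : F} (he : e ≠ 0) (f : V → ℂ) : D.lev e f 0 = 0 := by
  classical
  rw [lev, D.nrm_zero, if_neg (Ne.symm he)]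

theorem cone_lev {e : F} (he : e ≠ 0) (f : V → ℂ) (v : V) : D.cone v * D.lev e f v = 0 := by
  classical
  rw [cone, lev]
  split_ifs with h1 h2
  · exact absurd (h2.symm.trans h1) he
  all_goals simp

/-- Invariant functions on isotropic points are eigen functions of the Fourier transform there. -/
theorem ft_iso_zero {M : Subgroup (V ≃ₗ[F] V)} (hE : D.Eig M) {g : V → ℂ} (hg : PInv M g)
    (hs : ∀ v, g v ≠ 0 → D.nrm v = 0) (hg0 : g 0 = 0) (hsum : ∑ v, g v = 0) {x : V} (hx : D.nrm x = 0) :
    D.ft g x = (D.q : ℂ) ^ 4 * g x := by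
  classical
  have hsum' : ∑ v, D.cone v * g v = 0 := by
    rw [← hsum]
    refine Finset.sum_congr rfl fun v _ => ?_
    rw [cone]
    split_ifs with h
    · rw [one_mul]
    · rw [zero_mul, eq_comm]; by_contra h1; exact h (hs v h1)
  rw [← hE g (PInv.inv D hg) hg0 hsum' x, ← (Equiv.subLeft x).sum_comp]
  let φ : F → ℂ := fun t => if D.tr t = 0 then D.psi (D.tr (D.xi * t)) else 0
  have hφ0 : φ 0 = 1 := by simp [φ, D.tr_zero]
  have hφs : ∑ t, φ t = 0 := D.sum_line_psi (map_zero _)
  have h := D.scal_avg hg.2 x φ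
  rw [hφs, hφ0, zero_div, sub_zero, one_mul, zero_mul, add_zero] at h
  rw [← h]
  refine Finset.sum_congr rfl fun w _ => ?_
  rw [Equiv.subLeft_apply, sub_sub_cancel]
  by_cases hw : g w = 0
  · rw [hw]; ring
  · have hnw : D.form w w = 0 := hs w hw
    simp only [φ, cone, D.nrm_sub, hx, hs w hw, zero_sub, add_zero, neg_eq_zero, D.coc_eq, map_sub,
      LinearMap.sub_apply, hnw, sub_zero]
    split_ifs <;> ring

/-- On one level, an invariant function sees an isotropic vector only through one Fourier value. -/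
theorem level_avg {M : Subgroup (V ≃ₗ[F] V)} (hM : M ≤ D.iso) (hE : D.Eig M) {f : V → ℂ} (hf : D.Inv M f) {e : F}
    (he : D.σ e = e) (he0 : e ≠ 0) {y : V} (hy : D.nrm y = 0) (φ : F → ℂ) :
    ∑ w, D.lev e f w * φ (D.form y w) =
      (φ 0 - (∑ t, φ t) / (D.q : ℂ) ^ 2) * D.ft (D.lev e f) y +
        (∑ t, φ t) / (D.q : ℂ) ^ 2 * ∑ w, D.lev e f w := by
  classical
  set h := D.lev e f with hh
  set A : F → ℂ := fun t => ∑ w, if D.form y w = t then h w else 0 with hA
  have hsupp : ∀ w, h w ≠ 0 → D.nrm w = e := fun w hw => by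
    by_contra h1
    exact hw (by rw [hh, lev, if_neg h1])
  have hfib : ∀ φ : F → ℂ, ∑ w, h w * φ (D.form y w) = ∑ t, A t * φ t := by
    intro φ
    simp only [hA, Finset.sum_mul]
    rw [Finset.sum_comm]
    refine Finset.sum_congr rfl fun w _ => ?_
    simp
  have key : ∀ c : F, ∀ t0 : F, D.tr (c * t0) = e → c ≠ 0 →
      (D.q : ℂ) * A t0 = ∑ t, if D.tr (c * t) = e then A t else 0 := by
    intro c t0 hct hc
    set s := D.tr (D.xi * (c * t0)) - e with hs
    have hsr : D.σ s = s := by rw [hs, map_sub, D.real_tr, he]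
    have hN : ∀ N ∈ D.re, N ≠ 0 →
        ∑ t, (if D.tr (c * t) = e then A t * D.psi (N * (D.tr (D.xi * (c * t)) - e)) else 0) = 0 := by
      intro N hN hN0
      have h1 := hE.scaled D (D.lev_inv hM hf e) (D.lev_zero he0 f)
        (Finset.sum_eq_zero fun v _ => D.cone_lev he0 f v) (D.mem_re.1 hN) hN0 (c • y)
      have h2 : h (c • y) = 0 := by
        by_contra h3
        have := hsupp _ h3
        rw [D.nrm_smul, hy, mul_zero] at this
        exact he0 this.symm
      rw [← hh, h2, mul_zero, ← (Equiv.subLeft (c • y)).sum_comp] at h1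
      refine Eq.trans ?_ h1
      have h4 := hfib fun t => if D.tr (c * t) = e then D.psi (N * (D.tr (D.xi * (c * t)) - e)) else 0
      rw [Finset.sum_congr rfl (g := fun t => A t *
        if D.tr (c * t) = e then D.psi (N * (D.tr (D.xi * (c * t)) - e)) else 0) fun t _ => by split_ifs <;> ring,
        ← h4]
      refine Finset.sum_congr rfl fun w _ => ?_
      rw [Equiv.subLeft_apply, sub_sub_cancel]
      by_cases hw : h w = 0
      · rw [hw]; ring
      · have hnw := hsupp w hw
        have hiff : (e - D.tr (c * D.form y w) = 0) ↔ (D.tr (c * D.form y w) = e) := by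
          rw [sub_eq_zero, eq_comm]
        have hxi : D.tr (D.xi * D.form (c • y - w) w) = D.tr (D.xi * (c * D.form y w)) - e := by
          rw [map_sub, LinearMap.sub_apply, D.form_smul_left, ← nrm, hnw, mul_sub, D.tr_sub, D.tr_xi_real he]
        simp only [cone, D.nrm_sub, D.nrm_smul, hy, mul_zero, hnw, D.form_smul_left, zero_sub,
          neg_add_eq_sub, hiff, hxi]
        split_ifs <;> ring
    have hq : ∑ N ∈ D.re, D.psi (N * -s) *
        ∑ t, (if D.tr (c * t) = e then A t * D.psi (N * (D.tr (D.xi * (c * t)) - e)) else 0) =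
        (D.q : ℂ) * A t0 := by
      simp only [Finset.mul_sum]
      rw [Finset.sum_comm, Fintype.sum_eq_single t0]
      · simp only [if_pos hct, ← hs]
        have : ∀ N : F, D.psi (N * -s) * (A t0 * D.psi (N * s)) = A t0 := fun N => by
          rw [mul_left_comm, ← D.psi_add, mul_neg, neg_add_cancel, D.psi_zero, mul_one]
        simp only [this, Finset.sum_const, nsmul_eq_mul, D.card_re]
      · intro t ht
        split_ifs with h5
        · have h6 : D.tr (D.xi * (c * t)) - e + -s ≠ 0 := fun h7 => ht (by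
            refine mul_left_cancel₀ hc (D.eq_of_tr_eq (h5.trans hct.symm) ?_)
            rw [hs] at h7
            linear_combination h7)
          rw [Finset.sum_congr rfl (g := fun N => A t * D.psi (N * (D.tr (D.xi * (c * t)) - e + -s)))
            fun N _ => by rw [mul_left_comm, ← D.psi_add, ← mul_add, add_comm], ← Finset.mul_sum,
            D.sum_re_psi (by rw [map_add, map_sub, map_neg, D.real_tr, he, hsr]), if_neg h6, mul_zero]
        · simp
    rw [← hq, ← Finset.add_sum_erase _ _ D.zero_mem_re,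
      Finset.sum_eq_zero (s := D.re.erase 0) fun N hN' => by
        rw [hN N (Finset.mem_of_mem_erase hN') (Finset.ne_of_mem_erase hN'), mul_zero]]
    simp only [zero_mul, D.psi_zero, one_mul, mul_one, add_zero]
  have hq0 : (D.q : ℂ) ≠ 0 := Nat.cast_ne_zero.2 (by have := D.two_le; omega)
  have hpair : ∀ t t' : F, t ≠ 0 → t' ≠ 0 → D.σ (t' / t) ≠ t' / t → A t = A t' := by
    intro t t' ht ht' hr
    obtain ⟨r, hrdef⟩ : ∃ r : F, r = t' / t := ⟨_, rfl⟩
    rw [← hrdef] at hr
    have hd : r - D.σ r ≠ 0 := sub_ne_zero.2 (Ne.symm hr)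
    have hd' : D.σ r - r ≠ 0 := sub_ne_zero.2 hr
    have hσr : (1 : F) - D.σ r ≠ 0 := fun h1 => hr (by
      have h2 : D.σ r = 1 := (sub_eq_zero.1 h1).symm
      have h3 := congrArg D.σ h2
      rw [D.σσ, map_one] at h3
      rw [h2, h3])
    set z := e * (1 - D.σ r) / (r - D.σ r) with hz
    have hz0 : z ≠ 0 := div_ne_zero (mul_ne_zero he0 hσr) hd
    have h1 : D.tr (z / t * t) = e := by
      rw [div_mul_cancel₀ _ ht, hz, tr, map_div₀, map_mul, map_sub, map_sub, map_one, D.σσ, he]
      field_simp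
      ring
    have h2 : D.tr (z / t * t') = e := by
      rw [show z / t * t' = z * r by rw [hrdef]; field_simp, hz, tr, map_mul, map_div₀, map_mul, map_sub, map_sub,
        map_one, D.σσ, he]
      field_simp
      ring
    exact mul_left_cancel₀ hq0 ((key _ t h1 (div_ne_zero hz0 ht)).trans (key _ t' h2 (div_ne_zero hz0 ht)).symm)
  have hconst : ∀ t : F, t ≠ 0 → A t = A 1 := by
    intro t ht
    by_cases hr : D.σ t = t
    · have hxi : D.xi ≠ 0 := fun h1 => D.xi_ne (by rw [h1, map_zero])
      refine (hpair t (t * D.xi) ht (mul_ne_zero ht hxi) ?_).trans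
        (hpair 1 (t * D.xi) one_ne_zero (mul_ne_zero ht hxi) ?_).symm
      · rw [mul_div_cancel_left₀ _ ht]; exact D.xi_ne
      · rw [div_one, map_mul, hr]
        exact fun h1 => D.xi_ne (mul_left_cancel₀ ht h1)
    · exact (hpair 1 t one_ne_zero ht (by rwa [div_one])).symm
  have hgen : ∀ φ : F → ℂ, ∑ w, h w * φ (D.form y w) = A 0 * φ 0 + A 1 * (∑ t, φ t - φ 0) := by
    intro φ
    rw [hfib, ← Finset.add_sum_erase _ _ (Finset.mem_univ (0 : F)),
      Finset.sum_congr rfl fun t ht => by rw [hconst t (Finset.ne_of_mem_erase ht)], ← Finset.mul_sum,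
      Finset.sum_erase_eq_sub (Finset.mem_univ _)]
  have hft : D.ft h y = A 0 - A 1 := by
    have h1 := hgen fun t => D.psi (D.tr t)
    rw [D.sum_psiT, D.tr_zero, D.psi_zero] at h1
    rw [show D.ft h y = ∑ w, h w * D.psi (D.tr (D.form y w)) from
      Finset.sum_congr rfl fun w _ => mul_comm _ _, h1]
    ring
  have hsum : ∑ w, h w = A 0 + A 1 * ((D.q : ℂ) ^ 2 - 1) := by
    have h1 := hgen fun _ => 1
    simp only [mul_one, Finset.sum_const, Finset.card_univ, D.card_F, nsmul_eq_mul, Nat.cast_pow] at h1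
    exact h1
  rw [hgen, hft, hsum]
  field_simp
  ring

open Classical in
/-- The anisotropic part. -/
noncomputable def ani (f : V → ℂ) (v : V) : ℂ := if D.nrm v = 0 then 0 else f v

theorem sum_lev_eq {u : V → ℂ} (hu : ScalInv (F := F) u) {e e' : F} (he : D.σ e = e) (he' : D.σ e' = e')
    (h0 : e ≠ 0) (h0' : e' ≠ 0) : ∑ w, D.lev e u w = ∑ w, D.lev e' u w := by
  classical
  obtain ⟨c, hc⟩ := D.exists_norm (c := e / e') (by rw [map_div₀, he, he'])
  have hc0 : c ≠ 0 := fun h => div_ne_zero h0 h0' (by rw [← hc, h, zero_mul])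
  rw [← sum_smul_comp hc0 (fun w => D.lev e u w)]
  refine Finset.sum_congr rfl fun w _ => ?_
  simp only [lev, D.nrm_smul, hc, hu c hc0]
  have hiff : e / e' * D.nrm w = e ↔ D.nrm w = e' := by
    refine ⟨fun h => mul_left_cancel₀ (div_ne_zero h0 h0') (h.trans (div_mul_cancel₀ _ h0').symm), fun h => ?_⟩
    rw [h, div_mul_cancel₀ _ h0']
  simp only [hiff]

theorem sum_ani {u : V → ℂ} (hu : ScalInv (F := F) u) {e : F} (he : D.σ e = e) (h0 : e ≠ 0) :
    ∑ w, D.ani u w = ((D.q : ℂ) - 1) * ∑ w, D.lev e u w := by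
  classical
  have h1 : ∀ w, D.ani u w = ∑ e' ∈ D.re.erase 0, D.lev e' u w := by
    intro w
    simp only [ani, lev, Finset.sum_ite_eq, Finset.mem_erase, D.mem_re.2 (D.real_nrm w), and_true]
    split_ifs <;> simp_all
  rw [Finset.sum_congr rfl fun w _ => h1 w, Finset.sum_comm, Finset.sum_congr rfl fun e' he' =>
    D.sum_lev_eq hu (D.mem_re.1 (Finset.mem_of_mem_erase he')) he (Finset.ne_of_mem_erase he') h0,
    Finset.sum_const, Finset.card_erase_of_mem D.zero_mem_re, D.card_re, nsmul_eq_mul,
    Nat.cast_sub (by have := D.two_le; omega), Nat.cast_one]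

/-- All levels have the same Fourier value at an isotropic vector. -/
theorem ft_lev_iso {M : Subgroup (V ≃ₗ[F] V)} (hM : M ≤ D.iso) (hE : D.Eig M) {f : V → ℂ} (hf : PInv M f) {e : F}
    (he : D.σ e = e) (he0 : e ≠ 0) {y : V} (hy : D.nrm y = 0) :
    ((D.q : ℂ) - 1) * D.ft (D.lev e f) y = D.ft (D.ani f) y := by
  classical
  let u : V → ℂ := fun w => if D.form y w = 0 then f w else 0
  have hu : ScalInv (F := F) u := fun c hc w => by
    simp only [u, D.form_smul_right, mul_eq_zero, (map_ne_zero D.σ).2 hc, false_or, hf.2 c hc]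
  have hq : (D.q : ℂ) ≠ 0 := Nat.cast_ne_zero.2 (by have := D.two_le; omega)
  have hq1 : (1 - 1 / (D.q : ℂ) ^ 2) ≠ 0 := by
    rw [sub_ne_zero]
    intro h
    rw [eq_comm, div_eq_one_iff_eq (pow_ne_zero _ hq)] at h
    have := Nat.one_lt_pow two_ne_zero D.two_le
    have h2 : (D.q : ℕ) ^ 2 = 1 := by exact_mod_cast h.symm
    omega
  have hconst : ∀ e' : F, D.σ e' = e' → e' ≠ 0 → D.ft (D.lev e' f) y = D.ft (D.lev e f) y := by
    intro e' he' he'0
    have h : ∀ a : F, D.σ a = a → a ≠ 0 → ∑ w, D.lev a u w =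
        (1 - 1 / (D.q : ℂ) ^ 2) * D.ft (D.lev a f) y + 1 / (D.q : ℂ) ^ 2 * ∑ w, D.lev a f w := by
      intro a ha ha0
      have h1 := D.level_avg hM hE (PInv.inv D hf) ha ha0 hy fun t => if t = 0 then 1 else 0
      simp only [Finset.sum_ite_eq', Finset.mem_univ, if_true] at h1
      rw [← h1]
      exact Finset.sum_congr rfl fun w _ => by simp only [lev, u]; split_ifs <;> ring
    refine mul_left_cancel₀ hq1 ?_
    linear_combination D.sum_lev_eq hu he' he he'0 he0 - h e' he' he'0 + h e he he0 -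
      1 / (D.q : ℂ) ^ 2 * D.sum_lev_eq hf.2 he' he he'0 he0
  have h1 : ∀ w, D.ani f w = ∑ e' ∈ D.re.erase 0, D.lev e' f w := by
    intro w
    simp only [ani, lev, Finset.sum_ite_eq, Finset.mem_erase, D.mem_re.2 (D.real_nrm w), and_true]
    split_ifs <;> simp_all
  symm
  rw [ft_apply, Finset.sum_congr rfl fun w _ => by rw [h1, Finset.mul_sum], Finset.sum_comm]
  simp only [← ft_apply]
  rw [Finset.sum_congr rfl (g := fun _ => D.ft (D.lev e f) y) fun e' he' =>
      hconst e' (D.mem_re.1 (Finset.mem_of_mem_erase he')) (Finset.ne_of_mem_erase he'),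
    Finset.sum_const, Finset.card_erase_of_mem D.zero_mem_re, D.card_re, nsmul_eq_mul,
    Nat.cast_sub (by have := D.two_le; omega), Nat.cast_one]

/-- The isotropic part of a Fourier transform. -/
noncomputable def coneFt (f : V → ℂ) (v : V) : ℂ := D.cone v * D.ft f v

/-- Invariant functions on anisotropic points of sum zero are eigen functions of the Fourier transform there. -/
theorem ft_ani_zero (hn : Module.finrank F V = 5) {M : Subgroup (V ≃ₗ[F] V)} (hM : M ≤ D.iso) (hE : D.Eig M)
    {f : V → ℂ} (hf : PInv M f) (hs : ∀ v, f v ≠ 0 → D.nrm v ≠ 0) (hsum : ∑ v, f v = 0) {x : V}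
    (hx : D.nrm x ≠ 0) : D.ft f x = -(D.q : ℂ) ^ 4 * f x := by
  classical
  have hq : (D.q : ℂ) ≠ 0 := Nat.cast_ne_zero.2 (by have := D.two_le; omega)
  have hq2 : ((D.q : ℂ) ^ 2 - 1) ≠ 0 := by
    rw [sub_ne_zero]
    exact_mod_cast (Nat.one_lt_pow two_ne_zero D.two_le).ne'
  have hq1 : ((D.q : ℂ) - 1) ≠ 0 := by
    rw [sub_ne_zero]
    exact_mod_cast (by have := D.two_le; omega : D.q ≠ 1)
  have hani : D.ani f = f := funext fun v => by
    rw [ani]; split_ifs with h
    · by_contra h1; exact hs v (Ne.symm h1) h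
    · rfl
  have hlevsum : ∀ e : F, D.σ e = e → e ≠ 0 → ∑ w, D.lev e f w = 0 := by
    intro e he he0
    have h := D.sum_ani hf.2 he he0
    rw [hani, hsum, eq_comm, mul_eq_zero] at h
    exact h.resolve_left hq1
  set G := D.coneFt f with hG
  have hGP : PInv M G := ⟨fun g hg v => by rw [hG, coneFt, coneFt, D.cone_iso (hM hg), (D.ft_pinv hM hf).1 g hg],
    fun c hc v => by rw [hG, coneFt, coneFt, D.cone_scalInv c hc, (D.ft_pinv hM hf).2 c hc]⟩
  have hG0 : G 0 = 0 := by rw [hG, coneFt, D.cone_zero, one_mul, D.ft_zero, hsum]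
  have hcf : ∑ v, D.cone v * f v = 0 := Finset.sum_eq_zero fun v _ => by
    rw [cone]; split_ifs with h
    · by_contra h1; exact hs v (fun h2 => h1 (by rw [h2, mul_zero])) h
    · rw [zero_mul]
  have hGsum : ∑ v, G v = 0 := by
    rw [hG]
    simp only [coneFt]
    rw [D.ft_duality]
    have hf0 : f 0 = 0 := by by_contra h; exact hs 0 h D.nrm_zero
    have hterm : ∀ v, f v * D.ft D.cone v =
        (D.q : ℂ) ^ 4 * f v - (D.q : ℂ) ^ 5 * (D.cone v * f v) := fun v => by
      rw [D.ft_cone hn]
      split_ifs with h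
      · rw [h, hf0]; ring
      · ring
    rw [Finset.sum_congr rfl fun v _ => hterm v, Finset.sum_sub_distrib, ← Finset.mul_sum, ← Finset.mul_sum, hsum,
      hcf, mul_zero, mul_zero, sub_zero]
  -- the perpendicular sum on one level
  have hPP : ∀ z : V, D.nrm z ≠ 0 →
      D.ft f z = -((D.q : ℂ) ^ 4 * ((D.q : ℂ) ^ 2 - 1))⁻¹ * D.ft G z := by
    intro z hz
    set e := -D.nrm z with hedef
    have he : D.σ e = e := by rw [hedef, map_neg, D.real_nrm]
    have he0 : e ≠ 0 := neg_ne_zero.2 hz
    set h := D.lev e f with hh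
    have hsupp : ∀ w, h w ≠ 0 → D.nrm w = e := fun w hw => by
      by_contra h1
      exact hw (by rw [hh, lev, if_neg h1])
    set P := ∑ w, (if D.form z w = 0 then h w else 0)
    set T := ∑ w, D.cone (z - w) * h w
    have hterm : ∀ N ∈ D.re, ∀ w, D.cone (z - w) *
        (h w * D.psi (N * D.tr (D.xi * D.form (z - w) w))) * D.psi (N * -D.nrm z) =
        if D.tr (D.form z w) = 0 then h w * D.psi (N * D.tr (D.xi * D.form z w)) else 0 := by
      intro N _ w
      by_cases hw : h w = 0
      · rw [hw]; simp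
      · have hnw := hsupp w hw
        have hxi : D.tr (D.xi * D.form (z - w) w) = D.tr (D.xi * D.form z w) + D.nrm z := by
          rw [map_sub, LinearMap.sub_apply, ← nrm, hnw, mul_sub, D.tr_sub, D.tr_xi_real he, hedef, sub_neg_eq_add]
        have hiff : (D.nrm z - D.tr (D.form z w) + -D.nrm z = 0) ↔ D.tr (D.form z w) = 0 := by
          rw [sub_add_eq_add_sub, add_neg_cancel, zero_sub, neg_eq_zero]
        simp only [cone, D.nrm_sub, hnw, hedef, hxi, hiff]
        split_ifs
        · rw [one_mul, mul_assoc, ← D.psi_add]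
          congr 2
          ring
        · ring
    have hqP : (D.q : ℂ) * P = T - (D.q : ℂ) ^ 4 * h z := by
      have h1 : ∀ N ∈ D.re.erase 0, ∑ w, D.cone (z - w) * (h w * D.psi (N * D.tr (D.xi * D.form (z - w) w))) =
          (D.q : ℂ) ^ 4 * h z := by
        intro N hN
        rw [← hE.scaled D (D.lev_inv hM (PInv.inv D hf) e) (D.lev_zero he0 f)
          (Finset.sum_eq_zero fun v _ => D.cone_lev he0 f v) (D.mem_re.1 (Finset.mem_of_mem_erase hN))
          (Finset.ne_of_mem_erase hN) z, ← (Equiv.subLeft z).sum_comp]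
        exact Finset.sum_congr rfl fun w _ => by rw [Equiv.subLeft_apply, sub_sub_cancel]
      have h2 : ∑ N ∈ D.re, (∑ w, D.cone (z - w) * (h w * D.psi (N * D.tr (D.xi * D.form (z - w) w)))) *
          D.psi (N * -D.nrm z) = (D.q : ℂ) * P := by
        simp only [Finset.sum_mul]
        rw [Finset.sum_congr rfl fun N hN => Finset.sum_congr rfl fun w _ => hterm N hN w, Finset.sum_comm,
          Finset.mul_sum]
        refine Finset.sum_congr rfl fun w _ => ?_
        by_cases ht : D.tr (D.form z w) = 0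
        · simp only [if_pos ht, ← Finset.mul_sum, D.sum_re_psi (D.real_tr _)]
          have hiff : D.tr (D.xi * D.form z w) = 0 ↔ D.form z w = 0 :=
            ⟨fun h3 => D.eq_of_tr_eq (by rw [ht, D.tr_zero]) (by rw [h3, mul_zero, D.tr_zero]),
              fun h3 => by rw [h3, mul_zero, D.tr_zero]⟩
          simp only [hiff]
          split_ifs <;> ring
        · have hne : D.form z w ≠ 0 := fun h3 => ht (by rw [h3, D.tr_zero])
          simp [ht, hne]
      rw [← h2, ← Finset.add_sum_erase _ _ D.zero_mem_re,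
        Finset.sum_congr (s₁ := D.re.erase 0) rfl fun N hN => by rw [h1 N hN], ← Finset.mul_sum,
        D.sum_re_psi_erase (by rw [map_neg, D.real_nrm]), if_neg (neg_ne_zero.2 hz)]
      simp only [zero_mul, D.psi_zero, mul_one, T]
      ring
    have hT : (D.q : ℂ) ^ 10 * T = (D.q : ℂ) ^ 14 * h z - (D.q : ℂ) ^ 5 / ((D.q : ℂ) - 1) * D.ft G z := by
      have h1 : (D.q : ℂ) ^ 10 * T = ∑ y, D.ft D.cone y * (D.chi (-z) y * D.ft h y) := by
        rw [Finset.mul_sum]
        have h2 : ∀ w, (D.q : ℂ) ^ 10 * (D.cone (z - w) * h w) = D.ft (D.ft D.cone) (w - z) * h w := fun w => by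
          rw [D.ft_ft, D.card_V hn, neg_sub]; ring
        rw [Finset.sum_congr rfl fun w _ => h2 w]
        simp only [ft_apply, Finset.sum_mul, Finset.mul_sum]
        rw [Finset.sum_comm]
        refine Finset.sum_congr rfl fun y _ => ?_
        refine Finset.sum_congr rfl fun v _ => Finset.sum_congr rfl fun w _ => ?_
        rw [D.chi_comm (v - z) y, sub_eq_add_neg v, D.chi_add_right, D.chi_comm (-z) y]
        ring
      have h3 : ∀ y, D.ft D.cone y * (D.chi (-z) y * D.ft h y) =
          (D.q : ℂ) ^ 4 * (D.chi (-z) y * D.ft h y) -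
            (D.q : ℂ) ^ 5 / ((D.q : ℂ) - 1) * (D.chi (-z) y * G y) := by
        intro y
        rw [D.ft_cone hn]
        by_cases hy : y = 0
        · subst hy
          rw [D.ft_zero, hlevsum e he he0, hG0]
          ring
        · rw [if_neg hy, hG, coneFt]
          by_cases hy2 : D.nrm y = 0
          · have := D.ft_lev_iso hM hE hf he he0 hy2
            rw [hani] at this
            rw [cone, if_pos hy2, ← this, hh]
            field_simp
            ring
          · rw [cone, if_neg hy2]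
            ring
      rw [h1, Finset.sum_congr rfl fun y _ => h3 y, Finset.sum_sub_distrib, ← Finset.mul_sum, ← Finset.mul_sum,
        ← ft_apply, ← ft_apply, D.ft_ft, D.card_V hn, neg_neg, (D.ft_scalInv hGP.2).even]
      ring
    have hu : ScalInv (F := F) fun w => if D.form z w = 0 then f w else 0 := fun c hc w => by
      simp only [D.form_smul_right, mul_eq_zero, (map_ne_zero D.σ).2 hc, false_or, hf.2 c hc]
    have hA := D.scal_avg hf.2 z fun t => if t = 0 then 1 else 0
    simp only [Finset.sum_ite_eq', Finset.mem_univ, if_true, hsum, mul_zero, add_zero] at hA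
    have hAP : ∑ w, f w * (if D.form z w = 0 then 1 else 0) = ((D.q : ℂ) - 1) * P := by
      have h4 := D.sum_ani hu he he0
      rw [show P = ∑ w, D.lev e (fun w => if D.form z w = 0 then f w else 0) w from
        Finset.sum_congr rfl fun w _ => by simp only [hh, lev]; split_ifs <;> rfl, ← h4]
      refine Finset.sum_congr rfl fun w _ => ?_
      simp only [ani]
      split_ifs with h5 h6 h6
      · by_contra h7
        exact hs w (fun h8 => h7 (by rw [h8]; ring)) h6
      all_goals ring
    rw [hAP] at hA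
    field_simp at hA hT
    field_simp
    linear_combination -(D.q : ℂ) ^ 4 * hA + hT + (D.q : ℂ) ^ 5 * ((D.q : ℂ) - 1) * hqP
  have hdecomp : ∀ y, D.ft f y = G y +
      -((D.q : ℂ) ^ 4 * ((D.q : ℂ) ^ 2 - 1))⁻¹ * D.ani (D.ft G) y := by
    intro y
    rw [hG, coneFt, ani, cone]
    split_ifs with h
    · ring
    · rw [hPP y h, hG]; ring
  have hR : ∀ y, D.ani (D.ft G) y = D.ft G y - (D.q : ℂ) ^ 4 * G y := by
    intro y
    rw [ani]
    split_ifs with h
    · rw [D.ft_iso_zero hE hGP (fun v hv => ?_) hG0 hGsum h]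
      · ring
      · by_contra h1
        exact hv (by rw [hG, coneFt, cone, if_neg h1, zero_mul])
    · rw [show G y = 0 by rw [hG, coneFt, cone, if_neg h, zero_mul]]
      ring
  have hG2 : D.ft (D.ft G) x = 0 := by
    rw [D.ft_ft, hG, coneFt, cone, D.nrm_neg, if_neg hx, zero_mul, mul_zero]
  have h1 : D.ft (D.ft f) x = (D.q : ℂ) ^ 10 * f x := by
    rw [D.ft_ft, D.card_V hn, hf.2.even]
  rw [show D.ft f = fun y => G y + -((D.q : ℂ) ^ 4 * ((D.q : ℂ) ^ 2 - 1))⁻¹ *
    (D.ft G y - (D.q : ℂ) ^ 4 * G y) from funext fun y => by rw [hdecomp, hR], D.ft_add, D.ft_smul, D.ft_sub,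
    D.ft_smul, hG2] at h1
  rw [hPP x hx]
  field_simp at h1
  have h3 : D.ft G x = (D.q : ℂ) ^ 8 * ((D.q : ℂ) ^ 2 - 1) * f x :=
    mul_left_cancel₀ (pow_ne_zero 6 hq) (by linear_combination h1)
  rw [h3]
  field_simp

end Data

end CfsgLib.MaxSub.SU5Quintic
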