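/-
Counting the orbits: at most two point orbits of each kind.
-/
import Cfsg.Agent.Lib.MaxSub.SU5Quintic.OrbitsLevel

set_option autoImplicit false
set_option linter.unusedSectionVars false
set_option linter.style.haveILetI false
set_option maxHeartbeats 1000000

namespace CfsgLib.MaxSub.SU5Quintic

open scoped BigOperators ComplexConjugate
open Cfsg CfsgLib.CharTheory

universe u v w

namespace Data

variable {F : Type u} [Field F] [Fintype F] {V : Type v} [AddCommGroup V] [Module F V] (D : Data F V) [Fintype V]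
  [DecidableEq V]

theorem circ_char_conj (om : D.circ →* ℂˣ) (b : D.circ) : conj ((om b : ℂˣ) : ℂ) = ((om b : ℂˣ) : ℂ)⁻¹ := by
  rw [← char_apply_inv (isCharacter_of_irr (isIrrCharacter_linear om)) b, map_inv, Units.val_inv_eq_inv_val]

instance finite_dual : Finite (D.circ →* ℂˣ) := by
  obtain ⟨e⟩ := CommGroup.monoidHom_mulEquiv_of_hasEnoughRootsOfUnity D.circ ℂ
  exact Finite.of_equiv _ e.symm.toEquiv

noncomputable instance fintype_dual : Fintype (D.circ →* ℂˣ) := Fintype.ofFinite _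

theorem card_dual : Fintype.card (D.circ →* ℂˣ) = D.q + 1 := by
  classical
  obtain ⟨e⟩ := CommGroup.monoidHom_mulEquiv_of_hasEnoughRootsOfUnity D.circ ℂ
  rw [Fintype.card_congr e.toEquiv, D.card_circ]

open Classical in
theorem sum_dual (a : D.circ) :
    ∑ om : D.circ →* ℂˣ, ((om a : ℂˣ) : ℂ) = if a = 1 then ((D.q : ℂ) + 1) else 0 := by
  split_ifs with h
  · subst h
    simp [D.card_dual]
  · obtain ⟨φ, hφ⟩ := CommGroup.exists_apply_ne_one_of_hasEnoughRootsOfUnity D.circ ℂ h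
    have key : ((φ a : ℂˣ) : ℂ) * ∑ om : D.circ →* ℂˣ, ((om a : ℂˣ) : ℂ) =
        ∑ om : D.circ →* ℂˣ, ((om a : ℂˣ) : ℂ) := by
      rw [Finset.mul_sum]
      exact Fintype.sum_equiv (Equiv.mulLeft φ) _ _ fun om => by simp
    by_contra h0
    exact hφ (Units.ext (by rw [Units.val_one, ← mul_eq_right₀ h0]; exact key))

theorem conj_weilFn (g : V ≃ₗ[F] V) : conj (D.weilFn g) = D.weilFn g := by
  simp [weilFn]

open Classical in
/-- Plancherel on the scalars of norm one. -/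
theorem sum_theta_sq (g : V ≃ₗ[F] V) :
    ((D.q : ℂ) + 1) * ∑ om : D.circ →* ℂˣ, D.theta om g * conj (D.theta om g) =
      ∑ lam : D.circ, D.weilFn (scal (lam : Fˣ) * g) * D.weilFn (scal (lam : Fˣ) * g) := by
  have hne : ((D.q : ℂ) + 1) ≠ 0 := Nat.cast_add_one_ne_zero D.q
  have h1 : ∀ om : D.circ →* ℂˣ, D.theta om g * conj (D.theta om g) = ((D.q : ℂ) + 1)⁻¹ ^ 2 *
      ∑ a : D.circ, ∑ b : D.circ, ((om (a⁻¹ * b) : ℂˣ) : ℂ) *
        (D.weilFn (scal (a : Fˣ) * g) * D.weilFn (scal (b : Fˣ) * g)) := by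
    intro om
    rw [theta, map_mul, map_sum, map_inv₀, map_add, map_one, Complex.conj_natCast]
    simp only [map_mul, map_inv₀, D.circ_char_conj, inv_inv, D.conj_weilFn]
    rw [mul_mul_mul_comm, ← sq, Finset.sum_mul_sum]
    refine congrArg _ (Finset.sum_congr rfl fun a _ => Finset.sum_congr rfl fun b _ => ?_)
    rw [map_inv, Units.val_mul, Units.val_inv_eq_inv_val]
    ring
  rw [Finset.sum_congr rfl fun om _ => h1 om, ← Finset.mul_sum, Finset.sum_comm,
    Finset.sum_congr rfl fun a _ => Finset.sum_comm]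
  simp only [← Finset.sum_mul, D.sum_dual, inv_mul_eq_one, ite_mul, zero_mul, Finset.sum_ite_eq, Finset.mem_univ,
    if_true, ← Finset.mul_sum]
  field_simp

theorem weilFn_sq (g : V ≃ₗ[F] V) :
    D.weilFn g * D.weilFn g = (Nat.card {x : V // g x = x} : ℂ) := by
  classical
  have h1 : Nat.card {x : V // g x = x} = Nat.card (LinearMap.ker (g.toLinearMap - LinearMap.id)) :=
    Nat.card_congr (Equiv.subtypeEquivRight fun x => by simp [LinearMap.mem_ker, sub_eq_zero])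
  rw [h1, Nat.card_eq_fintype_card, Module.card_eq_pow_finrank (K := F), D.card_F, weilFn]
  push_cast
  rw [mul_mul_mul_comm, ← pow_add, ← pow_add, ← two_mul, ← two_mul, pow_mul, pow_mul, neg_sq, neg_sq, one_pow,
    one_pow, one_mul]

/-- The hypothesis on the pieces. -/
def Pieces2 (M : Subgroup (V ≃ₗ[F] V)) [Fintype M] : Prop :=
  classInner (fun g : M => D.theta 1 (g : V ≃ₗ[F] V)) (fun g : M => D.theta 1 (g : V ≃ₗ[F] V)) = 1 ∧
  ∀ om : D.circ →* ℂˣ, om ≠ 1 →
    classInner (fun g : M => D.theta om (g : V ≃ₗ[F] V)) (fun g : M => D.theta om (g : V ≃ₗ[F] V)) = 1 ∨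
    (classInner (fun g : M => D.theta om (g : V ≃ₗ[F] V)) (fun g : M => D.theta om (g : V ≃ₗ[F] V)) = 2 ∧
      ∃ eta : M →* ℂˣ, classInner (fun g : M => D.theta om (g : V ≃ₗ[F] V)) (fun g : M => (eta g : ℂ)) = 1)

/-- Inequivalent vectors under the group and the scalars of norm one: at most `2 q + 1` of them. -/
theorem reps_le {M : Subgroup (V ≃ₗ[F] V)} [Fintype M] (hP : D.Pieces2 M) {ι : Type w} [Fintype ι]
    (r : ι → V) (hinj : ∀ i j, ∀ (lam : D.circ) (g : M), r j = ((lam : Fˣ) : F) • (g : V ≃ₗ[F] V) (r i) → i = j) :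
    Fintype.card ι ≤ 2 * D.q + 1 ∧ (Fintype.card ι = 2 * D.q + 1 →
      (∀ w, ∃ i, ∃ (lam : D.circ) (g : M), w = ((lam : Fˣ) : F) • (g : V ≃ₗ[F] V) (r i)) ∧
      ∃ om : D.circ →* ℂˣ, om ≠ 1 ∧ ∃ eta : M →* ℂˣ,
        classInner (fun g : M => D.theta om (g : V ≃ₗ[F] V)) (fun g : M => (eta g : ℂ)) = 1) := by
  classical
  let Φ : D.circ × M →* (V ≃ₗ[F] V) :=
    { toFun := fun p => scal (p.1 : Fˣ) * (p.2 : V ≃ₗ[F] V)
      map_one' := by simp [scal_one]
      map_mul' := fun a b => by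
        rw [Prod.fst_mul, Prod.snd_mul, Subgroup.coe_mul, Subgroup.coe_mul, scal_mul, mul_assoc, mul_assoc]
        congr 1
        rw [← mul_assoc, scal_comm, mul_assoc] }
  letI : MulAction (D.circ × M) V := MulAction.compHom V Φ
  have hsmul : ∀ (p : D.circ × M) (x : V), p • x = ((p.1 : Fˣ) : F) • (p.2 : V ≃ₗ[F] V) x := fun p x => rfl
  let Ω := Quotient (MulAction.orbitRel (D.circ × M) V)
  have hfix : ∀ p : D.circ × M, (Fintype.card (MulAction.fixedBy V p) : ℂ) = D.weilFn (Φ p) * D.weilFn (Φ p) := by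
    intro p
    rw [D.weilFn_sq, ← Nat.card_eq_fintype_card]
    exact congrArg _ (Nat.card_congr (Equiv.subtypeEquivRight fun x => Iff.rfl))
  let nm : (D.circ →* ℂˣ) → ℂ := fun om =>
    classInner (fun g : M => D.theta om (g : V ≃ₗ[F] V)) (fun g : M => D.theta om (g : V ≃ₗ[F] V))
  have hΩ : (Fintype.card Ω : ℂ) = ∑ om : D.circ →* ℂˣ, nm om := by
    have hb : ((∑ p : D.circ × M, Fintype.card (MulAction.fixedBy V p) : ℕ) : ℂ) =
        ((Fintype.card Ω * Fintype.card (D.circ × M) : ℕ) : ℂ) :=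
      congrArg _ (MulAction.sum_card_fixedBy_eq_card_orbits_mul_card_group (D.circ × M) V)
    rw [Nat.cast_sum, Finset.sum_congr rfl fun p _ => hfix p, Fintype.sum_prod_type_right,
      Fintype.card_prod, D.card_circ, Nat.cast_mul, Nat.cast_mul] at hb
    have h2 : ∀ g : M, ∑ lam : D.circ, D.weilFn (Φ (lam, g)) * D.weilFn (Φ (lam, g)) =
        ((D.q : ℂ) + 1) * ∑ om : D.circ →* ℂˣ, D.theta om (g : V ≃ₗ[F] V) * conj (D.theta om (g : V ≃ₗ[F] V)) :=
      fun g => by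
        rw [D.sum_theta_sq]
        rfl
    rw [Finset.sum_congr rfl fun g _ => h2 g, ← Finset.mul_sum, Finset.sum_comm] at hb
    have hne : ((D.q : ℂ) + 1) ≠ 0 := Nat.cast_add_one_ne_zero D.q
    have hcard : (Nat.card M : ℂ) ≠ 0 := Nat.cast_ne_zero.2 Nat.card_pos.ne'
    simp only [nm, classInner, ← Finset.mul_sum]
    rw [← Nat.card_eq_fintype_card (α := M)] at hb
    push_cast at hb
    refine mul_left_cancel₀ hcard ?_
    rw [← mul_assoc, mul_inv_cancel₀ hcard, one_mul]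
    refine mul_left_cancel₀ hne ?_
    linear_combination -hb
  have hbound : ∀ om : D.circ →* ℂˣ, ∃ n : ℕ, nm om = n ∧ n ≤ (if om = 1 then 1 else 2) ∧
      (2 ≤ n → om ≠ 1 ∧ ∃ eta : M →* ℂˣ,
        classInner (fun g : M => D.theta om (g : V ≃ₗ[F] V)) (fun g : M => (eta g : ℂ)) = 1) := by
    intro om
    by_cases h : om = 1
    · subst h
      exact ⟨1, by simpa [nm] using hP.1, by simp, fun h2 => by omega⟩
    · rcases hP.2 om h with h1 | ⟨h1, h2⟩
      · exact ⟨1, by simpa [nm] using h1, by simp [h], fun h2 => by omega⟩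
      · exact ⟨2, by simpa [nm] using h1, by simp [h], fun _ => ⟨h, h2⟩⟩
  choose n hn hle htwo using hbound
  have hΩn : Fintype.card Ω = ∑ om : D.circ →* ℂˣ, n om := by
    have : (Fintype.card Ω : ℂ) = ((∑ om : D.circ →* ℂˣ, n om : ℕ) : ℂ) := by
      rw [hΩ, Nat.cast_sum]; exact Finset.sum_congr rfl fun om _ => hn om
    exact_mod_cast this
  have htot : ∑ om : D.circ →* ℂˣ, (if om = 1 then 1 else 2) = 2 * D.q + 1 := by
    rw [← Finset.add_sum_erase _ _ (Finset.mem_univ (1 : D.circ →* ℂˣ)), if_pos rfl,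
      Finset.sum_congr rfl (g := fun _ => 2) fun om h => if_neg (Finset.ne_of_mem_erase h), Finset.sum_const,
      Finset.card_erase_of_mem (Finset.mem_univ _), Finset.card_univ, D.card_dual, smul_eq_mul]
    omega
  let q' : ι → Ω := fun i => Quotient.mk _ (r i)
  have hqinj : Function.Injective q' := by
    intro i j hij
    obtain ⟨p, hp⟩ := MulAction.orbitRel_apply.1 (Quotient.exact hij.symm)
    exact hinj i j p.1 p.2 ((hsmul p (r i)).symm.trans hp).symm
  have hcle := Fintype.card_le_of_injective q' hqinj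
  have hΩle : Fintype.card Ω ≤ 2 * D.q + 1 := by
    rw [hΩn, ← htot]; exact Finset.sum_le_sum fun om _ => hle om
  refine ⟨hcle.trans hΩle, fun heq => ⟨fun w => ?_, ?_⟩⟩
  · have hsurj : Function.Surjective q' :=
      ((Fintype.bijective_iff_injective_and_card q').2 ⟨hqinj, by omega⟩).2
    obtain ⟨i, hi⟩ := hsurj (Quotient.mk _ w)
    obtain ⟨p, hp⟩ := MulAction.orbitRel_apply.1 (Quotient.exact hi.symm)
    exact ⟨i, p.1, p.2, by rw [← hsmul]; exact hp.symm⟩
  · by_contra hno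
    push Not at hno
    have h1 : ∀ om, n om ≤ 1 := fun om => by
      by_contra h2
      obtain ⟨h3, eta, h4⟩ := htwo om (by omega)
      exact hno om h3 eta h4
    have h2 : Fintype.card Ω ≤ D.q + 1 := by
      rw [hΩn, ← D.card_dual]
      refine (Finset.sum_le_sum fun om _ => h1 om).trans ?_
      simp
    have := D.two_le
    omega

/-! ### Point orbits -/

/-- The orbit of a point. -/
def ptOrb (M : Subgroup (V ≃ₗ[F] V)) (v : V) : Set V := {w | ∃ g ∈ M, ∃ c : F, c ≠ 0 ∧ w = c • g v}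

theorem mem_ptOrb_self (M : Subgroup (V ≃ₗ[F] V)) (v : V) : v ∈ ptOrb M v :=
  ⟨1, M.one_mem, 1, one_ne_zero, by simp⟩

theorem isPointSet_ptOrb (M : Subgroup (V ≃ₗ[F] V)) (v : V) : IsPointSet M (ptOrb M v) := by
  refine ⟨?_, ?_⟩
  · rintro g hg w ⟨g', hg', c, hc, rfl⟩
    exact ⟨g * g', M.mul_mem hg hg', c, hc, by rw [map_smul, LinearEquiv.mul_apply]⟩
  · rintro a w ha ⟨g', hg', c, hc, rfl⟩
    exact ⟨g', hg', a * c, mul_ne_zero ha hc, by rw [smul_smul]⟩

theorem ptOrb_symm {M : Subgroup (V ≃ₗ[F] V)} {v w : V} (h : w ∈ ptOrb M v) : v ∈ ptOrb M w := by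
  obtain ⟨g, hg, c, hc, rfl⟩ := h
  refine ⟨g⁻¹, M.inv_mem hg, c⁻¹, inv_ne_zero hc, ?_⟩
  rw [map_smul, ← LinearEquiv.mul_apply, inv_mul_cancel, LinearEquiv.coe_one, id, smul_smul, inv_mul_cancel₀ hc,
    one_smul]

theorem ptOrb_trans {M : Subgroup (V ≃ₗ[F] V)} {u v w : V} (h1 : v ∈ ptOrb M u) (h2 : w ∈ ptOrb M v) :
    w ∈ ptOrb M u := by
  obtain ⟨g, hg, c, hc, rfl⟩ := h1
  obtain ⟨g', hg', c', hc', rfl⟩ := h2
  exact ⟨g' * g, M.mul_mem hg' hg, c' * c, mul_ne_zero hc' hc, by rw [map_smul, smul_smul, LinearEquiv.mul_apply]⟩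

theorem ptOrb_nrm {M : Subgroup (V ≃ₗ[F] V)} (hM : M ≤ D.iso) {v w : V} (h : w ∈ ptOrb M v) :
    (D.nrm w = 0 ↔ D.nrm v = 0) ∧ (w = 0 ↔ v = 0) := by
  obtain ⟨g, hg, c, hc, rfl⟩ := h
  exact ⟨by simp [D.nrm_smul, D.nrm_iso (hM hg), hc], by simp [hc]⟩

open Classical in
/-- The indicator of a set. -/
noncomputable def oneP (S : Set V) (v : V) : ℂ := if v ∈ S then 1 else 0

theorem pinv_oneP {M : Subgroup (V ≃ₗ[F] V)} {S : Set V} (hS : IsPointSet M S) : PInv M (oneP S) := by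
  classical
  refine ⟨fun g hg v => ?_, fun c hc v => ?_⟩
  · have h : g v ∈ S ↔ v ∈ S := ⟨fun h => by
      have h1 := hS.1 _ (M.inv_mem hg) _ h
      rwa [← LinearEquiv.mul_apply, inv_mul_cancel, LinearEquiv.coe_one, id] at h1, fun h => hS.1 g hg v h⟩
    simp only [oneP, h]
  · have h : c • v ∈ S ↔ v ∈ S := ⟨fun h => by
      have h1 := hS.2 c⁻¹ _ (inv_ne_zero hc) h
      rwa [smul_smul, inv_mul_cancel₀ hc, one_smul] at h1, fun h => hS.2 c v hc h⟩
    simp only [oneP, h]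

theorem sum_oneP (S : Set V) : ∑ v, oneP S v = (Nat.card S : ℂ) := by
  classical
  simp only [oneP, Finset.sum_boole]
  rw [Nat.card_eq_fintype_card, ← Set.toFinset_card]
  congr 2
  ext; simp

theorem PInv.lin {M : Subgroup (V ≃ₗ[F] V)} {f g : V → ℂ} (hf : PInv M f) (hg : PInv M g) (a b : ℂ) :
    PInv M fun v => a * f v - b * g v :=
  ⟨fun m hm v => by simp only [hf.1 m hm, hg.1 m hm], fun c hc v => by simp only [hf.2 c hc, hg.2 c hc]⟩

/-- Constancy of invariant functions on a point orbit. -/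
theorem PInv.eq_of_mem {M : Subgroup (V ≃ₗ[F] V)} {f : V → ℂ} (hf : PInv M f) {v w : V} (h : w ∈ ptOrb M v) :
    f w = f v := by
  obtain ⟨g, hg, c, hc, rfl⟩ := h
  rw [hf.2 c hc, hf.1 g hg]

theorem Inv.eq_of_mem {M : Subgroup (V ≃ₗ[F] V)} {f : V → ℂ} (hf : D.Inv M f) (hM : M ≤ D.iso) {v w : V}
    (h : w ∈ ptOrb M v) (hn : D.nrm w = D.nrm v) (h0 : D.nrm v ≠ 0) : f w = f v := by
  obtain ⟨g, hg, c, hc, rfl⟩ := h
  rw [D.nrm_smul, D.nrm_iso (hM hg), mul_eq_right₀ h0, D.σ_apply, ← pow_succ'] at hn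
  have h1 := hf.2 ⟨Units.mk0 c hc, D.mem_circ.2 (Units.ext (by
    rw [Units.val_pow_eq_pow_val, Units.val_mk0, hn, Units.val_one]))⟩ (g v)
  exact h1.trans (hf.1 g hg v)

open Classical in
/-- The indicator of the isotropic vectors. -/
noncomputable def isoOne (v : V) : ℂ := D.cone v - if v = 0 then 1 else 0

/-- The indicator of the anisotropic vectors. -/
noncomputable def aniOne (v : V) : ℂ := 1 - D.cone v

theorem isoOne_pinv {M : Subgroup (V ≃ₗ[F] V)} (hM : M ≤ D.iso) : PInv M D.isoOne := by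
  classical
  refine ⟨fun g hg v => ?_, fun c hc v => ?_⟩
  · simp only [isoOne, D.cone_iso (hM hg), map_eq_zero_iff g g.injective]
  · simp only [isoOne, D.cone_scalInv c hc, smul_eq_zero, hc, false_or]

theorem aniOne_pinv {M : Subgroup (V ≃ₗ[F] V)} (hM : M ≤ D.iso) : PInv M D.aniOne :=
  ⟨fun g hg v => by simp only [aniOne, D.cone_iso (hM hg)], fun c hc v => by simp only [aniOne, D.cone_scalInv c hc]⟩

theorem isoOne_apply {v : V} (h : D.nrm v = 0) (h0 : v ≠ 0) : D.isoOne v = 1 := by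
  classical
  rw [isoOne, cone, if_pos h, if_neg h0, sub_zero]

theorem isoOne_supp {v : V} (h : D.isoOne v ≠ 0) : D.nrm v = 0 ∧ v ≠ 0 := by
  classical
  rw [isoOne, cone] at h
  by_cases h0 : v = 0
  · subst h0; simp [D.nrm_zero] at h
  · exact ⟨by by_contra h1; simp [h1, h0] at h, h0⟩

theorem aniOne_apply {v : V} (h : D.nrm v ≠ 0) : D.aniOne v = 1 := by
  classical
  rw [aniOne, cone, if_neg h, sub_zero]

theorem aniOne_supp {v : V} (h : D.aniOne v ≠ 0) : D.nrm v ≠ 0 := fun h0 => by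
  classical
  rw [aniOne, cone, if_pos h0, sub_self] at h
  exact h rfl

theorem sum_cone (hn : Module.finrank F V = 5) :
    ∑ v, D.cone v = (D.q : ℂ) ^ 9 - (D.q : ℂ) ^ 5 + (D.q : ℂ) ^ 4 := by
  rw [← D.ft_zero, D.ft_cone hn, if_pos rfl, D.cone_zero]
  ring

theorem sum_isoOne (hn : Module.finrank F V = 5) :
    ∑ v, D.isoOne v = ((D.q : ℂ) ^ 5 + 1) * ((D.q : ℂ) ^ 4 - 1) := by
  classical
  simp only [isoOne, Finset.sum_sub_distrib, D.sum_cone hn, Finset.sum_ite_eq', Finset.mem_univ, if_true]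
  ring

theorem sum_aniOne (hn : Module.finrank F V = 5) :
    ∑ v, D.aniOne v = ((D.q : ℂ) - 1) * ((D.q : ℂ) ^ 9 + (D.q : ℂ) ^ 4) := by
  simp only [aniOne, Finset.sum_sub_distrib, D.sum_cone hn, Finset.sum_const, Finset.card_univ, nsmul_eq_mul,
    mul_one, D.card_V hn]
  ring

theorem ft_isoOne (hn : Module.finrank F V = 5) {y : V} (hy : y ≠ 0) :
    D.ft D.isoOne y = (D.q : ℂ) ^ 4 - (D.q : ℂ) ^ 5 * D.cone y - 1 := by
  classical
  rw [show D.isoOne = fun v => D.cone v - if v = 0 then 1 else 0 from rfl, D.ft_sub, D.ft_cone hn, if_neg hy, zero_add,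
    ft_apply]
  simp only [mul_ite, mul_one, mul_zero, Finset.sum_ite_eq', Finset.mem_univ, if_true, D.chi_zero_right]

theorem ft_aniOne (hn : Module.finrank F V = 5) {y : V} (hy : y ≠ 0) :
    D.ft D.aniOne y = (D.q : ℂ) ^ 5 * D.cone y - (D.q : ℂ) ^ 4 := by
  classical
  rw [show D.aniOne = fun v => (1 : ℂ) - D.cone v from rfl, D.ft_sub, D.ft_cone hn, if_neg hy, zero_add, ft_apply]
  simp only [mul_one, D.sum_chi, if_neg hy]
  ring

theorem q4_ne : ((D.q : ℂ) ^ 4 - 1) ≠ 0 := by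
  rw [sub_ne_zero]
  exact_mod_cast (Nat.one_lt_pow (by norm_num) D.two_le).ne'

theorem isoCount_ne : ((D.q : ℂ) ^ 5 + 1) * ((D.q : ℂ) ^ 4 - 1) ≠ 0 :=
  mul_ne_zero (by exact_mod_cast Nat.succ_ne_zero (D.q ^ 5)) D.q4_ne

theorem aniCount_ne : ((D.q : ℂ) - 1) * ((D.q : ℂ) ^ 9 + (D.q : ℂ) ^ 4) ≠ 0 := by
  have h2 := D.two_le
  refine mul_ne_zero ?_ ?_
  · rw [sub_ne_zero]; exact_mod_cast (by omega : D.q ≠ 1)
  · have : 0 < D.q ^ 9 + D.q ^ 4 := Nat.add_pos_right _ (pow_pos (by omega) 4)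
    exact_mod_cast this.ne'

theorem exists_iso_vec (hn : Module.finrank F V = 5) : ∃ u : V, D.nrm u = 0 ∧ u ≠ 0 := by
  by_contra h
  refine D.isoCount_ne ((D.sum_isoOne hn).symm.trans (Finset.sum_eq_zero fun v _ => ?_))
  by_contra h1
  exact h ⟨v, D.isoOne_supp h1⟩

theorem exists_ani_vec (hn : Module.finrank F V = 5) : ∃ v : V, D.nrm v ≠ 0 := by
  by_contra h
  refine D.aniCount_ne ((D.sum_aniOne hn).symm.trans (Finset.sum_eq_zero fun v _ => ?_))
  by_contra h1
  exact h ⟨v, D.aniOne_supp h1⟩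

/-- Invariant functions on isotropic points, of any sum. -/
theorem ft_iso (hn : Module.finrank F V = 5) {M : Subgroup (V ≃ₗ[F] V)} (hM : M ≤ D.iso) (hE : D.Eig M)
    {g : V → ℂ} (hg : PInv M g) (hs : ∀ v, g v ≠ 0 → D.nrm v = 0 ∧ v ≠ 0) {x : V} (hx : D.nrm x = 0)
    (hx0 : x ≠ 0) :
    ((D.q : ℂ) ^ 4 - 1) * D.ft g x = ((D.q : ℂ) ^ 4 - 1) * (D.q : ℂ) ^ 4 * g x - ∑ v, g v := by
  classical
  set N := ((D.q : ℂ) ^ 5 + 1) * ((D.q : ℂ) ^ 4 - 1) with hN
  have h := D.ft_iso_zero hE (g := fun v => N * g v - (∑ w, g w) * D.isoOne v)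
    (hg.lin (D.isoOne_pinv hM) _ _) (fun v hv => ?_) ?_ ?_ hx
  · rw [D.ft_sub, D.ft_smul, D.ft_smul, D.ft_isoOne hn hx0, cone, if_pos hx, mul_one, D.isoOne_apply hx hx0] at h
    refine mul_left_cancel₀ (show ((D.q : ℂ) ^ 5 + 1) ≠ 0 by exact_mod_cast Nat.succ_ne_zero (D.q ^ 5)) ?_
    linear_combination h
  · by_contra hne
    refine hv ?_
    have h1 : g v = 0 := by by_contra h1; exact hne (hs v h1).1
    have h2 : D.isoOne v = 0 := by by_contra h2; exact hne (D.isoOne_supp h2).1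
    rw [h1, h2]; ring
  · have h1 : g 0 = 0 := by by_contra h1; exact (hs 0 h1).2 rfl
    have h2 : D.isoOne 0 = 0 := by by_contra h2; exact (D.isoOne_supp h2).2 rfl
    rw [h1, h2]; ring
  · rw [Finset.sum_sub_distrib, ← Finset.mul_sum, ← Finset.mul_sum, D.sum_isoOne hn, hN]; ring

/-- Invariant functions on anisotropic points, of any sum. -/
theorem ft_ani (hn : Module.finrank F V = 5) {M : Subgroup (V ≃ₗ[F] V)} (hM : M ≤ D.iso) (hE : D.Eig M)
    {f : V → ℂ} (hf : PInv M f) (hs : ∀ v, f v ≠ 0 → D.nrm v ≠ 0) {x : V} (hx : D.nrm x ≠ 0) :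
    D.ft f x = -(D.q : ℂ) ^ 4 * f x := by
  classical
  set N := ((D.q : ℂ) - 1) * ((D.q : ℂ) ^ 9 + (D.q : ℂ) ^ 4) with hN
  have h := D.ft_ani_zero hn hM hE (f := fun v => N * f v - (∑ w, f w) * D.aniOne v)
    (hf.lin (D.aniOne_pinv hM) _ _) (fun v hv h0 => hv ?_) ?_ hx
  · have hx0 : x ≠ 0 := fun h0 => hx (by rw [h0, D.nrm_zero])
    rw [D.ft_sub, D.ft_smul, D.ft_smul, D.ft_aniOne hn hx0, cone, if_neg hx, mul_zero, D.aniOne_apply hx] at h
    refine mul_left_cancel₀ (show N ≠ 0 from D.aniCount_ne) ?_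
    linear_combination h
  · have h1 : f v = 0 := by by_contra h1; exact hs v h1 h0
    have h2 : D.aniOne v = 0 := by by_contra h2; exact D.aniOne_supp h2 h0
    rw [h1, h2]; ring
  · rw [Finset.sum_sub_distrib, ← Finset.mul_sum, ← Finset.mul_sum, D.sum_aniOne hn, hN]; ring

theorem q10_ne : (D.q : ℂ) ^ 10 ≠ ((D.q : ℂ) ^ 4) ^ 2 := fun h => by
  rw [← pow_mul] at h
  have h1 : D.q ^ 10 = D.q ^ (4 * 2) := by exact_mod_cast h
  have := Nat.pow_right_injective D.two_le h1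
  omega

theorem exists_scale {v : V} (hv : D.nrm v ≠ 0) {e : F} (he : D.σ e = e) (he0 : e ≠ 0) :
    ∃ c : F, c ≠ 0 ∧ D.nrm (c • v) = e := by
  obtain ⟨c, hc⟩ := D.exists_norm (c := e / D.nrm v) (by rw [map_div₀, he, D.real_nrm])
  refine ⟨c, fun h => div_ne_zero he0 hv (by rw [← hc, h, zero_mul]), ?_⟩
  rw [D.nrm_smul, hc, div_mul_cancel₀ _ hv]

/-- Two point orbits of each kind, one of the pieces splitting off a linear character. -/
structure TwoOrb (M : Subgroup (V ≃ₗ[F] V)) [Fintype M] (v₁ v₂ u₁ u₂ : V) : Prop where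
  ani₁ : D.nrm v₁ ≠ 0
  ani₂ : D.nrm v₂ ≠ 0
  iso₁ : D.nrm u₁ = 0 ∧ u₁ ≠ 0
  iso₂ : D.nrm u₂ = 0 ∧ u₂ ≠ 0
  sep_ani : v₂ ∉ ptOrb M v₁
  sep_iso : u₂ ∉ ptOrb M u₁
  cover_ani : ∀ w, D.nrm w ≠ 0 → w ∈ ptOrb M v₁ ∨ w ∈ ptOrb M v₂
  cover_iso : ∀ w, D.nrm w = 0 → w ≠ 0 → w ∈ ptOrb M u₁ ∨ w ∈ ptOrb M u₂
  iso_inv : ∀ f : V → ℂ, D.Inv M f → ∀ w, D.nrm w = 0 → w ≠ 0 →
    (w ∈ ptOrb M u₁ → f w = f u₁) ∧ (w ∈ ptOrb M u₂ → f w = f u₂)
  split : ∃ om : D.circ →* ℂˣ, om ≠ 1 ∧ ∃ eta : M →* ℂˣ,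
    classInner (fun g : M => D.theta om (g : V ≃ₗ[F] V)) (fun g : M => (eta g : ℂ)) = 1

theorem orbit_cases (hn : Module.finrank F V = 5) (hq : 3 ≤ D.q) {M : Subgroup (V ≃ₗ[F] V)} [Fintype M]
    (hM : M ≤ D.iso) (hP : D.Pieces2 M) :
    ((∀ v w, D.nrm v ≠ 0 → D.nrm w ≠ 0 → w ∈ ptOrb M v) ∧
      ∀ u w, D.nrm u = 0 → u ≠ 0 → D.nrm w = 0 → w ≠ 0 → w ∈ ptOrb M u) ∨
    ∃ v₁ v₂ u₁ u₂, D.TwoOrb M v₁ v₂ u₁ u₂ := by
  classical
  have hE := D.eig_of_norm_one hn M hM hP.1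
  let L := {e : F // e ∈ D.re.erase 0}
  have hLcard : Fintype.card L = D.q - 1 := by
    rw [Fintype.card_coe, Finset.card_erase_of_mem D.zero_mem_re, D.card_re]
  -- representatives from points
  have count : ∀ (r k : ℕ) (u : Fin r → V) (v : Fin k → V), (∀ i, D.nrm (u i) = 0 ∧ u i ≠ 0) →
      (∀ i, D.nrm (v i) ≠ 0) → (∀ i j, u j ∈ ptOrb M (u i) → i = j) → (∀ i j, v j ∈ ptOrb M (v i) → i = j) →
      1 + r + k * (D.q - 1) ≤ 2 * D.q + 1 ∧ (1 + r + k * (D.q - 1) = 2 * D.q + 1 →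
        (∀ w, D.nrm w = 0 → w ≠ 0 → ∃ i, ∃ (lam : D.circ) (g : M), w = ((lam : Fˣ) : F) • (g : V ≃ₗ[F] V) (u i)) ∧
        ∃ om : D.circ →* ℂˣ, om ≠ 1 ∧ ∃ eta : M →* ℂˣ,
          classInner (fun g : M => D.theta om (g : V ≃ₗ[F] V)) (fun g : M => (eta g : ℂ)) = 1) := by
    intro r k u v hu hv hui hvi
    have hsc : ∀ (b : Fin k) (e : L), ∃ c : F, c ≠ 0 ∧ D.nrm (c • v b) = e.1 := fun b e =>
      D.exists_scale (hv b) (D.mem_re.1 (Finset.mem_of_mem_erase e.2)) (Finset.ne_of_mem_erase e.2)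
    choose c hc0 hc using hsc
    let rep : Option (Fin r ⊕ Fin k × L) → V := fun x =>
      match x with
      | none => 0
      | some (Sum.inl i) => u i
      | some (Sum.inr p) => c p.1 p.2 • v p.1
    have hrel : ∀ (lam : D.circ) (g : M) (x : V), ((lam : Fˣ) : F) • (g : V ≃ₗ[F] V) x ∈ ptOrb M x :=
      fun lam g x => ⟨g, g.2, _, Units.ne_zero _, rfl⟩
    have hnl : ∀ (lam : D.circ) (g : M) (x : V), D.nrm (((lam : Fˣ) : F) • (g : V ≃ₗ[F] V) x) = D.nrm x :=
      fun lam g x => by rw [D.nrm_smul_circ, D.nrm_iso (hM g.2)]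
    have hinj : ∀ i j, ∀ (lam : D.circ) (g : M), rep j = ((lam : Fˣ) : F) • (g : V ≃ₗ[F] V) (rep i) → i = j := by
      intro i j lam g h
      have h1 : rep j ∈ ptOrb M (rep i) := h ▸ hrel lam g _
      have h2 : D.nrm (rep j) = D.nrm (rep i) := h ▸ hnl lam g _
      have h3 := (D.ptOrb_nrm hM h1).2
      have hne : ∀ p : Fin k × L, c p.1 p.2 • v p.1 ≠ 0 := fun p h0 =>
        Finset.ne_of_mem_erase p.2.2 (by rw [← hc p.1 p.2, h0, D.nrm_zero])
      rcases i with _ | i | ⟨b, e⟩ <;> rcases j with _ | j | ⟨b', e'⟩ <;> simp only [rep] at h1 h2 h3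
      · rfl
      · exact absurd (h3.2 trivial) (hu j).2
      · exact absurd (h3.2 trivial) (hne (b', e'))
      · exact absurd (h3.1 trivial) (hu i).2
      · rw [hui i j h1]
      · exact absurd (by rw [← hc b' e', h2, (hu i).1]) (Finset.ne_of_mem_erase e'.2)
      · exact absurd (h3.1 trivial) (hne (b, e))
      · exact absurd (by rw [← hc b e, ← h2, (hu j).1]) (Finset.ne_of_mem_erase e.2)
      · have hb : b = b' := hvi b b' (ptOrb_trans (ptOrb_trans
          ⟨1, M.one_mem, c b e, hc0 b e, by simp⟩ h1) (ptOrb_symm ⟨1, M.one_mem, c b' e', hc0 b' e', by simp⟩))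
        subst hb
        rw [hc, hc] at h2
        rw [Subtype.ext h2]
    obtain ⟨hle, heq⟩ := D.reps_le hP rep hinj
    have hcard : Fintype.card (Option (Fin r ⊕ Fin k × L)) = 1 + r + k * (D.q - 1) := by
      simp [hLcard]; omega
    rw [hcard] at hle heq
    refine ⟨hle, fun he => ⟨fun w hw hw0 => ?_, (heq he).2⟩⟩
    obtain ⟨i, lam, g, hi⟩ := (heq he).1 w
    rcases i with _ | i | ⟨b, e⟩ <;> simp only [rep] at hi
    · rw [map_zero, smul_zero] at hi
      exact absurd hi hw0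
    · exact ⟨i, lam, g, hi⟩
    · rw [hi, hnl, hc] at hw
      exact absurd hw (Finset.ne_of_mem_erase e.2)
  obtain ⟨u₀, hu₀⟩ := D.exists_iso_vec hn
  obtain ⟨v₁, hv₁⟩ := D.exists_ani_vec hn
  by_cases hk : ∀ w, D.nrm w ≠ 0 → w ∈ ptOrb M v₁
  · left
    refine ⟨fun v w hv hw => ptOrb_trans (ptOrb_symm (hk v hv)) (hk w hw), fun u w hu hu0 hw hw0 => ?_⟩
    by_contra hwu
    let g : V → ℂ := oneP (ptOrb M u)
    have hgp := pinv_oneP (isPointSet_ptOrb M u)
    have hgs : ∀ y, oneP (ptOrb M u) y ≠ 0 → D.nrm y = 0 ∧ y ≠ 0 := fun y hy => by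
      have hm : y ∈ ptOrb M u := by by_contra hm; exact hy (if_neg hm)
      exact ⟨(D.ptOrb_nrm hM hm).1.2 hu, fun h => hu0 ((D.ptOrb_nrm hM hm).2.1 h)⟩
    set S := ∑ y, oneP (ptOrb M u) y
    set g₀ : V → ℂ := fun y => ((D.q : ℂ) ^ 5 + 1) * ((D.q : ℂ) ^ 4 - 1) * oneP (ptOrb M u) y - S * D.isoOne y
      with hg₀
    have hP0 : PInv M g₀ := hgp.lin (D.isoOne_pinv hM) _ _
    have hs0 : ∀ y, g₀ y ≠ 0 → D.nrm y = 0 ∧ y ≠ 0 := fun y hy => by
      by_contra hne
      refine hy ?_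
      have h1 : oneP (ptOrb M u) y = 0 := by by_contra h1; exact hne (hgs y h1)
      have h2 : D.isoOne y = 0 := by by_contra h2; exact hne (D.isoOne_supp h2)
      rw [hg₀]; dsimp only; rw [h1, h2]; ring
    have hsum : ∑ y, g₀ y = 0 := by
      rw [hg₀, Finset.sum_sub_distrib, ← Finset.mul_sum, ← Finset.mul_sum, D.sum_isoOne hn]; ring
    have hg00 : g₀ 0 = 0 := by by_contra h; exact (hs0 0 h).2 rfl
    have hcst : ∀ y, D.ft g₀ y = (D.q : ℂ) ^ 4 * g₀ y + D.ft g₀ v₁ * D.aniOne y := by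
      intro y
      by_cases hy : D.nrm y = 0
      · have h2 : D.aniOne y = 0 := by by_contra h2; exact D.aniOne_supp h2 hy
        rw [h2, mul_zero, add_zero, D.ft_iso_zero hE hP0 (fun z hz => (hs0 z hz).1) hg00 hsum hy]
      · have h2 : g₀ y = 0 := by by_contra h2; exact hy (hs0 y h2).1
        rw [h2, D.aniOne_apply hy, mul_zero, zero_add, mul_one]
        exact (D.ft_pinv hM hP0).eq_of_mem (hk y hy)
    have hzero : D.ft g₀ v₁ = 0 := by
      have h1 : ∑ y, D.ft g₀ y = 0 := by rw [← D.ft_zero, D.ft_ft, neg_zero, hg00, mul_zero]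
      rw [Finset.sum_congr rfl fun y _ => hcst y, Finset.sum_add_distrib, ← Finset.mul_sum, ← Finset.mul_sum, hsum,
        mul_zero, zero_add, D.sum_aniOne hn] at h1
      exact (mul_eq_zero.1 h1).resolve_right D.aniCount_ne
    have hfix : ∀ y, g₀ y = 0 := by
      intro y
      have h1 := D.ft_ft g₀ y
      have h2 : D.ft g₀ = fun z => (D.q : ℂ) ^ 4 * g₀ z := funext fun z => by
        rw [hcst z, hzero, zero_mul, add_zero]
      rw [h2, D.ft_smul, h2, D.card_V hn, hP0.2.even] at h1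
      exact (mul_eq_zero.1 (show ((D.q : ℂ) ^ 10 - ((D.q : ℂ) ^ 4) ^ 2) * g₀ y = 0 by linear_combination -h1)).resolve_left
        (sub_ne_zero.2 D.q10_ne)
    have hgw := hfix w
    have hgu := hfix u
    rw [hg₀] at hgw hgu
    dsimp only at hgw hgu
    rw [D.isoOne_apply hw hw0, show oneP (ptOrb M u) w = 0 from if_neg hwu] at hgw
    rw [D.isoOne_apply hu hu0, show oneP (ptOrb M u) u = 1 from if_pos (mem_ptOrb_self M u)] at hgu
    refine D.isoCount_ne ?_
    linear_combination hgu - hgw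
  · right
    simp only [not_forall, exists_prop] at hk
    obtain ⟨v₂, hv₂, hsep⟩ := hk
    have hcov : ∀ w, D.nrm w ≠ 0 → w ∈ ptOrb M v₁ ∨ w ∈ ptOrb M v₂ := by
      intro w hw
      by_contra hno
      rw [not_or] at hno
      have h := (count 1 3 ![u₀] ![v₁, v₂, w] (fun i => by fin_cases i; exact hu₀)
        (fun i => by fin_cases i <;> assumption) (fun i j _ => Subsingleton.elim i j) (fun i j h => by
          fin_cases i <;> fin_cases j <;> first
            | rfl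
            | exact absurd h hsep
            | exact absurd h hno.1
            | exact absurd h hno.2
            | exact absurd (ptOrb_symm h) hsep
            | exact absurd (ptOrb_symm h) hno.1
            | exact absurd (ptOrb_symm h) hno.2)).1
      omega
    obtain ⟨u₂, hu₂, hu₂0, hsu⟩ : ∃ u₂, D.nrm u₂ = 0 ∧ u₂ ≠ 0 ∧ u₂ ∉ ptOrb M u₀ := by
      by_contra hno
      push Not at hno
      set A := ∑ y, oneP (ptOrb M v₁) y with hA
      set f : V → ℂ := fun y => ((D.q : ℂ) - 1) * ((D.q : ℂ) ^ 9 + (D.q : ℂ) ^ 4) * oneP (ptOrb M v₁) y -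
        A * D.aniOne y with hf
      have hfP : PInv M f := (pinv_oneP (isPointSet_ptOrb M v₁)).lin (D.aniOne_pinv hM) _ _
      have hfs : ∀ y, f y ≠ 0 → D.nrm y ≠ 0 := fun y hy h0 => hy (by
        have h1 : oneP (ptOrb M v₁) y = 0 := if_neg fun h => hv₁ ((D.ptOrb_nrm hM h).1.1 h0)
        have h2 : D.aniOne y = 0 := by by_contra h2; exact D.aniOne_supp h2 h0
        rw [hf]; dsimp only; rw [h1, h2]; ring)
      have hfsum : ∑ y, f y = 0 := by
        rw [hf, Finset.sum_sub_distrib, ← Finset.mul_sum, ← Finset.mul_sum, D.sum_aniOne hn]; ring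
      have hcst : ∀ y, D.ft f y = -(D.q : ℂ) ^ 4 * f y + D.ft f u₀ * D.isoOne y := by
        intro y
        by_cases hy : D.nrm y = 0
        · have h2 : f y = 0 := by by_contra h2; exact hfs y h2 hy
          rw [h2, mul_zero, zero_add]
          by_cases hy0 : y = 0
          · subst hy0
            have h3 : D.isoOne 0 = 0 := by by_contra h3; exact (D.isoOne_supp h3).2 rfl
            rw [h3, mul_zero, D.ft_zero, hfsum]
          · rw [D.isoOne_apply hy hy0, mul_one]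
            exact (D.ft_pinv hM hfP).eq_of_mem (hno y hy hy0)
        · have h2 : D.isoOne y = 0 := by by_contra h2; exact hy (D.isoOne_supp h2).1
          rw [h2, mul_zero, add_zero]
          exact D.ft_ani hn hM hE hfP hfs hy
      have hf00 : f 0 = 0 := by by_contra h; exact hfs 0 h D.nrm_zero
      have hzero : D.ft f u₀ = 0 := by
        have h1 : ∑ y, D.ft f y = 0 := by rw [← D.ft_zero, D.ft_ft, neg_zero, hf00, mul_zero]
        rw [Finset.sum_congr rfl fun y _ => hcst y, Finset.sum_add_distrib, ← Finset.mul_sum, ← Finset.mul_sum,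
          hfsum, mul_zero, zero_add, D.sum_isoOne hn] at h1
        exact (mul_eq_zero.1 h1).resolve_right D.isoCount_ne
      have hfix : ∀ y, f y = 0 := by
        intro y
        have h1 := D.ft_ft f y
        have h2 : D.ft f = fun z => -(D.q : ℂ) ^ 4 * f z := funext fun z => by
          rw [hcst z, hzero, zero_mul, add_zero]
        rw [h2, D.ft_smul, h2, D.card_V hn, hfP.2.even] at h1
        exact (mul_eq_zero.1 (show ((D.q : ℂ) ^ 10 - ((D.q : ℂ) ^ 4) ^ 2) * f y = 0 by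
          linear_combination -h1)).resolve_left (sub_ne_zero.2 D.q10_ne)
      have h₁ := hfix v₁
      have h₂ := hfix v₂
      rw [hf] at h₁ h₂
      dsimp only at h₁ h₂
      rw [D.aniOne_apply hv₁, show oneP (ptOrb M v₁) v₁ = 1 from if_pos (mem_ptOrb_self M v₁)] at h₁
      rw [D.aniOne_apply hv₂, show oneP (ptOrb M v₁) v₂ = 0 from if_neg hsep] at h₂
      exact D.aniCount_ne (by linear_combination h₁ - h₂)
    have hcovi : ∀ w, D.nrm w = 0 → w ≠ 0 → w ∈ ptOrb M u₀ ∨ w ∈ ptOrb M u₂ := by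
      intro w hw hw0
      by_contra hno
      rw [not_or] at hno
      have h := (count 3 2 ![u₀, u₂, w] ![v₁, v₂]
        (fun i => by fin_cases i <;> first | exact hu₀ | exact ⟨hu₂, hu₂0⟩ | exact ⟨hw, hw0⟩)
        (fun i => by fin_cases i <;> assumption)
        (fun i j h => by
          fin_cases i <;> fin_cases j <;> first
            | rfl
            | exact absurd h hsu
            | exact absurd h hno.1
            | exact absurd h hno.2
            | exact absurd (ptOrb_symm h) hsu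
            | exact absurd (ptOrb_symm h) hno.1
            | exact absurd (ptOrb_symm h) hno.2)
        (fun i j h => by
          fin_cases i <;> fin_cases j <;> first
            | rfl
            | exact absurd h hsep
            | exact absurd (ptOrb_symm h) hsep)).1
      omega
    obtain ⟨hall, hsplit⟩ := (count 2 2 ![u₀, u₂] ![v₁, v₂]
      (fun i => by fin_cases i <;> first | exact hu₀ | exact ⟨hu₂, hu₂0⟩)
      (fun i => by fin_cases i <;> assumption)
      (fun i j h => by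
        fin_cases i <;> fin_cases j <;> first
          | rfl
          | exact absurd h hsu
          | exact absurd (ptOrb_symm h) hsu)
      (fun i j h => by
        fin_cases i <;> fin_cases j <;> first
          | rfl
          | exact absurd h hsep
          | exact absurd (ptOrb_symm h) hsep)).2 (by omega)
    refine ⟨v₁, v₂, u₀, u₂, hv₁, hv₂, hu₀, ⟨hu₂, hu₂0⟩, hsep, hsu, hcov, hcovi, ?_, hsplit⟩
    intro f hf w hw hw0
    obtain ⟨i, lam, g, rfl⟩ := hall w hw hw0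
    have hval : ∀ x : V, f (((lam : Fˣ) : F) • (g : V ≃ₗ[F] V) x) = f x := fun x => by
      rw [hf.2 lam, hf.1 _ g.2]
    have hmem : ∀ x : V, x ∈ ptOrb M (((lam : Fˣ) : F) • (g : V ≃ₗ[F] V) x) := fun x =>
      ptOrb_symm ⟨g, g.2, _, Units.ne_zero _, rfl⟩
    fin_cases i
    · exact ⟨fun _ => hval _, fun h => absurd (ptOrb_symm (ptOrb_trans h (hmem _))) hsu⟩
    · exact ⟨fun h => absurd (ptOrb_trans h (hmem _)) hsu, fun _ => hval _⟩

end Data

end CfsgLib.MaxSub.SU5Quintic
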