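/-
The sizes of the point orbits.
-/
import Cfsg.Agent.Lib.MaxSub.SU5Quintic.OrbitsCount
import Cfsg.Agent.Lib.MaxSub.SU5Quintic.Numeric

set_option autoImplicit false
set_option linter.unusedSectionVars false
set_option linter.style.haveILetI false
set_option maxHeartbeats 400000

namespace CfsgLib.MaxSub.SU5Quintic

open scoped BigOperators ComplexConjugate
open Cfsg

universe u v

/-- A factor of `(q ^ 5 + 1) / (q + 1)` is prime to `q` and to `q ^ 2 + 1`. -/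
theorem torOrder_coprime {q d mb : ℕ} (hmb : torOrder q = d * mb) : mb.Coprime q ∧ mb.Coprime (q ^ 2 + 1) := by
  have hdvd : mb ∣ q ^ 5 + 1 := ⟨d * (q + 1), by rw [← torOrder_mul, hmb]; ring⟩
  have hodd : ¬ 2 ∣ mb := by
    intro h
    have h1 : (2 : ℤ) ∣ torOrder q := by
      exact_mod_cast h.trans ⟨d, by rw [hmb]; ring⟩
    have h2 : (2 : ℤ) ∣ (q : ℤ) * ((q : ℤ) - 1) := by
      rcases Int.even_or_odd (q : ℤ) with h3 | h3
      · exact dvd_mul_of_dvd_left (even_iff_two_dvd.1 h3) _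
      · exact dvd_mul_of_dvd_right (even_iff_two_dvd.1 (h3.sub_odd odd_one)) _
    rw [torOrder_eq] at h1
    have h4 : (2 : ℤ) ∣ ((q : ℤ) ^ 4 - q ^ 3 + q ^ 2 - q + 1) - (q : ℤ) * ((q : ℤ) - 1) * ((q : ℤ) ^ 2 + 1) :=
      dvd_sub h1 (dvd_mul_of_dvd_left h2 _)
    rw [show ((q : ℤ) ^ 4 - q ^ 3 + q ^ 2 - q + 1) - (q : ℤ) * ((q : ℤ) - 1) * ((q : ℤ) ^ 2 + 1) = 1 by ring] at h4
    omega
  refine ⟨Nat.coprime_of_dvd fun r hr h1 h2 => ?_, Nat.coprime_of_dvd fun r hr h1 h2 => ?_⟩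
  · have h3 : r ∣ q ^ 5 := dvd_pow h2 (by norm_num)
    have := (Nat.dvd_add_right h3).1 (h1.trans hdvd)
    exact hr.one_lt.ne' (Nat.dvd_one.1 this)
  · have h3 : (r : ℤ) ∣ (q : ℤ) ^ 5 + 1 := by exact_mod_cast h1.trans hdvd
    have h4 : (r : ℤ) ∣ (q : ℤ) ^ 2 + 1 := by exact_mod_cast h2
    have h5 : (r : ℤ) ∣ (q : ℤ) + 1 := by
      have := dvd_sub h3 (dvd_mul_of_dvd_right h4 ((q : ℤ) ^ 3 - q))
      rwa [show (q : ℤ) ^ 5 + 1 - ((q : ℤ) ^ 3 - q) * ((q : ℤ) ^ 2 + 1) = (q : ℤ) + 1 by ring] at this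
    have h6 : (r : ℤ) ∣ 2 := by
      have := dvd_sub h4 (dvd_mul_of_dvd_right h5 ((q : ℤ) - 1))
      rwa [show (q : ℤ) ^ 2 + 1 - ((q : ℤ) - 1) * ((q : ℤ) + 1) = 2 by ring] at this
    have h7 : r = 2 := (Nat.prime_dvd_prime_iff_eq hr Nat.prime_two).1 (by exact_mod_cast h6)
    exact hodd (h7 ▸ h1)

namespace Data

variable {F : Type u} [Field F] [Fintype F] {V : Type v} [AddCommGroup V] [Module F V] (D : Data F V) [Fintype V]
  [DecidableEq V]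

/-- A set closed under scalars that misses zero has size a multiple of `q ^ 2 - 1`. -/
theorem scal_dvd {S : Set V} (h : ∀ (c : F) v, c ≠ 0 → v ∈ S → c • v ∈ S) (h0 : (0 : V) ∉ S) :
    D.q ^ 2 - 1 ∣ Nat.card S := by
  classical
  suffices key : ∀ (n : ℕ) (s : Finset V), s.card = n → (∀ (c : F) v, c ≠ 0 → v ∈ s → c • v ∈ s) → (0 : V) ∉ s →
      D.q ^ 2 - 1 ∣ n by
    refine key _ S.toFinset ?_ (fun c v hc hv => ?_) (by simpa using h0)
    · rw [Set.toFinset_card, Nat.card_eq_fintype_card]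
    · rw [Set.mem_toFinset] at hv ⊢
      exact h c v hc hv
  intro n
  induction n using Nat.strong_induction_on with
  | _ n ih =>
    intro s hs hcl hz
    rcases s.eq_empty_or_nonempty with rfl | ⟨v, hv⟩
    · rw [← hs]; simp
    · have hv0 : v ≠ 0 := fun e => hz (e ▸ hv)
      let L := ((Finset.univ : Finset F).erase 0).image fun c => c • v
      have hL : L.card = D.q ^ 2 - 1 := by
        rw [Finset.card_image_of_injective _ (smul_left_injective F hv0),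
          Finset.card_erase_of_mem (Finset.mem_univ _), Finset.card_univ, D.card_F]
      have hsub : L ⊆ s := fun w hw => by
        obtain ⟨c, hc, rfl⟩ := Finset.mem_image.1 hw
        exact hcl c v (Finset.ne_of_mem_erase hc) hv
      have hpos : 0 < L.card := Finset.card_pos.2 ⟨v, Finset.mem_image.2 ⟨1, by simp, one_smul _ _⟩⟩
      have hcard : (s \ L).card + L.card = n := by
        rw [Finset.card_sdiff_add_card_eq_card hsub, hs]
      rw [← hcard, hL]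
      refine dvd_add (ih _ (by omega) (s \ L) rfl (fun c w hc hw => ?_) (fun e => hz (Finset.mem_sdiff.1 e).1))
        dvd_rfl
      obtain ⟨hw1, hw2⟩ := Finset.mem_sdiff.1 hw
      refine Finset.mem_sdiff.2 ⟨hcl c w hc hw1, fun hin => hw2 ?_⟩
      obtain ⟨c', hc', he⟩ := Finset.mem_image.1 hin
      refine Finset.mem_image.2 ⟨c⁻¹ * c', ?_, ?_⟩
      · exact Finset.mem_erase.2 ⟨mul_ne_zero (inv_ne_zero hc) (Finset.ne_of_mem_erase hc'), Finset.mem_univ _⟩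
      · rw [mul_smul, he, smul_smul, inv_mul_cancel₀ hc, one_smul]

/-- The number of perpendicular vectors in a set closed under scalars. -/
theorem card_perp {S : Set V} {M : Subgroup (V ≃ₗ[F] V)} (hS : IsPointSet M S) (x : V) :
    (D.q : ℂ) ^ 2 * (Nat.card {w | w ∈ S ∧ D.form x w = 0} : ℂ) =
      ((D.q : ℂ) ^ 2 - 1) * D.ft (oneP S) x + (Nat.card S : ℂ) := by
  classical
  have hq : (D.q : ℂ) ≠ 0 := Nat.cast_ne_zero.2 (by have := D.two_le; omega)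
  have h := D.scal_avg (pinv_oneP hS).2 x fun t => if t = 0 then 1 else 0
  simp only [Finset.sum_ite_eq', Finset.mem_univ, if_true, sum_oneP] at h
  rw [← sum_oneP {w | w ∈ S ∧ D.form x w = 0}]
  rw [Finset.sum_congr rfl (g := fun w => oneP {w | w ∈ S ∧ D.form x w = 0} w) fun w _ => by
    simp only [oneP, Set.mem_ofPred_eq]; by_cases hw : w ∈ S <;> simp [hw]] at h
  rw [h]
  field_simp

theorem card_ani_orbit (hn : Module.finrank F V = 5) (hq : 3 ≤ D.q) {M : Subgroup (V ≃ₗ[F] V)} (hM : M ≤ D.iso)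
    (hE : D.Eig M) {d mb : ℕ} (hmb : torOrder D.q = d * mb)
    (hpts : ∀ S : Set V, IsPointSet M S → (0 : V) ∉ S → mb * (D.q ^ 2 - 1) ∣ Nat.card S) {v : V}
    (hv : D.nrm v ≠ 0) : ∃ i, 0 < i ∧ Nat.card (ptOrb M v) = (D.q ^ 2 - 1) * (mb * (D.q ^ 2 * i)) := by
  classical
  have hS := isPointSet_ptOrb M v
  have hmem : ∀ w ∈ ptOrb M v, D.nrm w ≠ 0 := fun w hw h0 => hv ((D.ptOrb_nrm hM hw).1.1 h0)
  obtain ⟨a, ha⟩ := hpts _ hS (fun h => hmem 0 h D.nrm_zero)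
  have h1 : D.ft (oneP (ptOrb M v)) v = -(D.q : ℂ) ^ 4 := by
    rw [D.ft_ani hn hM hE (pinv_oneP hS) (fun w hw => hmem w (by
      by_contra h; exact hw (if_neg h))) hv, oneP, if_pos (mem_ptOrb_self M v), mul_one]
  have h2 := D.card_perp hS v
  rw [h1] at h2
  set P := Nat.card {w | w ∈ ptOrb M v ∧ D.form v w = 0}
  have hone : 1 ≤ D.q ^ 2 := Nat.one_le_pow _ _ (by omega)
  have h3 : Nat.card (ptOrb M v) = D.q ^ 2 * P + D.q ^ 4 * (D.q ^ 2 - 1) := by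
    have : (Nat.card (ptOrb M v) : ℂ) = ((D.q ^ 2 * P + D.q ^ 4 * (D.q ^ 2 - 1) : ℕ) : ℂ) := by
      push_cast [Nat.cast_sub hone]
      linear_combination -h2
    exact_mod_cast this
  have hdiv : D.q ^ 2 ∣ mb * ((D.q ^ 2 - 1) * a) := by
    rw [← mul_assoc, ← ha, h3]
    exact dvd_add (dvd_mul_right _ _) (dvd_mul_of_dvd_left (pow_dvd_pow _ (by norm_num)) _)
  have hc1 : (D.q ^ 2).Coprime mb := ((torOrder_coprime hmb).1.symm).pow_left 2
  have hc2 : (D.q ^ 2).Coprime (D.q ^ 2 - 1) := by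
    conv_lhs => rw [← Nat.sub_add_cancel hone]
    simp [Nat.coprime_self_add_left]
  obtain ⟨i, rfl⟩ := hc2.dvd_of_dvd_mul_left (hc1.dvd_of_dvd_mul_left hdiv)
  refine ⟨i, Nat.pos_of_ne_zero fun h => ?_, by rw [ha]; ring⟩
  subst h
  haveI : Nonempty (ptOrb M v) := ⟨⟨v, mem_ptOrb_self M v⟩⟩
  have h4 : 0 < Nat.card (ptOrb M v) := Nat.card_pos
  rw [ha] at h4
  simp at h4

theorem card_iso_orbit (hn : Module.finrank F V = 5) (hq : 3 ≤ D.q) {M : Subgroup (V ≃ₗ[F] V)} (hM : M ≤ D.iso)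
    (hE : D.Eig M) {d mb : ℕ} (hmb : torOrder D.q = d * mb)
    (hpts : ∀ S : Set V, IsPointSet M S → (0 : V) ∉ S → mb * (D.q ^ 2 - 1) ∣ Nat.card S) {u : V}
    (hu : D.nrm u = 0) (hu0 : u ≠ 0) :
    ∃ k, 0 < k ∧ Nat.card (ptOrb M u) = (D.q ^ 2 - 1) * (mb * ((D.q ^ 2 + 1) * k)) := by
  classical
  have hS := isPointSet_ptOrb M u
  have h0S : (0 : V) ∉ ptOrb M u := fun h => hu0 ((D.ptOrb_nrm hM h).2.1 rfl)
  obtain ⟨a, ha⟩ := hpts _ hS h0S
  have h1 : ((D.q : ℂ) ^ 4 - 1) * D.ft (oneP (ptOrb M u)) u =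
      ((D.q : ℂ) ^ 4 - 1) * (D.q : ℂ) ^ 4 - (Nat.card (ptOrb M u) : ℂ) := by
    have hsupp : ∀ w, oneP (ptOrb M u) w ≠ 0 → D.nrm w = 0 ∧ w ≠ 0 := fun w hw => by
      have hm : w ∈ ptOrb M u := by by_contra h; exact hw (if_neg h)
      exact ⟨(D.ptOrb_nrm hM hm).1.2 hu, fun h => hu0 ((D.ptOrb_nrm hM hm).2.1 h)⟩
    rw [D.ft_iso hn hM hE (pinv_oneP hS) hsupp hu hu0, sum_oneP, oneP, if_pos (mem_ptOrb_self M u), mul_one]
  have h2 := D.card_perp hS u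
  obtain ⟨n, hP⟩ := D.scal_dvd (S := {w | w ∈ ptOrb M u ∧ D.form u w = 0})
    (fun c w hc hw => ⟨hS.2 c w hc hw.1, by rw [D.form_smul_right, hw.2, mul_zero]⟩) (fun h => h0S h.1)
  rw [hP] at h2
  rw [ha] at h1 h2
  have hone : 1 ≤ D.q ^ 2 := Nat.one_le_pow _ _ (by omega)
  have hne : ((D.q : ℂ) ^ 2 - 1) * (D.q : ℂ) ^ 2 ≠ 0 := by
    refine mul_ne_zero ?_ (pow_ne_zero _ (Nat.cast_ne_zero.2 (by omega)))
    rw [sub_ne_zero]
    exact_mod_cast (Nat.one_lt_pow two_ne_zero D.two_le).ne'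
  have h3 : (D.q ^ 2 + 1) * n = (D.q ^ 2 + 1) * D.q ^ 2 + mb * a := by
    have : (((D.q ^ 2 + 1) * n : ℕ) : ℂ) = (((D.q ^ 2 + 1) * D.q ^ 2 + mb * a : ℕ) : ℂ) := by
      refine mul_left_cancel₀ hne ?_
      push_cast [Nat.cast_sub hone] at h1 h2 ⊢
      linear_combination ((D.q : ℂ) ^ 2 + 1) * h2 + h1
    exact_mod_cast this
  have hdiv : D.q ^ 2 + 1 ∣ mb * a :=
    (Nat.dvd_add_right (dvd_mul_right _ _)).1 ⟨n, h3.symm⟩
  obtain ⟨k, rfl⟩ := (torOrder_coprime hmb).2.symm.dvd_of_dvd_mul_left hdiv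
  refine ⟨k, Nat.pos_of_ne_zero fun h => ?_, by rw [ha]; ring⟩
  subst h
  haveI : Nonempty (ptOrb M u) := ⟨⟨u, mem_ptOrb_self M u⟩⟩
  have h4 : 0 < Nat.card (ptOrb M u) := Nat.card_pos
  rw [ha] at h4
  simp at h4

end Data

end CfsgLib.MaxSub.SU5Quintic
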