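/-
A linear constituent gives a rank one idempotent: its coefficients and their pure state identity.
-/
import Cfsg.Agent.Lib.MaxSub.SU5Quintic.OrbitsCount

set_option autoImplicit false
set_option linter.unusedSectionVars false
set_option linter.style.haveILetI false
set_option maxHeartbeats 1000000

namespace CfsgLib.MaxSub.SU5Quintic

open scoped BigOperators ComplexConjugate
open Cfsg CfsgLib.CharTheory

universe u v

namespace Data

variable {F : Type u} [Field F] [Fintype F] {V : Type v} [AddCommGroup V] [Module F V] (D : Data F V) [Fintype V]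
  [DecidableEq V]

open Classical in
/-- The twisted Gauss sum of a character of the scalars of norm one. -/
noncomputable def bsum (om : D.circ →* ℂˣ) (s : F) : ℂ :=
  ∑ lam ∈ (Finset.univ : Finset D.circ).erase 1, ((om lam : ℂˣ) : ℂ) * D.psi (-(D.parU lam * s))

/-- The weight of a coefficient function. -/
noncomputable def wt (Φ : V → ℂ) (v : V) : ℂ := Φ v * Φ v * D.psi (-D.nrm v)

theorem exists_negOne : ∃ lam : D.circ, ((lam : Fˣ) : F) = -1 := by
  refine ⟨⟨-1, D.mem_circ.2 (Units.ext ?_)⟩, by simp⟩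
  rw [Units.val_pow_eq_pow_val, Units.val_neg, Units.val_one, pow_succ, ← D.σ_apply, map_neg, map_one,
    neg_mul_neg, one_mul]

theorem Inv.even {M : Subgroup (V ≃ₗ[F] V)} {f : V → ℂ} (hf : D.Inv M f) (v : V) : f (-v) = f v := by
  obtain ⟨lam, hl⟩ := D.exists_negOne
  rw [← neg_one_smul F v, ← hl]
  exact hf.2 lam v

open Classical in
/-- What a linear constituent gives. -/
structure Line (M : Subgroup (V ≃ₗ[F] V)) (om : D.circ →* ℂˣ) (Φ : V → ℂ) : Prop where
  inv : D.Inv M Φ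
  zero : Φ 0 = 1
  eqn : ∀ s : F, D.σ s = s → ∀ x, ∑ v, (if D.nrm v = s then D.coc v (x - v) * Φ (x - v) else 0) =
    -(D.q : ℂ) ^ 4 * D.bsum om s * Φ x
  mass : ∑ v, D.wt Φ v = (D.q : ℂ) ^ 5
  pure : ∀ y, D.ft (D.wt Φ) (D.σ (D.xi - D.σ D.xi) • y) = (D.q : ℂ) ^ 5 * D.wt Φ y

theorem exists_line (hn : Module.finrank F V = 5) {M : Subgroup (V ≃ₗ[F] V)} [Fintype M] (hM : M ≤ D.iso)
    {om : D.circ →* ℂˣ} {eta : M →* ℂˣ}
    (h : classInner (fun g : M => D.theta om (g : V ≃ₗ[F] V)) (fun g : M => (eta g : ℂ)) = 1) :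
    ∃ Φ : V → ℂ, D.Line M om Φ := by
  classical
  have hq : (D.q : ℂ) ≠ 0 := Nat.cast_ne_zero.2 (by have := D.two_le; omega)
  have hq5 : ((D.q : ℂ) ^ 5) ≠ 0 := pow_ne_zero _ hq
  have hcard : (Nat.card M : ℂ) ≠ 0 := Nat.cast_ne_zero.2 Nat.card_pos.ne'
  set Q : Alg D := (Nat.card M : ℂ)⁻¹ •
    ∑ g : M, ((eta g⁻¹ : ℂˣ) : ℂ) • (D.pom om * D.weil (g : V ≃ₗ[F] V)) with hQ
  have hleft : ∀ k : M, D.weil (k : V ≃ₗ[F] V) * Q = ((eta k : ℂˣ) : ℂ) • Q := by
    intro k
    rw [hQ, mul_smul_comm, smul_comm ((eta k : ℂˣ) : ℂ), Finset.mul_sum]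
    congr 1
    rw [Finset.smul_sum]
    refine Fintype.sum_equiv (Equiv.mulLeft k) _ _ fun g => ?_
    rw [mul_smul_comm, ← mul_assoc, ← D.pom_comm om (hM k.2), mul_assoc, ← D.weil_mul (hM k.2) (hM g.2),
      ← Subgroup.coe_mul, Equiv.coe_mulLeft, smul_smul, ← Units.val_mul]
    congr 2
    rw [map_inv, map_inv, map_mul, mul_inv, ← mul_assoc, mul_inv_cancel, one_mul]
  have hright : ∀ k : M, Q * D.weil (k : V ≃ₗ[F] V) = ((eta k : ℂˣ) : ℂ) • Q := by
    intro k
    rw [hQ, smul_mul_assoc, smul_comm ((eta k : ℂˣ) : ℂ), Finset.sum_mul]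
    congr 1
    rw [Finset.smul_sum]
    refine Fintype.sum_equiv (Equiv.mulRight k) _ _ fun g => ?_
    rw [smul_mul_assoc, mul_assoc, ← D.weil_mul (hM g.2) (hM k.2), ← Subgroup.coe_mul, Equiv.coe_mulRight,
      smul_smul, ← Units.val_mul, ← map_mul, mul_inv_rev, ← mul_assoc, mul_inv_cancel, one_mul]
  have hlam : ∀ lam : D.circ, D.weil (scal (lam : Fˣ)) * Q = ((om lam : ℂˣ) : ℂ) • Q := by
    intro lam
    rw [hQ, mul_smul_comm, smul_comm ((om lam : ℂˣ) : ℂ), Finset.mul_sum]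
    congr 1
    rw [Finset.smul_sum]
    refine Finset.sum_congr rfl fun g _ => ?_
    rw [mul_smul_comm, ← mul_assoc, D.pom_absorb, smul_mul_assoc, smul_comm]
  have hlamc : ∀ lam : D.circ, Q * D.weil (scal (lam : Fˣ)) = D.weil (scal (lam : Fˣ)) * Q := by
    intro lam
    rw [hQ, mul_smul_comm, smul_mul_assoc, Finset.mul_sum, Finset.sum_mul]
    congr 1
    refine Finset.sum_congr rfl fun g _ => ?_
    rw [mul_smul_comm, smul_mul_assoc, mul_assoc, ← D.weil_scal_comm lam (hM g.2), ← mul_assoc,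
      D.pom_comm om (D.scal_mem_iso lam.2), mul_assoc]
  have hQQ : Q * Q = Q := by
    have h1 : ∀ g : M, (((eta g⁻¹ : ℂˣ) : ℂ) • (D.pom om * D.weil (g : V ≃ₗ[F] V))) * Q = Q := by
      intro g
      rw [smul_mul_assoc, mul_assoc, hleft, mul_smul_comm, smul_smul, ← Units.val_mul, ← map_mul, inv_mul_cancel,
        map_one, Units.val_one, one_smul, hQ, mul_smul_comm, Finset.mul_sum]
      congr 1
      refine Finset.sum_congr rfl fun k _ => ?_
      rw [mul_smul_comm, ← mul_assoc, D.pom_idem]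
    conv_lhs => arg 1; rw [hQ]
    rw [smul_mul_assoc, Finset.sum_mul, Finset.sum_congr rfl fun g _ => h1 g, Finset.sum_const, Finset.card_univ,
      ← Nat.card_eq_fintype_card, ← Nat.cast_smul_eq_nsmul ℂ, smul_smul, inv_mul_cancel₀ hcard, one_smul]
  have htau : D.tau Q = 1 := by
    rw [← h, hQ, D.tau_smul, D.tau_sum, classInner]
    congr 1
    refine Finset.sum_congr rfl fun g _ => ?_
    rw [D.tau_smul, D.tau_pom_weil om (hM g.2), ← char_apply_inv (isCharacter_of_irr (isIrrCharacter_linear eta)) g,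
      mul_comm]
  have hQ0 : Q ≠ 0 := fun h0 => by
    rw [h0, tau] at htau
    have h1 : (0 : Alg D) (0 : V) = 0 := rfl
    rw [h1, mul_zero] at htau
    exact zero_ne_one htau
  have hline : ∀ X : Alg D, Q * X * Q = D.tau (Q * X) • Q := by
    intro X
    obtain ⟨c, hc⟩ := idem_line (D.lr Q Q)
      (fun x => by simp only [D.lr_apply, mul_assoc]; rw [hQQ, ← mul_assoc Q Q, hQQ])
      (by rw [D.trace_lr, htau, one_mul]) (by rw [D.lr_apply, hQQ, hQQ]) hQ0 X
    rw [D.lr_apply, ← mul_assoc] at hc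
    have h1 := congrArg D.tau hc
    rw [D.tau_smul, htau, mul_one, D.tau_comm, ← mul_assoc, hQQ] at h1
    rw [hc, h1]
  have hfix : ∀ g ∈ D.iso, D.weil g * Q = Q * D.weil g → ∀ v, Q (g v) = Q v := by
    intro g hg hcomm v
    rw [D.weil_twist hg] at hcomm
    have h1 := congrArg (fun a => a * D.weil g⁻¹) hcomm
    simp only [mul_assoc, ← D.weil_mul hg (D.iso.inv_mem hg), mul_inv_cancel, D.weil_one, mul_one] at h1
    have h2 := congrFun h1 (g v)
    simp only [pull] at h2
    rw [← LinearEquiv.mul_apply, inv_mul_cancel, LinearEquiv.coe_one, id] at h2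
    exact h2.symm
  have hinvQ : D.Inv M Q :=
    ⟨fun g hg v => hfix g (hM hg) ((hleft ⟨g, hg⟩).trans (hright ⟨g, hg⟩).symm) v,
      fun lam v => hfix _ (D.scal_mem_iso lam.2) (hlamc lam).symm v⟩
  have heven : ∀ v, Q (-v) = Q v := fun v => Inv.even D hinvQ v
  have hn' : ∀ a : Alg D, D.tau a = (D.q : ℂ) ^ 5 * a 0 := fun a => by rw [tau, hn]
  refine ⟨fun v => (D.q : ℂ) ^ 5 * Q v, ⟨?_, ?_⟩, ?_, ?_, ?_, ?_⟩
  · exact fun g hg v => congrArg _ (hinvQ.1 g hg v)
  · exact fun lam v => congrArg _ (hinvQ.2 lam v)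
  · show (D.q : ℂ) ^ 5 * Q 0 = 1
    rw [← hn', htau]
  · intro s hs x
    have h1 : ∀ lam : D.circ, lam ≠ 1 →
        ∑ v, D.psi (D.parU lam * D.nrm v) * (D.coc v (x - v) * ((D.q : ℂ) ^ 5 * Q (x - v))) =
          -(D.q : ℂ) ^ 5 * ((om lam : ℂˣ) : ℂ) * ((D.q : ℂ) ^ 5 * Q x) := by
      intro lam hl
      have h2 := congrFun (hlam lam) x
      rw [D.mul_apply, D.smul_apply] at h2
      calc ∑ v, D.psi (D.parU lam * D.nrm v) * (D.coc v (x - v) * ((D.q : ℂ) ^ 5 * Q (x - v)))
          = -((D.q : ℂ) ^ 5) ^ 2 * ∑ v, D.weil (scal (lam : Fˣ)) v * Q (x - v) * D.coc v (x - v) := by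
            rw [Finset.mul_sum]
            refine Finset.sum_congr rfl fun v _ => ?_
            rw [D.weil_scal_apply hn hl]
            field_simp
        _ = _ := by rw [h2]; ring
    refine mul_left_cancel₀ hq ?_
    have h3 : (D.q : ℂ) * ∑ v, (if D.nrm v = s then D.coc v (x - v) * ((D.q : ℂ) ^ 5 * Q (x - v)) else 0) =
        ∑ r ∈ D.re, D.psi (-(r * s)) *
          ∑ v, D.psi (r * D.nrm v) * (D.coc v (x - v) * ((D.q : ℂ) ^ 5 * Q (x - v))) := by
      simp only [Finset.mul_sum]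
      rw [Finset.sum_comm]
      refine Finset.sum_congr rfl fun v _ => ?_
      simp only [← mul_assoc, ← D.psi_add]
      simp only [mul_assoc, ← Finset.sum_mul]
      rw [Finset.sum_congr rfl (g := fun r => D.psi (r * (D.nrm v - s))) fun r _ => by congr 1; ring,
        D.sum_re_psi (by rw [map_sub, D.real_nrm, hs])]
      simp only [sub_eq_zero]
      split_ifs <;> ring
    rw [h3, ← D.sum_circ, Finset.sum_congr rfl fun lam hl => by rw [h1 lam (Finset.ne_of_mem_erase hl)],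
      bsum, Finset.mul_sum, Finset.sum_mul, Finset.mul_sum]
    exact Finset.sum_congr rfl fun lam _ => by ring
  · have h1 := congrFun hQQ (0 : V)
    rw [D.mul_apply_zero] at h1
    calc ∑ v, D.wt (fun v => (D.q : ℂ) ^ 5 * Q v) v
        = ((D.q : ℂ) ^ 5) ^ 2 * ∑ v, Q v * Q (-v) * D.psi (-D.nrm v) := by
          rw [Finset.mul_sum]
          refine Finset.sum_congr rfl fun v _ => ?_
          rw [heven, wt]
          ring
      _ = (D.q : ℂ) ^ 5 * D.tau Q := by rw [h1, hn']; ring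
      _ = (D.q : ℂ) ^ 5 := by rw [htau, mul_one]
  · intro y
    have hW : ∀ v, D.tau (Q * D.sgl v) * D.tau (Q * D.sglInv v) = D.wt (fun v => (D.q : ℂ) ^ 5 * Q v) v := by
      intro v
      rw [sglInv, mul_smul_comm, D.tau_smul, hn', hn', D.mul_sgl, D.mul_sgl, zero_sub, zero_sub, neg_neg, heven,
        D.coc_neg_left, wt, ← D.coc_neg_self, D.coc_neg_right]
      field_simp [D.coc_ne_zero]
    have hconj : ∀ v, D.sgl y * D.sglInv v * D.sglInv y = (D.coc v y / D.coc y v) • D.sglInv v := by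
      intro v
      funext x
      rw [D.conj_sgl, D.smul_apply]
      by_cases hx : x = -v
      · subst hx
        rw [D.coc_neg_left, D.coc_neg_right]
        field_simp [D.coc_ne_zero]
      · have hz : D.sglInv v x = 0 := by rw [sglInv, D.smul_apply, sgl, if_neg hx, mul_zero]
        rw [hz]; ring
    have hsum : ∀ X : Alg D, ∑ v, D.sgl v * X * D.sglInv v = ((Fintype.card V : ℂ) * X 0) • (1 : Alg D) := by
      intro X
      funext x
      rw [D.smul_apply, D.one_apply]
      have : (∑ v, D.sgl v * X * D.sglInv v : Alg D) x = ∑ v, X x * (D.coc v x / D.coc x v) :=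
        (Finset.sum_apply (M := fun _ => ℂ) x _ _).trans (Finset.sum_congr rfl fun v _ => D.conj_sgl v X x)
      rw [this, ← Finset.mul_sum]
      by_cases hx : x = 0
      · subst hx
        simp [D.coc_zero_left, D.coc_zero_right, mul_comm]
      · rw [D.sum_comm_ratio hx, if_neg hx, mul_zero, mul_zero]
    have hterm : ∀ v, D.chi (D.σ (D.xi - D.σ D.xi) • y) v *
        D.wt (fun v => (D.q : ℂ) ^ 5 * Q v) v =
        D.tau (Q * (D.sgl v * (Q * D.sgl y) * D.sglInv v) * D.sglInv y) := by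
      intro v
      have hk : D.chi (D.σ (D.xi - D.σ D.xi) • y) v = D.coc v y / D.coc y v := by
        rw [chi, D.form_smul_left, ← D.herm v y, ← map_mul, D.tr_σ, D.coc_eq, D.coc_eq, div_eq_mul_inv,
          ← AddChar.map_neg_eq_inv, ← D.psi_add]
        congr 1
        rw [← D.herm v y]
        simp only [tr, map_mul, map_sub, D.σσ]
        ring
      have h1 : Q * (D.sgl v * (Q * D.sgl y) * D.sglInv v) * D.sglInv y =
          (D.coc v y / D.coc y v) • (D.tau (Q * D.sgl v) • (Q * D.sglInv v)) := by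
        rw [← smul_mul_assoc (D.tau (Q * D.sgl v)) Q, ← hline, ← mul_smul_comm, ← hconj]
        simp only [mul_assoc]
      rw [h1, D.tau_smul, D.tau_smul, hW, hk]
    rw [ft_apply, Finset.sum_congr rfl fun v _ => hterm v, ← D.tau_sum, ← Finset.sum_mul, ← Finset.mul_sum, hsum,
      mul_smul_comm, mul_one, smul_mul_assoc, D.tau_smul, ← hW, D.card_V hn, hn' (Q * D.sgl y)]
    ring

end Data

end CfsgLib.MaxSub.SU5Quintic
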