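/-
Two orbits of each kind are impossible.
-/
import Cfsg.Agent.Lib.MaxSub.SU5Quintic.OrbitsLine
import Cfsg.Agent.Lib.MaxSub.SU5Quintic.OrbitsCard

set_option autoImplicit false
set_option linter.unusedSectionVars false
set_option linter.style.haveILetI false
set_option maxHeartbeats 1000000

namespace CfsgLib.MaxSub.SU5Quintic

open scoped BigOperators ComplexConjugate
open Cfsg CfsgLib.CharTheory

universe u v

namespace Data

variable {F : Type u} [Field F] [Fintype F] {V : Type v} [AddCommGroup V] [Module F V] (D : Data F V) [Fintype V]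
  [DecidableEq V]

open Classical in
theorem bsum_zero {om : D.circ →* ℂˣ} (hom : om ≠ 1) : D.bsum om 0 = -1 := by
  rw [bsum]
  simp only [mul_zero, neg_zero, D.psi_zero, mul_one]
  rw [Finset.sum_erase_eq_sub (Finset.mem_univ _), map_one, Units.val_one]
  have h : ∑ lam : D.circ, ((om lam : ℂˣ) : ℂ) = 0 := by
    obtain ⟨a, ha⟩ : ∃ a, om a ≠ 1 := by
      by_contra hh
      push Not at hh
      exact hom (MonoidHom.ext hh)
    have h1 : ((om a : ℂˣ) : ℂ) * ∑ lam : D.circ, ((om lam : ℂˣ) : ℂ) = ∑ lam : D.circ, ((om lam : ℂˣ) : ℂ) := by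
      rw [Finset.mul_sum]
      exact Fintype.sum_equiv (Equiv.mulLeft a) _ _ fun x => by simp
    by_contra h0
    exact ha (Units.ext (by rw [Units.val_one, ← mul_eq_right₀ h0]; exact h1))
  rw [h, zero_sub]

open Classical in
theorem psi_bsum {om : D.circ →* ℂˣ} {s : F} :
    D.psi s * D.bsum om s =
      ∑ lam ∈ (Finset.univ : Finset D.circ).erase 1, ((om lam : ℂˣ) : ℂ)⁻¹ * D.psi (D.parU lam * s) := by
  rw [bsum, Finset.mul_sum]
  refine Finset.sum_nbij' (fun a => a⁻¹) (fun a => a⁻¹) ?_ ?_ ?_ ?_ ?_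
  · intro a ha
    simpa using ha
  · intro a ha
    simpa using ha
  · intro a _; simp
  · intro a _; simp
  · intro a ha
    have h := D.parU_inv (Finset.ne_of_mem_erase ha)
    rw [map_inv, Units.val_inv_eq_inv_val, inv_inv, mul_left_comm, ← D.psi_add]
    congr 2
    linear_combination (-s) * h

open Classical in
/-- The weights of the levels. -/
theorem sum_level_weight {om : D.circ →* ℂˣ} (hom : om ≠ 1) :
    ∑ e ∈ D.re.erase 0, D.psi e * (D.bsum om e * D.bsum om e) = (D.q : ℂ) ^ 2 - 1 := by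
  rw [Finset.sum_erase_eq_sub D.zero_mem_re, D.psi_zero, D.bsum_zero hom]
  have h : ∑ e ∈ D.re, D.psi e * (D.bsum om e * D.bsum om e) = (D.q : ℂ) ^ 2 := by
    calc ∑ e ∈ D.re, D.psi e * (D.bsum om e * D.bsum om e)
        = ∑ b ∈ (Finset.univ : Finset D.circ).erase 1, ∑ a ∈ (Finset.univ : Finset D.circ).erase 1,
            ((om b : ℂˣ) : ℂ)⁻¹ * ((om a : ℂˣ) : ℂ) * ∑ e ∈ D.re, D.psi (e * (D.parU b - D.parU a)) := by
          rw [Finset.sum_congr rfl fun e _ => by rw [← mul_assoc, D.psi_bsum, bsum, Finset.sum_mul_sum],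
            Finset.sum_comm]
          refine Finset.sum_congr rfl fun b _ => ?_
          rw [Finset.sum_comm]
          refine Finset.sum_congr rfl fun a _ => ?_
          rw [Finset.mul_sum]
          refine Finset.sum_congr rfl fun e _ => ?_
          rw [show e * (D.parU b - D.parU a) = D.parU b * e + -(D.parU a * e) by ring, D.psi_add]
          ring
      _ = ∑ _b ∈ (Finset.univ : Finset D.circ).erase 1, (D.q : ℂ) := by
          refine Finset.sum_congr rfl fun b hb => ?_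
          rw [Finset.sum_eq_single b]
          · rw [sub_self, D.sum_re_psi (map_zero _), if_pos rfl, inv_mul_cancel₀ (Units.ne_zero _), one_mul]
          · intro a ha hne
            have hb1 := Finset.ne_of_mem_erase hb
            have ha1 := Finset.ne_of_mem_erase ha
            rw [D.sum_re_psi (by rw [map_sub, D.parU_real hb1, D.parU_real ha1]), if_neg, mul_zero]
            intro h0
            exact hne (Subtype.ext (Units.ext (D.par_inj (D.circ_val_ne_one ha1) (D.circ_val_ne_one hb1)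
              (sub_eq_zero.1 h0).symm)))
          · intro h; exact absurd hb h
      _ = (D.q : ℂ) ^ 2 := by
          rw [D.sum_circ (fun _ => (D.q : ℂ)), Finset.sum_const, D.card_re, nsmul_eq_mul, sq]
  rw [h]
  ring

/-- The eigen equation at an isotropic vector selects one level. -/
theorem Line.at_iso {M : Subgroup (V ≃ₗ[F] V)} (hM : M ≤ D.iso) (hE : D.Eig M) {om : D.circ →* ℂˣ} {Φ : V → ℂ}
    (hL : D.Line M om Φ) (hiso : ScalInv (F := F) fun v => D.isoOne v * Φ v) {e : F} (he : D.σ e = e) (he0 : e ≠ 0)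
    {x : V} (hx : D.nrm x = 0) :
    D.ft (D.lev e Φ) x = -(D.q : ℂ) ^ 4 * (D.psi e * D.bsum om e) * Φ x := by
  classical
  let φ : F → F → ℂ := fun a t => if D.tr t = a - e then D.psi (D.tr (D.xi * t)) * D.psi (-a) else 0
  have hφs : ∀ a : F, D.σ a = a → ∑ t, φ a t = 0 := by
    intro a ha
    have h := D.sum_line_psi (a := a - e) (by rw [map_sub, ha, he])
    calc ∑ t, φ a t = (∑ t : F, if D.tr t = a - e then D.psi (D.tr (D.xi * t)) else 0) * D.psi (-a) := by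
          rw [Finset.sum_mul]
          exact Finset.sum_congr rfl fun t _ => by simp only [φ]; split_ifs <;> ring
      _ = 0 := by rw [h, zero_mul]
  have hlevel : ∀ a ∈ D.re.erase 0, ∑ w, D.lev a Φ w * φ a (D.form x w) =
      if a = e then D.psi (-e) * D.ft (D.lev e Φ) x else 0 := by
    intro a ha
    have ha' := D.mem_re.1 (Finset.mem_of_mem_erase ha)
    rw [D.level_avg hM hE hL.inv ha' (Finset.ne_of_mem_erase ha) hx, hφs a ha', zero_div, sub_zero, zero_mul, add_zero]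
    simp only [φ, D.tr_zero, mul_zero, D.psi_zero, one_mul]
    split_ifs with h1 h2 h2
    · rw [h2]
    · exact absurd (sub_eq_zero.1 h1.symm) h2
    · exact absurd (by rw [h2, sub_self]) h1
    · ring
  have hI : ∑ w, D.isoOne w * Φ w * φ 0 (D.form x w) = 0 := by
    rw [D.scal_avg hiso, hφs 0 (map_zero _), zero_div, sub_zero, zero_mul, add_zero]
    simp only [φ, D.tr_zero, zero_sub]
    rw [if_neg fun h => he0 (neg_eq_zero.1 h.symm), zero_mul]
  have hsplit : ∀ w, (if D.nrm (x - w) = e then D.coc (x - w) w * Φ w else 0) =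
      D.isoOne w * Φ w * φ 0 (D.form x w) + ∑ a ∈ D.re.erase 0, D.lev a Φ w * φ a (D.form x w) := by
    intro w
    have hiff : D.nrm (x - w) = e ↔ D.tr (D.form x w) = D.nrm w - e := by
      rw [D.nrm_sub, hx, zero_sub, neg_add_eq_sub]
      exact sub_eq_iff_eq_add.trans (eq_sub_iff_add_eq'.trans eq_comm).symm
    have hco : D.coc (x - w) w = D.psi (D.tr (D.xi * D.form x w)) * D.psi (-D.nrm w) := by
      rw [D.coc_eq, map_sub, LinearMap.sub_apply, ← nrm, mul_sub, D.tr_sub, D.tr_xi_real (D.real_nrm w),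
        sub_eq_add_neg, D.psi_add]
    have hval : (if D.nrm (x - w) = e then D.coc (x - w) w * Φ w else 0) = Φ w * φ (D.nrm w) (D.form x w) := by
      simp only [φ, hco, hiff]
      split_ifs <;> ring
    rw [hval]
    by_cases hw : D.nrm w = 0
    · rw [Finset.sum_eq_zero fun a ha => by
        rw [lev, if_neg (by rw [hw]; exact (Finset.ne_of_mem_erase ha).symm), zero_mul]]
      rw [add_zero, hw]
      by_cases hw0 : w = 0
      · subst hw0
        simp only [map_zero, φ, D.tr_zero, zero_sub]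
        rw [if_neg fun h => he0 (neg_eq_zero.1 h.symm), mul_zero, mul_zero]
      · rw [D.isoOne_apply hw hw0, one_mul]
    · have h0 : D.isoOne w = 0 := by by_contra h; exact hw (D.isoOne_supp h).1
      rw [h0, zero_mul, zero_mul, zero_add, Finset.sum_eq_single (D.nrm w)]
      · rw [lev, if_pos rfl]
      · intro a _ ha
        rw [lev, if_neg (Ne.symm ha), zero_mul]
      · intro h
        exact absurd (Finset.mem_erase.2 ⟨hw, D.mem_re.2 (D.real_nrm w)⟩) h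
  have h := hL.eqn e he x
  rw [← (Equiv.subLeft x).sum_comp] at h
  simp only [Equiv.subLeft_apply, sub_sub_cancel] at h
  rw [Finset.sum_congr rfl fun w _ => hsplit w, Finset.sum_add_distrib, hI, zero_add, Finset.sum_comm,
    Finset.sum_congr rfl hlevel, Finset.sum_ite_eq', if_pos (Finset.mem_erase.2 ⟨he0, D.mem_re.2 he⟩)] at h
  have hpp : D.psi e * D.psi (-e) = 1 := by rw [← D.psi_add, add_neg_cancel, D.psi_zero]
  linear_combination D.psi e * h - D.ft (D.lev e Φ) x * hpp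

theorem two_orb_false (hn : Module.finrank F V = 5) (hq : 3 ≤ D.q) {M : Subgroup (V ≃ₗ[F] V)} [Fintype M]
    (hM : M ≤ D.iso) (hE : D.Eig M) {d mb : ℕ} (hd : d = 1 ∨ d = 5) (hd5 : d = 5 → D.q % 5 = 4 ∧ D.q ≠ 4)
    (hmb : torOrder D.q = d * mb)
    (hpts : ∀ S : Set V, IsPointSet M S → (0 : V) ∉ S → mb * (D.q ^ 2 - 1) ∣ Nat.card S)
    (hside : d = 5 → ∃ f, 13 ≤ f ∧ f ∣ D.q ^ 2 + 1 ∧ ∀ S : Set V, IsPointSet M S → (0 : V) ∉ S →
      (∀ v ∈ S, D.nrm v ≠ 0) → ∃ j, Nat.card S = (D.q ^ 2 - 1) * j ∧ (j % f = 0 ∨ j % f = 1))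
    {v₁ v₂ u₁ u₂ : V} (T : D.TwoOrb M v₁ v₂ u₁ u₂) : False := by
  classical
  obtain ⟨om, hom, eta, heta⟩ := T.split
  obtain ⟨Φ, hL⟩ := D.exists_line hn hM heta
  obtain ⟨i, hi, hA₁⟩ := D.card_ani_orbit hn hq hM hE hmb hpts T.ani₁
  obtain ⟨i', hi', hA₂⟩ := D.card_ani_orbit hn hq hM hE hmb hpts T.ani₂
  obtain ⟨k, hk, hK₁⟩ := D.card_iso_orbit hn hq hM hE hmb hpts T.iso₁.1 T.iso₁.2
  obtain ⟨k', hk', hK₂⟩ := D.card_iso_orbit hn hq hM hE hmb hpts T.iso₂.1 T.iso₂.2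
  set a₁ : V → ℂ := oneP (ptOrb M v₁) with ha₁
  set a₂ : V → ℂ := oneP (ptOrb M v₂) with ha₂
  set b₁ : V → ℂ := oneP (ptOrb M u₁) with hb₁
  set b₂ : V → ℂ := oneP (ptOrb M u₂) with hb₂
  have hPa₁ : PInv M a₁ := pinv_oneP (isPointSet_ptOrb M v₁)
  have hPa₂ : PInv M a₂ := pinv_oneP (isPointSet_ptOrb M v₂)
  have hPb₁ : PInv M b₁ := pinv_oneP (isPointSet_ptOrb M u₁)
  have hPb₂ : PInv M b₂ := pinv_oneP (isPointSet_ptOrb M u₂)
  -- the values of the indicators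
  have hani : ∀ w, D.nrm w ≠ 0 → b₁ w = 0 ∧ b₂ w = 0 ∧
      ((w ∈ ptOrb M v₁ ∧ a₁ w = 1 ∧ a₂ w = 0) ∨ (w ∈ ptOrb M v₂ ∧ a₁ w = 0 ∧ a₂ w = 1)) := by
    intro w hw
    refine ⟨if_neg fun h => hw ((D.ptOrb_nrm hM h).1.2 T.iso₁.1), if_neg fun h => hw ((D.ptOrb_nrm hM h).1.2 T.iso₂.1), ?_⟩
    rcases T.cover_ani w hw with h | h
    · exact Or.inl ⟨h, if_pos h, if_neg fun h' => T.sep_ani (ptOrb_trans h (ptOrb_symm h'))⟩
    · exact Or.inr ⟨h, if_neg fun h' => T.sep_ani (ptOrb_trans h' (ptOrb_symm h)), if_pos h⟩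
  have hiso : ∀ w, D.nrm w = 0 → w ≠ 0 → a₁ w = 0 ∧ a₂ w = 0 ∧
      ((w ∈ ptOrb M u₁ ∧ b₁ w = 1 ∧ b₂ w = 0) ∨ (w ∈ ptOrb M u₂ ∧ b₁ w = 0 ∧ b₂ w = 1)) := by
    intro w hw hw0
    refine ⟨if_neg fun h => T.ani₁ ((D.ptOrb_nrm hM h).1.1 hw), if_neg fun h => T.ani₂ ((D.ptOrb_nrm hM h).1.1 hw), ?_⟩
    rcases T.cover_iso w hw hw0 with h | h
    · exact Or.inl ⟨h, if_pos h, if_neg fun h' => T.sep_iso (ptOrb_trans h (ptOrb_symm h'))⟩
    · exact Or.inr ⟨h, if_neg fun h' => T.sep_iso (ptOrb_trans h' (ptOrb_symm h)), if_pos h⟩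
  have hz : a₁ 0 = 0 ∧ a₂ 0 = 0 ∧ b₁ 0 = 0 ∧ b₂ 0 = 0 :=
    ⟨if_neg fun h => T.ani₁ (by rw [(D.ptOrb_nrm hM h).2.1 rfl, D.nrm_zero]),
      if_neg fun h => T.ani₂ (by rw [(D.ptOrb_nrm hM h).2.1 rfl, D.nrm_zero]),
      if_neg fun h => T.iso₁.2 ((D.ptOrb_nrm hM h).2.1 rfl), if_neg fun h => T.iso₂.2 ((D.ptOrb_nrm hM h).2.1 rfl)⟩
  have hsplitA : D.aniOne = fun w => a₁ w + a₂ w := by
    funext w
    by_cases hw : D.nrm w = 0
    · rw [show D.aniOne w = 0 by by_contra h; exact D.aniOne_supp h hw]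
      by_cases hw0 : w = 0
      · subst hw0; rw [hz.1, hz.2.1, add_zero]
      · rw [(hiso w hw hw0).1, (hiso w hw hw0).2.1, add_zero]
    · rw [D.aniOne_apply hw]
      rcases (hani w hw).2.2 with ⟨-, h1, h2⟩ | ⟨-, h1, h2⟩ <;> rw [h1, h2] <;> ring
  have hsplitI : D.isoOne = fun w => b₁ w + b₂ w := by
    funext w
    by_cases hw : D.nrm w = 0
    · by_cases hw0 : w = 0
      · subst hw0
        rw [show D.isoOne 0 = 0 by by_contra h; exact (D.isoOne_supp h).2 rfl, hz.2.2.1, hz.2.2.2, add_zero]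
      · rw [D.isoOne_apply hw hw0]
        rcases (hiso w hw hw0).2.2 with ⟨-, h1, h2⟩ | ⟨-, h1, h2⟩ <;> rw [h1, h2] <;> ring
    · rw [show D.isoOne w = 0 by by_contra h; exact hw (D.isoOne_supp h).1, (hani w hw).1, (hani w hw).2.1, add_zero]
  have hsa₁ : ∀ w, a₁ w ≠ 0 → D.nrm w ≠ 0 := fun w hw h0 => hw (if_neg fun h => T.ani₁ ((D.ptOrb_nrm hM h).1.1 h0))
  have hsa₂ : ∀ w, a₂ w ≠ 0 → D.nrm w ≠ 0 := fun w hw h0 => hw (if_neg fun h => T.ani₂ ((D.ptOrb_nrm hM h).1.1 h0))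
  -- the sizes
  set Q : ℂ := (D.q : ℂ) with hQdef
  have hQ : Q ≠ 0 := Nat.cast_ne_zero.2 (by omega)
  have hone : 1 ≤ D.q ^ 2 := Nat.one_le_pow _ _ (by omega)
  set cA : ℂ := (Q ^ 2 - 1) * (mb : ℂ) * Q ^ 2 with hcA
  set cK : ℂ := (Q ^ 2 - 1) * (mb : ℂ) * (Q ^ 2 + 1) with hcK
  have hsA₁ : ∑ w, a₁ w = cA * i := by
    rw [ha₁, sum_oneP, hA₁, hcA]; push_cast [Nat.cast_sub hone]; ring
  have hsA₂ : ∑ w, a₂ w = cA * i' := by
    rw [ha₂, sum_oneP, hA₂, hcA]; push_cast [Nat.cast_sub hone]; ring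
  have hsK₁ : ∑ w, b₁ w = cK * k := by
    rw [hb₁, sum_oneP, hK₁, hcK]; push_cast [Nat.cast_sub hone]; ring
  have hsK₂ : ∑ w, b₂ w = cK * k' := by
    rw [hb₂, sum_oneP, hK₂, hcK]; push_cast [Nat.cast_sub hone]; ring
  set N : ℂ := Q ^ 5 + 1 with hNdef
  have hN : N ≠ 0 := by rw [hNdef, hQdef]; exact_mod_cast Nat.succ_ne_zero (D.q ^ 5)
  have hNd : N = (Q + 1) * (d : ℂ) * (mb : ℂ) := by
    have h : D.q ^ 5 + 1 = (D.q + 1) * (d * mb) := by rw [← hmb, mul_comm, torOrder_mul]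
    rw [hNdef, hQdef, mul_assoc]
    exact_mod_cast h
  have hQ2 : Q ^ 2 - 1 ≠ 0 := by
    rw [sub_ne_zero, hQdef]; exact_mod_cast (Nat.one_lt_pow two_ne_zero D.two_le).ne'
  have hQ1 : Q - 1 ≠ 0 := by rw [sub_ne_zero, hQdef]; exact_mod_cast (by omega : D.q ≠ 1)
  have hmb0 : (mb : ℂ) ≠ 0 := fun h => hN (by rw [hNd, h, mul_zero])
  have hQ21 : Q ^ 2 + 1 ≠ 0 := by rw [hQdef]; exact_mod_cast Nat.succ_ne_zero (D.q ^ 2)
  have hQp : Q + 1 ≠ 0 := by rw [hQdef]; exact_mod_cast Nat.succ_ne_zero D.q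
  have hcA0 : cA ≠ 0 := mul_ne_zero (mul_ne_zero hQ2 hmb0) (pow_ne_zero _ hQ)
  have hcK0 : cK ≠ 0 := mul_ne_zero (mul_ne_zero hQ2 hmb0) hQ21
  have htotA : cA * i + cA * i' = (Q - 1) * (Q ^ 4 * N) := by
    rw [← hsA₁, ← hsA₂, ← Finset.sum_add_distrib, show (Q - 1) * (Q ^ 4 * N) = (Q - 1) * (Q ^ 9 + Q ^ 4) by
      rw [hNdef]; ring, ← D.sum_aniOne hn, hsplitA]
  have htotK : cK * k + cK * k' = N * (Q ^ 4 - 1) := by
    rw [← hsK₁, ← hsK₂, ← Finset.sum_add_distrib, hNdef, ← D.sum_isoOne hn, hsplitI]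
  have hsumI : (i : ℂ) + i' = (d : ℂ) * Q ^ 2 := by
    refine mul_left_cancel₀ hcA0 ?_
    rw [mul_add, htotA, hNd, hcA]; ring
  have hsumK : (k : ℂ) + k' = (d : ℂ) * (Q + 1) := by
    refine mul_left_cancel₀ hcK0 ?_
    rw [mul_add, htotK, hNd, hcK]; ring
  have hi0 : (i : ℂ) ≠ 0 := Nat.cast_ne_zero.2 hi.ne'
  have hi0' : (i' : ℂ) ≠ 0 := Nat.cast_ne_zero.2 hi'.ne'
  have hk0 : (k : ℂ) ≠ 0 := Nat.cast_ne_zero.2 hk.ne'
  have hk0' : (k' : ℂ) ≠ 0 := Nat.cast_ne_zero.2 hk'.ne'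
  have hiI : (i : ℂ) + i' ≠ 0 := by exact_mod_cast (by omega : i + i' ≠ 0)
  have hkK : (k : ℂ) + k' ≠ 0 := by exact_mod_cast (by omega : k + k' ≠ 0)
  -- the pairing of the two deviations
  set f : V → ℂ := fun w => (i' : ℂ) * a₁ w - (i : ℂ) * a₂ w with hf
  have hfP : PInv M f := hPa₁.lin hPa₂ _ _
  have hfs : ∀ w, f w ≠ 0 → D.nrm w ≠ 0 := fun w hw h0 => hw (by
    have h1 : a₁ w = 0 := by by_contra h; exact hsa₁ w h h0
    have h2 : a₂ w = 0 := by by_contra h; exact hsa₂ w h h0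
    rw [hf]; dsimp only; rw [h1, h2]; ring)
  have hfsum : ∑ w, f w = 0 := by
    rw [hf, Finset.sum_sub_distrib, ← Finset.mul_sum, ← Finset.mul_sum, hsA₁, hsA₂]; ring
  set g : V → ℂ := fun w => (k' : ℂ) * b₁ w - (k : ℂ) * b₂ w with hg
  have hgP : PInv M g := hPb₁.lin hPb₂ _ _
  have hgs : ∀ w, g w ≠ 0 → D.nrm w = 0 ∧ w ≠ 0 := fun w hw => by
    by_contra hne
    refine hw ?_
    rw [hg]; dsimp only
    by_cases h0 : w = 0
    · subst h0; rw [hz.2.2.1, hz.2.2.2]; ring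
    · have hn0 : D.nrm w ≠ 0 := fun h => hne ⟨h, h0⟩
      rw [(hani w hn0).1, (hani w hn0).2.1]; ring
  have hgsum : ∑ w, g w = 0 := by
    rw [hg, Finset.sum_sub_distrib, ← Finset.mul_sum, ← Finset.mul_sum, hsK₁, hsK₂]; ring
  have hu₁b : b₁ u₁ = 1 ∧ b₂ u₁ = 0 := ⟨if_pos (mem_ptOrb_self M u₁), if_neg fun h => T.sep_iso (ptOrb_symm h)⟩
  have hu₂b : b₁ u₂ = 0 ∧ b₂ u₂ = 1 := ⟨if_neg T.sep_iso, if_pos (mem_ptOrb_self M u₂)⟩
  have hv₁a : a₁ v₁ = 1 ∧ a₂ v₁ = 0 := ⟨if_pos (mem_ptOrb_self M v₁), if_neg fun h => T.sep_ani (ptOrb_symm h)⟩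
  have hv₂a : a₁ v₂ = 0 ∧ a₂ v₂ = 1 := ⟨if_neg T.sep_ani, if_pos (mem_ptOrb_self M v₂)⟩
  clear_value a₁ a₂ b₁ b₂
  have hgu₁ : g u₁ = k' := by rw [hg]; dsimp only; rw [hu₁b.1, hu₁b.2]; ring
  have hgu₂ : g u₂ = -(k : ℂ) := by rw [hg]; dsimp only; rw [hu₂b.1, hu₂b.2]; ring
  have hfv₁ : f v₁ = i' := by rw [hf]; dsimp only; rw [hv₁a.1, hv₁a.2]; ring
  have hfv₂ : f v₂ = -(i : ℂ) := by rw [hf]; dsimp only; rw [hv₂a.1, hv₂a.2]; ring
  have hf00 : f 0 = 0 := by by_contra h; exact hfs 0 h D.nrm_zero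
  have hg00 : g 0 = 0 := by by_contra h; exact (hgs 0 h).2 rfl
  -- the Fourier transform of `f` on isotropic vectors, of `g` on anisotropic vectors
  have hftf : ∀ w, D.ft f w = -Q ^ 4 * f w + D.ft f u₁ * b₁ w + D.ft f u₂ * b₂ w := by
    intro w
    by_cases hw : D.nrm w = 0
    · by_cases hw0 : w = 0
      · subst hw0
        rw [D.ft_zero, hfsum, hz.2.2.1, hz.2.2.2, hf00]; ring
      · obtain ⟨h1, h2, h3⟩ := hiso w hw hw0
        have hfw : f w = 0 := by rw [hf]; dsimp only; rw [h1, h2]; ring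
        rcases h3 with ⟨hm, h4, h5⟩ | ⟨hm, h4, h5⟩ <;>
          rw [hfw, h4, h5, (D.ft_pinv hM hfP).eq_of_mem hm] <;> ring
    · rw [(hani w hw).1, (hani w hw).2.1, D.ft_ani hn hM hE hfP hfs hw]; ring
  have hbal : D.ft f u₁ * (k : ℂ) + D.ft f u₂ * (k' : ℂ) = 0 := by
    have h : ∑ w, D.ft f w = 0 := by rw [← D.ft_zero, D.ft_ft, neg_zero, hf00, mul_zero]
    rw [Finset.sum_congr rfl fun w _ => hftf w, Finset.sum_add_distrib, Finset.sum_add_distrib, ← Finset.mul_sum,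
      ← Finset.mul_sum, ← Finset.mul_sum, hfsum, hsK₁, hsK₂] at h
    refine mul_left_cancel₀ hcK0 ?_
    linear_combination h
  set γ : ℂ := D.ft f u₁ / k' with hγdef
  have hftf1 : D.ft f u₁ = γ * k' := by rw [hγdef, div_mul_cancel₀ _ hk0']
  have hftf2 : D.ft f u₂ = -(γ * k) := mul_right_cancel₀ hk0' (by linear_combination hbal - (k : ℂ) * hftf1)
  have hftf' : D.ft f = fun w => γ * g w - Q ^ 4 * f w := funext fun w => by
    rw [hftf w, hftf1, hftf2, hg]; ring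
  have hftg : ∀ w, D.ft g w = Q ^ 4 * g w + D.ft g v₁ * a₁ w + D.ft g v₂ * a₂ w := by
    intro w
    by_cases hw : D.nrm w = 0
    · rw [D.ft_iso_zero hE hgP (fun y hy => (hgs y hy).1) hg00 hgsum hw]
      by_cases hw0 : w = 0
      · subst hw0; rw [hz.1, hz.2.1]; ring
      · rw [(hiso w hw hw0).1, (hiso w hw hw0).2.1]; ring
    · obtain ⟨h1, h2, h3⟩ := hani w hw
      have hgw : g w = 0 := by rw [hg]; dsimp only; rw [h1, h2]; ring
      rcases h3 with ⟨hm, h4, h5⟩ | ⟨hm, h4, h5⟩ <;>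
        rw [hgw, h4, h5, (D.ft_pinv hM hgP).eq_of_mem hm] <;> ring
  have hbal' : D.ft g v₁ * (i : ℂ) + D.ft g v₂ * (i' : ℂ) = 0 := by
    have h : ∑ w, D.ft g w = 0 := by rw [← D.ft_zero, D.ft_ft, neg_zero, hg00, mul_zero]
    rw [Finset.sum_congr rfl fun w _ => hftg w, Finset.sum_add_distrib, Finset.sum_add_distrib, ← Finset.mul_sum,
      ← Finset.mul_sum, ← Finset.mul_sum, hgsum, hsA₁, hsA₂] at h
    refine mul_left_cancel₀ hcA0 ?_
    linear_combination h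
  set β : ℂ := D.ft g v₁ / i' with hβdef
  have hftg1 : D.ft g v₁ = β * i' := by rw [hβdef, div_mul_cancel₀ _ hi0']
  have hftg2 : D.ft g v₂ = -(β * i) := mul_right_cancel₀ hi0' (by linear_combination hbal' - (i : ℂ) * hftg1)
  have hftg' : D.ft g = fun w => Q ^ 4 * g w + β * f w := funext fun w => by
    rw [hftg w, hftg1, hftg2, hf]; ring
  have hγβ : γ * β = Q ^ 8 * (Q ^ 2 - 1) := by
    have h := D.ft_ft f v₁
    rw [hftf', D.ft_sub, D.ft_smul, D.ft_smul, hftg', hftf', D.card_V hn, hfP.2.even] at h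
    have h0 : g v₁ = 0 := by by_contra h0; exact T.ani₁ (hgs v₁ h0).1
    dsimp only at h
    rw [h0, hfv₁] at h
    refine mul_right_cancel₀ hi0' ?_
    rw [← hQdef] at h
    linear_combination h
  have hγ : γ ≠ 0 := fun h0 => by
    rw [h0, zero_mul, eq_comm, mul_eq_zero] at hγβ
    exact hγβ.elim (pow_ne_zero _ hQ) hQ2
  have hgg : ∑ w, g w * g w = (k : ℂ) * k' * (cK * k + cK * k') := by
    have h : ∀ w, g w * g w = (k' : ℂ) ^ 2 * b₁ w + (k : ℂ) ^ 2 * b₂ w := fun w => by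
      by_cases hw : D.nrm w = 0 ∧ w ≠ 0
      · rcases (hiso w hw.1 hw.2).2.2 with ⟨-, h4, h5⟩ | ⟨-, h4, h5⟩ <;> rw [hg] <;> dsimp only <;>
          rw [h4, h5] <;> ring
      · have h1 : g w = 0 := by by_contra h1; exact hw (hgs w h1)
        have h2 : D.isoOne w = 0 := by by_contra h2; exact hw (D.isoOne_supp h2)
        rw [hsplitI] at h2
        dsimp only at h2
        by_cases h0 : w = 0
        · subst h0; rw [h1, hz.2.2.1, hz.2.2.2]; ring
        · have hn0 : D.nrm w ≠ 0 := fun e => hw ⟨e, h0⟩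
          rw [h1, (hani w hn0).1, (hani w hn0).2.1]; ring
    rw [Finset.sum_congr rfl fun w _ => h w, Finset.sum_add_distrib, ← Finset.mul_sum, ← Finset.mul_sum, hsK₁, hsK₂]
    ring
  have hff : ∑ w, f w * f w = (i : ℂ) * i' * (cA * i + cA * i') := by
    have h : ∀ w, f w * f w = (i' : ℂ) ^ 2 * a₁ w + (i : ℂ) ^ 2 * a₂ w := fun w => by
      by_cases hw : D.nrm w = 0
      · have h1 : a₁ w = 0 := by by_contra h; exact hsa₁ w h hw
        have h2 : a₂ w = 0 := by by_contra h; exact hsa₂ w h hw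
        rw [hf]; dsimp only; rw [h1, h2]; ring
      · rcases (hani w hw).2.2 with ⟨-, h4, h5⟩ | ⟨-, h4, h5⟩ <;> rw [hf] <;> dsimp only <;>
          rw [h4, h5] <;> ring
    rw [Finset.sum_congr rfl fun w _ => h w, Finset.sum_add_distrib, ← Finset.mul_sum, ← Finset.mul_sum, hsA₁, hsA₂]
    ring
  have hpars : γ * ∑ w, g w * g w = β * ∑ w, f w * f w := by
    have h := D.ft_duality g f
    rw [hftf', hftg'] at h
    have hfg : ∀ w, g w * f w = 0 := fun w => by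
      by_contra h1
      exact hfs w (fun h2 => h1 (by rw [h2, mul_zero])) (hgs w (fun h2 => h1 (by rw [h2, zero_mul]))).1
    have e1 : ∀ w, g w * (γ * g w - Q ^ 4 * f w) = γ * (g w * g w) := fun w => by
      linear_combination -Q ^ 4 * hfg w
    have e2 : ∀ w, f w * (Q ^ 4 * g w + β * f w) = β * (f w * f w) := fun w => by
      linear_combination Q ^ 4 * hfg w
    rw [Finset.sum_congr rfl fun w _ => e1 w, Finset.sum_congr rfl fun w _ => e2 w, ← Finset.mul_sum,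
      ← Finset.mul_sum] at h
    exact h
  have hγsq : γ ^ 2 * ((k : ℂ) * k') * (Q ^ 2 + 1) = Q ^ 12 * (Q - 1) * ((i : ℂ) * i') := by
    rw [hgg, hff, htotK, htotA] at hpars
    refine mul_left_cancel₀ (mul_ne_zero hN hQ2) ?_
    linear_combination γ * hpars + (i : ℂ) * i' * ((Q - 1) * (Q ^ 4 * N)) * hγβ
  -- the coefficient function
  set p₁ : ℂ := Φ u₁ with hp₁
  set p₂ : ℂ := Φ u₂ with hp₂
  clear_value p₁ p₂ γ β cA cK N
  have hΦI : ∀ w, D.isoOne w * Φ w = p₁ * b₁ w + p₂ * b₂ w := by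
    intro w
    by_cases hw : D.nrm w = 0
    · by_cases hw0 : w = 0
      · subst hw0
        rw [show D.isoOne 0 = 0 by by_contra h; exact (D.isoOne_supp h).2 rfl, hz.2.2.1, hz.2.2.2]; ring
      · rw [D.isoOne_apply hw hw0]
        rcases (hiso w hw hw0).2.2 with ⟨hm, h4, h5⟩ | ⟨hm, h4, h5⟩ <;> rw [h4, h5]
        · rw [(T.iso_inv Φ hL.inv w hw hw0).1 hm, ← hp₁]; ring
        · rw [(T.iso_inv Φ hL.inv w hw hw0).2 hm, ← hp₂]; ring
    · rw [show D.isoOne w = 0 by by_contra h; exact hw (D.isoOne_supp h).1, (hani w hw).1, (hani w hw).2.1]; ring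
  have hΦIs : ScalInv (F := F) fun v => D.isoOne v * Φ v := fun c hc w => by
    simp only [hΦI, hPb₁.2 c hc, hPb₂.2 c hc]
  have hsum : ∀ e : F, D.σ e = e → ∑ w, (if D.nrm w = e then Φ w else 0) = -Q ^ 4 * (D.psi e * D.bsum om e) := by
    intro e he
    have h := hL.eqn e he 0
    rw [hL.zero, mul_one] at h
    have e1 : ∀ w, (if D.nrm w = e then D.coc w (0 - w) * Φ (0 - w) else 0) =
        D.psi (-e) * (if D.nrm w = e then Φ w else 0) := fun w => by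
      rw [zero_sub, Inv.even D hL.inv, D.coc_neg_self]
      split_ifs with h1
      · rw [h1]
      · ring
    rw [Finset.sum_congr rfl fun w _ => e1 w, ← Finset.mul_sum] at h
    have hpp : D.psi e * D.psi (-e) = 1 := by rw [← D.psi_add, add_neg_cancel, D.psi_zero]
    linear_combination D.psi e * h - (∑ w, (if D.nrm w = e then Φ w else 0)) * hpp
  have hisum : (k : ℂ) * p₁ + (k' : ℂ) * p₂ = ((k : ℂ) + k') / N := by
    have h := hsum 0 (map_zero _)
    rw [D.psi_zero, one_mul, D.bsum_zero hom, neg_mul_neg, mul_one] at h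
    have e1 : ∀ w, (if D.nrm w = 0 then Φ w else 0) = p₁ * b₁ w + p₂ * b₂ w + if w = 0 then 1 else 0 := fun w => by
      rw [← hΦI]
      by_cases hw0 : w = 0
      · subst hw0
        rw [if_pos D.nrm_zero, if_pos rfl, hL.zero,
          show D.isoOne 0 = 0 by by_contra h; exact (D.isoOne_supp h).2 rfl]
        ring
      · rw [if_neg hw0, add_zero]
        split_ifs with hw
        · rw [D.isoOne_apply hw hw0, one_mul]
        · rw [show D.isoOne w = 0 by by_contra h; exact hw (D.isoOne_supp h).1, zero_mul]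
    rw [Finset.sum_congr rfl fun w _ => e1 w, Finset.sum_add_distrib, Finset.sum_add_distrib, ← Finset.mul_sum,
      ← Finset.mul_sum, hsK₁, hsK₂, Finset.sum_ite_eq', if_pos (Finset.mem_univ _)] at h
    rw [eq_div_iff hN]
    refine mul_left_cancel₀ hcK0 ?_
    linear_combination N * h - htotK
  set C : ℂ := (p₁ * N - 1) / k' with hCdef
  have hp1 : p₁ * N = 1 + C * k' := by rw [hCdef, div_mul_cancel₀ _ hk0']; ring
  have hp2 : p₂ * N = 1 - C * k := by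
    rw [eq_div_iff hN] at hisum
    exact mul_left_cancel₀ hk0' (by linear_combination hisum - (k : ℂ) * hp1)
  set DD : ℂ := Q ^ 4 * (Q - 1) * C / γ with hDdef
  have hDγ : DD * γ = Q ^ 4 * (Q - 1) * C := by rw [hDdef, div_mul_cancel₀ _ hγ]
  clear_value C DD
  have hαf : (i' : ℂ) * D.ft a₁ u₁ - (i : ℂ) * D.ft a₂ u₁ = γ * k' := by
    rw [← hftf1, hf, D.ft_sub, D.ft_smul, D.ft_smul]
  have hαs : D.ft a₁ u₁ + D.ft a₂ u₁ = Q ^ 5 - Q ^ 4 := by
    rw [← D.ft_add, ← hsplitA, D.ft_aniOne hn T.iso₁.2, cone, if_pos T.iso₁.1, mul_one]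
  have hlev : ∀ e : F, D.σ e = e → e ≠ 0 → ∀ w, D.nrm w = e →
      Φ w * N = -(D.psi e * D.bsum om e) * ((1 + DD * i') * a₁ w + (1 - DD * i) * a₂ w) := by
    intro e he he0
    obtain ⟨c₁, hc₁, hn₁⟩ := D.exists_scale T.ani₁ he he0
    obtain ⟨c₂, hc₂, hn₂⟩ := D.exists_scale T.ani₂ he he0
    set x₁ := Φ (c₁ • v₁)
    set x₂ := Φ (c₂ • v₂)
    have hval : ∀ w, D.nrm w = e → Φ w = x₁ * a₁ w + x₂ * a₂ w := fun w hw => by
      rcases (hani w (by rw [hw]; exact he0)).2.2 with ⟨hm, h4, h5⟩ | ⟨hm, h4, h5⟩ <;> rw [h4, h5]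
      · rw [Inv.eq_of_mem D hL.inv hM (ptOrb_trans (ptOrb_symm ⟨1, M.one_mem, c₁, hc₁, by simp⟩) hm)
          (hw.trans hn₁.symm) (by rw [hn₁]; exact he0)]
        ring
      · rw [Inv.eq_of_mem D hL.inv hM (ptOrb_trans (ptOrb_symm ⟨1, M.one_mem, c₂, hc₂, by simp⟩) hm)
          (hw.trans hn₂.symm) (by rw [hn₂]; exact he0)]
        ring
    have hlevfun : D.lev e Φ = fun w => x₁ * D.lev e a₁ w + x₂ * D.lev e a₂ w := funext fun w => by
      simp only [lev]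
      split_ifs with h
      · exact hval w h
      · ring
    have hla : ∀ {a : V → ℂ}, PInv M a → (∀ w, a w ≠ 0 → D.nrm w ≠ 0) →
        (Q - 1) * ∑ w, D.lev e a w = ∑ w, a w ∧ (Q - 1) * D.ft (D.lev e a) u₁ = D.ft a u₁ := by
      intro a ha hs
      have h1 : D.ani a = a := funext fun w => by
        rw [ani]; split_ifs with h
        · by_contra h2; exact hs w (Ne.symm h2) h
        · rfl
      constructor
      · have := D.sum_ani ha.2 he he0; rw [h1] at this; exact this.symm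
      · have := D.ft_lev_iso hM hE ha he he0 T.iso₁.1; rw [h1] at this; exact this
    obtain ⟨hs₁, hf₁⟩ := hla hPa₁ hsa₁
    obtain ⟨hs₂, hf₂⟩ := hla hPa₂ hsa₂
    rw [hsA₁] at hs₁
    rw [hsA₂] at hs₂
    have hS := hsum e he
    rw [show ∑ w, (if D.nrm w = e then Φ w else 0) = ∑ w, D.lev e Φ w from rfl, hlevfun, Finset.sum_add_distrib,
      ← Finset.mul_sum, ← Finset.mul_sum] at hS
    have hFT := hL.at_iso D hM hE hΦIs he he0 T.iso₁.1
    rw [hlevfun, D.ft_add, D.ft_smul, D.ft_smul, ← hp₁] at hFT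
    set S := D.psi e * D.bsum om e
    have h1 : ((i : ℂ) * x₁ + (i' : ℂ) * x₂) * N = -S * ((i : ℂ) + i') := by
      refine mul_left_cancel₀ hcA0 ?_
      linear_combination N * (Q - 1) * hS + S * htotA - N * x₁ * hs₁ - N * x₂ * hs₂
    have h2 : (x₁ - x₂) * N = -S * DD * ((i : ℂ) + i') := by
      refine mul_left_cancel₀ (mul_ne_zero hγ hk0') ?_
      linear_combination ((i : ℂ) + i') * N * (Q - 1) * hFT - ((i : ℂ) + i') * N * x₁ * hf₁ -
        ((i : ℂ) + i') * N * x₂ * hf₂ - (x₁ - x₂) * N * hαf - ((i : ℂ) * x₁ + (i' : ℂ) * x₂) * N * hαs -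
        (Q ^ 5 - Q ^ 4) * h1 - Q ^ 4 * (Q - 1) * S * ((i : ℂ) + i') * hp1 +
        S * ((i : ℂ) + i') * (k' : ℂ) * hDγ
    have hx₁ : x₁ * N = -S * (1 + DD * i') :=
      mul_left_cancel₀ hiI (by linear_combination h1 + (i' : ℂ) * h2)
    have hx₂ : x₂ * N = -S * (1 - DD * i) :=
      mul_left_cancel₀ hiI (by linear_combination h1 - (i : ℂ) * h2)
    intro w hw
    rw [hval w hw]
    linear_combination a₁ w * hx₁ + a₂ w * hx₂
  -- the weights
  set w₁ : ℂ := p₁ ^ 2 with hw₁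
  set w₂ : ℂ := p₂ ^ 2 with hw₂
  set y₁ : ℂ := (1 + DD * i') ^ 2 / N ^ 2 with hy₁
  set y₂ : ℂ := (1 - DD * i) ^ 2 / N ^ 2 with hy₂
  set P : F → ℂ := fun e => D.psi e * (D.bsum om e * D.bsum om e) with hP
  set Y : V → ℂ := fun w => y₁ * a₁ w + y₂ * a₂ w with hYdef
  clear_value w₁ w₂ y₁ y₂
  have hWval : ∀ w, D.wt Φ w = (if w = 0 then 1 else 0) + (w₁ * b₁ w + w₂ * b₂ w) +
      ∑ e ∈ D.re.erase 0, P e * D.lev e Y w := by
    intro w
    by_cases hw : D.nrm w = 0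
    · rw [Finset.sum_eq_zero fun e he => by
        rw [lev, if_neg (by rw [hw]; exact (Finset.ne_of_mem_erase he).symm), mul_zero], add_zero, wt, hw, neg_zero,
        D.psi_zero, mul_one]
      by_cases hw0 : w = 0
      · subst hw0
        rw [if_pos rfl, hL.zero, hz.2.2.1, hz.2.2.2]; ring
      · rw [if_neg hw0, zero_add]
        have h := hΦI w
        rw [D.isoOne_apply hw hw0, one_mul] at h
        rcases (hiso w hw hw0).2.2 with ⟨-, h4, h5⟩ | ⟨-, h4, h5⟩ <;> rw [h, h4, h5, hw₁, hw₂] <;> ring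
    · have hw0 : w ≠ 0 := fun h => hw (by rw [h, D.nrm_zero])
      rw [if_neg hw0, (hani w hw).1, (hani w hw).2.1, mul_zero, mul_zero, add_zero, add_zero, zero_add,
        Finset.sum_eq_single (D.nrm w)]
      · rw [lev, if_pos rfl, wt]
        have h := hlev _ (D.real_nrm w) hw w rfl
        have hpp : D.psi (D.nrm w) * D.psi (-D.nrm w) = 1 := by rw [← D.psi_add, add_neg_cancel, D.psi_zero]
        rcases (hani w hw).2.2 with ⟨-, h4, h5⟩ | ⟨-, h4, h5⟩ <;> rw [h4, h5] at h <;>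
          simp only [hP, hYdef, h4, h5, hy₁, hy₂] <;>
          rw [← eq_div_iff hN] at h <;> rw [h] <;> field_simp
        · linear_combination D.psi (D.nrm w) * (D.bsum om (D.nrm w)) ^ 2 * (1 + DD * i') ^ 2 * hpp
        · linear_combination D.psi (D.nrm w) * (D.bsum om (D.nrm w)) ^ 2 * (1 - DD * i) ^ 2 * hpp
      · intro e _ he
        rw [lev, if_neg (Ne.symm he), mul_zero]
      · intro h
        exact absurd (Finset.mem_erase.2 ⟨hw, D.mem_re.2 (D.real_nrm w)⟩) h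
  have hYP : PInv M Y := ⟨fun m hm w => by simp only [hYdef, hPa₁.1 m hm, hPa₂.1 m hm],
    fun c hc w => by simp only [hYdef, hPa₁.2 c hc, hPa₂.2 c hc]⟩
  have hYani : D.ani Y = Y := funext fun w => by
    rw [ani]; split_ifs with h
    · have h1 : a₁ w = 0 := by by_contra h1; exact hsa₁ w h1 h
      have h2 : a₂ w = 0 := by by_contra h2; exact hsa₂ w h2 h
      rw [hYdef]; dsimp only; rw [h1, h2]; ring
    · rfl
  have hPsum : ∑ e ∈ D.re.erase 0, P e = Q ^ 2 - 1 := D.sum_level_weight hom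
  have hmass : 1 + (w₁ * (cK * k) + w₂ * (cK * k')) + (Q + 1) * (y₁ * (cA * i) + y₂ * (cA * i')) = Q ^ 5 := by
    rw [← hL.mass, Finset.sum_congr rfl fun w _ => hWval w, Finset.sum_add_distrib, Finset.sum_add_distrib,
      Finset.sum_add_distrib, ← Finset.mul_sum, ← Finset.mul_sum, hsK₁, hsK₂, Finset.sum_ite_eq',
      if_pos (Finset.mem_univ _), Finset.sum_comm]
    congr 1
    have h1 : ∀ e ∈ D.re.erase 0, ∑ w, P e * D.lev e Y w = P e * ((y₁ * (cA * i) + y₂ * (cA * i')) / (Q - 1)) := by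
      intro e he
      have h := D.sum_ani hYP.2 (D.mem_re.1 (Finset.mem_of_mem_erase he)) (Finset.ne_of_mem_erase he)
      rw [hYani, hYdef, Finset.sum_add_distrib, ← Finset.mul_sum, ← Finset.mul_sum, hsA₁, hsA₂] at h
      rw [← Finset.mul_sum, h]
      field_simp
      ring
    rw [Finset.sum_congr rfl h1, ← Finset.sum_mul, hPsum]
    field_simp
    ring
  have hftW : ∀ u, D.nrm u = 0 → u ≠ 0 → (Q ^ 4 - 1) * D.ft (D.wt Φ) u =
      (Q ^ 4 - 1) * (1 + Q ^ 4 * (w₁ * b₁ u + w₂ * b₂ u)) - (w₁ * (cK * k) + w₂ * (cK * k')) +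
        (Q ^ 4 - 1) * ((Q + 1) * (y₁ * D.ft a₁ u + y₂ * D.ft a₂ u)) := by
    intro u hu hu0
    have hI : (Q ^ 4 - 1) * D.ft (fun w => w₁ * b₁ w + w₂ * b₂ w) u =
        (Q ^ 4 - 1) * Q ^ 4 * (w₁ * b₁ u + w₂ * b₂ u) - (w₁ * (cK * k) + w₂ * (cK * k')) := by
      have h := D.ft_iso hn hM hE (g := fun w => w₁ * b₁ w + w₂ * b₂ w)
        ⟨fun m hm w => by simp only [hPb₁.1 m hm, hPb₂.1 m hm], fun c hc w => by
          simp only [hPb₁.2 c hc, hPb₂.2 c hc]⟩ (fun w hw => ?_) hu hu0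
      · rw [h, Finset.sum_add_distrib, ← Finset.mul_sum, ← Finset.mul_sum, hsK₁, hsK₂]
      · by_contra hne
        refine hw ?_
        by_cases h0 : w = 0
        · subst h0; rw [hz.2.2.1, hz.2.2.2]; ring
        · have hn0 : D.nrm w ≠ 0 := fun h => hne ⟨h, h0⟩
          rw [(hani w hn0).1, (hani w hn0).2.1]; ring
    have hE' : ∀ e ∈ D.re.erase 0, D.ft (D.lev e Y) u = (y₁ * D.ft a₁ u + y₂ * D.ft a₂ u) / (Q - 1) := by
      intro e he
      have h := D.ft_lev_iso hM hE hYP (D.mem_re.1 (Finset.mem_of_mem_erase he)) (Finset.ne_of_mem_erase he) hu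
      rw [hYani] at h
      have h2 : D.ft Y u = y₁ * D.ft a₁ u + y₂ * D.ft a₂ u := by
        rw [hYdef, D.ft_add, D.ft_smul, D.ft_smul]
      rw [← h2, ← h]
      field_simp
      ring
    have hsp : D.ft (D.wt Φ) u = 1 + D.ft (fun w => w₁ * b₁ w + w₂ * b₂ w) u +
        ∑ e ∈ D.re.erase 0, P e * D.ft (D.lev e Y) u := by
      rw [show D.wt Φ = _ from funext hWval, D.ft_add, D.ft_add, ft_apply, ft_apply]
      simp only [mul_ite, mul_one, mul_zero, Finset.sum_ite_eq', Finset.mem_univ, if_true, D.chi_zero_right]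
      congr 1
      simp only [ft_apply, Finset.mul_sum]
      rw [Finset.sum_comm]
      exact Finset.sum_congr rfl fun e _ => Finset.sum_congr rfl fun w _ => by ring
    rw [hsp, Finset.sum_congr rfl fun e he => by rw [hE' e he], ← Finset.sum_mul, hPsum, mul_add, mul_add, hI]
    field_simp
    ring
  have hpure : ∀ u, D.nrm u = 0 → u ≠ 0 → D.ft (D.wt Φ) u = Q ^ 5 * (w₁ * b₁ u + w₂ * b₂ u) := by
    intro u hu hu0
    set c := D.σ (D.xi - D.σ D.xi) with hc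
    have hc0 : c ≠ 0 := (map_ne_zero D.σ).2 D.xi_sub_ne
    have h := hL.pure (c⁻¹ • u)
    rw [← hc, smul_smul, mul_inv_cancel₀ hc0, one_smul] at h
    have hn' : D.nrm (c⁻¹ • u) = 0 := by rw [D.nrm_smul, hu, mul_zero]
    have hu' : c⁻¹ • u ≠ 0 := smul_ne_zero (inv_ne_zero hc0) hu0
    rw [h, hWval, if_neg hu', Finset.sum_eq_zero fun e he => by
      rw [lev, if_neg (by rw [hn']; exact (Finset.ne_of_mem_erase he).symm), mul_zero],
      hPb₁.2 _ (inv_ne_zero hc0), hPb₂.2 _ (inv_ne_zero hc0), zero_add, add_zero]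
  -- the constant relations
  have hfu : ∀ u, (i' : ℂ) * D.ft a₁ u - (i : ℂ) * D.ft a₂ u = D.ft f u := fun u => by
    rw [hf, D.ft_sub, D.ft_smul, D.ft_smul]
  have hau : ∀ u, D.nrm u = 0 → u ≠ 0 → D.ft a₁ u + D.ft a₂ u = Q ^ 5 - Q ^ 4 := fun u hu hu0 => by
    rw [← D.ft_add, ← hsplitA, D.ft_aniOne hn hu0, cone, if_pos hu, mul_one]
  have hw12 : (w₁ - w₂) * N ^ 2 = ((k : ℂ) + k') * (2 * C + C ^ 2 * ((k' : ℂ) - k)) := by
    rw [hw₁, hw₂]
    linear_combination (p₁ * N + (1 + C * k')) * hp1 - (p₂ * N + (1 - C * k)) * hp2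
  have hy12 : (y₁ - y₂) * N ^ 2 = ((i : ℂ) + i') * (2 * DD + DD ^ 2 * ((i' : ℂ) - i)) := by
    rw [hy₁, hy₂]
    field_simp
    ring
  have hX : C ^ 2 * ((k : ℂ) * k') = Q ^ 5 := by
    have hy : y₁ * (cA * i) + y₂ * (cA * i') = (Q - 1) * Q ^ 4 * N * (1 + DD ^ 2 * (i * i')) / N ^ 2 := by
      rw [hy₁, hy₂]
      field_simp
      linear_combination (1 + DD ^ 2 * ((i : ℂ) * i')) * htotA
    have hw : w₁ * (cK * k) + w₂ * (cK * k') = N * (Q ^ 4 - 1) * (1 + C ^ 2 * (k * k')) / N ^ 2 := by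
      rw [hw₁, hw₂, eq_div_iff (pow_ne_zero 2 hN)]
      linear_combination cK * k * (p₁ * N + (1 + C * k')) * hp1 + cK * k' * (p₂ * N + (1 - C * k)) * hp2 +
        (1 + C ^ 2 * ((k : ℂ) * k')) * htotK
    have hYX : DD ^ 2 * ((i : ℂ) * i') * Q ^ 4 = (Q - 1) * (Q ^ 2 + 1) * (C ^ 2 * (k * k')) := by
      refine mul_left_cancel₀ (mul_ne_zero (pow_ne_zero 8 hQ) hQ1) ?_
      linear_combination ((k : ℂ) * k') * (Q ^ 2 + 1) * (DD * γ + Q ^ 4 * (Q - 1) * C) * hDγ - DD ^ 2 * hγsq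
    rw [hy, hw] at hmass
    field_simp at hmass
    have hq4 : Q ^ 4 - 1 ≠ 0 := by
      rw [show Q ^ 4 - 1 = (Q ^ 2 - 1) * (Q ^ 2 + 1) by ring]; exact mul_ne_zero hQ2 hQ21
    refine mul_left_cancel₀ (mul_ne_zero hq4 hQ) ?_
    linear_combination hmass - (Q ^ 2 - 1) * hYX + (Q ^ 5 - 1) * hNdef
  have hC : C ≠ 0 := fun h => pow_ne_zero 5 hQ (by rw [← hX, h]; ring)
  have hYv : DD ^ 2 * ((i : ℂ) * i') = Q * (Q - 1) * (Q ^ 2 + 1) := by
    refine mul_left_cancel₀ (mul_ne_zero (pow_ne_zero 12 hQ) hQ1) ?_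
    linear_combination ((k : ℂ) * k') * (Q ^ 2 + 1) * (DD * γ + Q ^ 4 * (Q - 1) * C) * hDγ - DD ^ 2 * hγsq +
      Q ^ 8 * (Q - 1) ^ 2 * (Q ^ 2 + 1) * hX
  have hrel : C * ((k' : ℂ) - k) - (Q + 1) * (DD * ((i' : ℂ) - i)) = 2 * Q := by
    have hq4 : Q ^ 4 - 1 ≠ 0 := by
      rw [show Q ^ 4 - 1 = (Q ^ 2 - 1) * (Q ^ 2 + 1) by ring]; exact mul_ne_zero hQ2 hQ21
    have h1 := hftW u₁ T.iso₁.1 T.iso₁.2
    have h2 := hftW u₂ T.iso₂.1 T.iso₂.2
    rw [hpure u₁ T.iso₁.1 T.iso₁.2, hu₁b.1, hu₁b.2] at h1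
    rw [hpure u₂ T.iso₂.1 T.iso₂.2, hu₂b.1, hu₂b.2] at h2
    have e1 := hfu u₁
    have e2 := hfu u₂
    rw [hftf1] at e1
    rw [hftf2] at e2
    have s1 := hau u₁ T.iso₁.1 T.iso₁.2
    have s2 := hau u₂ T.iso₂.1 T.iso₂.2
    have h3 : ((i : ℂ) + i') * (Q ^ 5 - Q ^ 4) * (w₁ - w₂) =
        (Q + 1) * (y₁ - y₂) * γ * ((k : ℂ) + k') := by
      refine mul_left_cancel₀ hq4 ?_
      linear_combination ((i : ℂ) + i') * (h1 - h2) + (Q ^ 4 - 1) * (Q + 1) * ((y₁ - y₂) * (e1 - e2) +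
        ((i : ℂ) * y₁ + (i' : ℂ) * y₂) * (s1 - s2))
    have h4 : (Q ^ 5 - Q ^ 4) * (2 + C * ((k' : ℂ) - k)) * C =
        (Q + 1) * (Q ^ 4 * (Q - 1)) * (2 + DD * ((i' : ℂ) - i)) * C := by
      refine mul_left_cancel₀ (mul_ne_zero hiI hkK) ?_
      linear_combination N ^ 2 * h3 - ((i : ℂ) + i') * (Q ^ 5 - Q ^ 4) * hw12 +
        (Q + 1) * γ * ((k : ℂ) + k') * hy12 +
        (Q + 1) * ((i : ℂ) + i') * ((k : ℂ) + k') * (2 + DD * ((i' : ℂ) - i)) * hDγ
    refine mul_left_cancel₀ (mul_ne_zero (mul_ne_zero (pow_ne_zero 4 hQ) hQ1) hC) ?_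
    linear_combination h4
  -- the numerical contradiction
  obtain ⟨p, hp⟩ := CharP.exists F
  obtain ⟨n, hpp, hcard⟩ := FiniteField.card F p
  obtain ⟨e, -, he⟩ := (Nat.dvd_prime_pow hpp).1 (hcard ▸ D.card_F.symm ▸ dvd_pow_self D.q two_ne_zero)
  have hp5 : d = 5 → ¬ p = 5 := fun h5 h => by
    obtain ⟨h1, -⟩ := hd5 h5
    have h2 : 5 ∣ D.q := by
      rw [he, h]
      refine dvd_pow_self 5 fun h0 => ?_
      rw [he, h0] at hq
      norm_num at hq
    omega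
  have hsI : i + i' = d * D.q ^ 2 := by
    have : ((i + i' : ℕ) : ℂ) = ((d * D.q ^ 2 : ℕ) : ℂ) := by push_cast; exact hsumI
    exact_mod_cast this
  have hsK : k + k' = d * (D.q + 1) := by
    have : ((k + k' : ℕ) : ℂ) = ((d * (D.q + 1) : ℕ) : ℂ) := by push_cast; exact hsumK
    exact_mod_cast this
  have hsd : d = 5 → ∃ f : ℕ, 13 ≤ f ∧ f ∣ D.q ^ 2 + 1 ∧ (f ∣ i ∨ f ∣ i + 5) := by
    intro h5
    obtain ⟨r, hr, hrq, hS⟩ := hside h5
    obtain ⟨j, hj, hjm⟩ := hS _ (isPointSet_ptOrb M v₁)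
      (fun h => T.ani₁ (by rw [(D.ptOrb_nrm hM h).2.1 rfl, D.nrm_zero]))
      (fun v hv h0 => T.ani₁ ((D.ptOrb_nrm hM hv).1.1 h0))
    rw [hA₁] at hj
    have h1 : 1 < D.q ^ 2 := Nat.one_lt_pow two_ne_zero D.two_le
    have hj' : j = mb * (D.q ^ 2 * i) := (Nat.eq_of_mul_eq_mul_left (by omega) hj).symm
    refine ⟨r, hr, hrq, ?_⟩
    have hrz : (r : ℤ) ∣ (D.q : ℤ) ^ 2 + 1 := by exact_mod_cast hrq
    have h5mb : (5 : ℤ) * mb = (torOrder D.q : ℤ) := by rw [hmb, h5]; push_cast; rfl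
    rw [torOrder_eq] at h5mb
    have key : (r : ℤ) ∣ 5 * (j : ℤ) + i := by
      refine hrz.trans ⟨(i : ℤ) * (1 + (D.q : ℤ) ^ 2 * ((D.q : ℤ) ^ 2 - D.q)), ?_⟩
      rw [hj']
      push_cast
      linear_combination (D.q : ℤ) ^ 2 * (i : ℤ) * h5mb
    rcases hjm with h | h
    · left
      have h2 : (r : ℤ) ∣ (j : ℤ) := by exact_mod_cast Nat.dvd_of_mod_eq_zero h
      have h3 := dvd_sub key (dvd_mul_of_dvd_right h2 5)
      rw [add_sub_cancel_left] at h3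
      exact_mod_cast h3
    · right
      have h2 : (r : ℤ) ∣ (j : ℤ) - 1 := by
        refine ⟨((j / r : ℕ) : ℤ), ?_⟩
        have h4 := Nat.div_add_mod j r
        rw [h] at h4
        have h5' : ((r * (j / r) + 1 : ℕ) : ℤ) = (j : ℤ) := by rw [h4]
        push_cast at h5'
        omega
      have h3 := dvd_sub key (dvd_mul_of_dvd_right h2 5)
      rw [show 5 * (j : ℤ) + i - 5 * ((j : ℤ) - 1) = (i : ℤ) + 5 by ring] at h3
      exact_mod_cast h3
  refine two_orbit_false (p := p) (e := e) (d := d) hpp (he ▸ hq) hd hp5 hi hi' hk hk' (he ▸ hsI) (he ▸ hsK)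
    (he ▸ hsd) ?_
  have hcast : ((p : ℂ) ^ e) = Q := by rw [hQdef, he]; push_cast; rfl
  apply Int.cast_injective (α := ℂ)
  push_cast
  rw [hcast]
  have hA : Q ^ 5 * ((k' : ℂ) - k) ^ 2 = (C * ((k' : ℂ) - k)) ^ 2 * (k * k') := by rw [← hX]; ring
  have hB : Q * (Q - 1) * (Q ^ 2 + 1) * ((i' : ℂ) - i) ^ 2 = (DD * ((i' : ℂ) - i)) ^ 2 * (i * i') := by
    rw [← hYv]; ring
  rw [hA, hB]
  set U := C * ((k' : ℂ) - k)
  set Z := DD * ((i' : ℂ) - i)
  have hU : U = 2 * Q + (Q + 1) * Z := by linear_combination hrel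
  rw [hU]
  ring

end Data

end CfsgLib.MaxSub.SU5Quintic
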