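/-
The pieces of the Weil character force transitivity on the points of each kind.
-/
import Cfsg.Agent.Lib.MaxSub.SU5Quintic.OrbitsKill

set_option autoImplicit false
set_option linter.unusedSectionVars false
set_option linter.unusedVariables false
set_option linter.style.haveILetI false

namespace CfsgLib.MaxSub.SU5Quintic

open Module Cfsg CfsgLib.CharTheory

universe u v

namespace Data

variable {F : Type u} [Field F] [Fintype F] {V : Type v} [AddCommGroup V] [Module F V]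

/-- An irreducible principal piece, and few constituents in the others, give transitivity. -/
theorem transitive_of_pieces (D : Data F V) [Fintype V] (hn : finrank F V = 5) (hq : 3 ≤ D.q)
    (M : Subgroup (V ≃ₗ[F] V)) [Fintype M] (hM : M ≤ D.iso)
    (hdet : ∀ g ∈ M, LinearMap.det (g : V →ₗ[F] V) = 1) (d mb : ℕ) (hd : d = 1 ∨ d = 5)
    (hd5 : d = 5 → D.q % 5 = 4 ∧ D.q ≠ 4) (hmb : torOrder D.q = d * mb)
    (hone : classInner (fun g : M => D.theta 1 (g : V ≃ₗ[F] V)) (fun g : M => D.theta 1 (g : V ≃ₗ[F] V)) = 1)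
    (hom : ∀ om : D.circ →* ℂˣ, om ≠ 1 →
      classInner (fun g : M => D.theta om (g : V ≃ₗ[F] V)) (fun g : M => D.theta om (g : V ≃ₗ[F] V)) = 1 ∨
      (classInner (fun g : M => D.theta om (g : V ≃ₗ[F] V)) (fun g : M => D.theta om (g : V ≃ₗ[F] V)) = 2 ∧
        ∃ eta : M →* ℂˣ, classInner (fun g : M => D.theta om (g : V ≃ₗ[F] V)) (fun g : M => (eta g : ℂ)) = 1))
    (hpts : ∀ S : Set V, Data.IsPointSet M S → (0 : V) ∉ S → mb * (D.q ^ 2 - 1) ∣ Nat.card S)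
    (hside : d = 5 → ∃ f, 13 ≤ f ∧ f ∣ D.q ^ 2 + 1 ∧ ∀ S : Set V, Data.IsPointSet M S → (0 : V) ∉ S →
      (∀ v ∈ S, D.nrm v ≠ 0) → ∃ j, Nat.card S = (D.q ^ 2 - 1) * j ∧ (j % f = 0 ∨ j % f = 1)) :
    (∀ v w, D.nrm v = D.nrm w → D.nrm v ≠ 0 → ∃ g ∈ M, ∃ c : F, g v = c • w) ∧
    (∀ u w, u ≠ 0 → w ≠ 0 → D.nrm u = 0 → D.nrm w = 0 → ∃ g ∈ M, ∃ c : F, g u = c • w) := by
  classical
  have key : ∀ {x y : V}, y ∈ ptOrb M x → ∃ g ∈ M, ∃ c : F, g x = c • y := by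
    rintro x y ⟨g, hg, c, hc, rfl⟩
    exact ⟨g, hg, c⁻¹, by rw [smul_smul, inv_mul_cancel₀ hc, one_smul]⟩
  rcases D.orbit_cases hn hq hM ⟨hone, hom⟩ with ⟨hani, hiso⟩ | ⟨v₁, v₂, u₁, u₂, T⟩
  · exact ⟨fun v w he hv => key (hani v w hv (he ▸ hv)), fun u w hu hw hu0 hw0 => key (hiso u w hu0 hu hw0 hw)⟩
  · exact (D.two_orb_false hn hq hM (D.eig_of_norm_one hn M hM hone) hd hd5 hmb hpts hside T).elim

end Data

end CfsgLib.MaxSub.SU5Quintic
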