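/-
The constituents of a character of small degree that vanishes on the torus off the centre.
-/
import Cfsg.Agent.Lib.MaxSub.SU5Quintic.CentralMain

set_option autoImplicit false
set_option linter.unusedSectionVars false
set_option linter.style.haveILetI false

namespace CfsgLib.MaxSub.SU5Quintic

open Cfsg CfsgLib.CharTheory
open CfsgLib.SingerFive (Lam mu mu_spec)
open scoped ComplexConjugate

universe u

namespace CZ

variable {G : Type u} [Group G] [Fintype G] {Z T : Subgroup G} {w : G} {e : ℕ}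

/-- Constituents of a character with a central character live in its sector. -/
theorem inSector_of_constituent (D : CZ Z T w e) [Fintype T] {π χ : G → ℂ} (hχ : IsIrrCharacter G χ)
    {l₀ : Lam T} (hπz : ∀ t : T, (t : G) ∈ Z → ∀ g : G, π ((t : G) * g) = (l₀ : T → ℂ) t * π g)
    (hin : classInner π χ ≠ 0) : D.InSector χ l₀ := by
  classical
  obtain ⟨l, hl, hl0⟩ := D.exists_sector hχ
  have hc := isCharacter_of_irr hχ
  intro η hη
  refine D.same_trans (hl η hη) fun t htZ => ?_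
  -- both scalars agree on `Z`
  have hχz : ∀ g : G, χ ((t : G) * g) = (l : T → ℂ) t * χ g := by
    obtain ⟨n, ρ, hρ, rfl⟩ := hχ
    let I : Representation.IntertwiningMap ρ ρ := ⟨ρ (t : G), fun k => by
      show ρ (t : G) * ρ k = ρ k * ρ (t : G)
      rw [← map_mul, ← map_mul, D.central _ htZ k]⟩
    obtain ⟨ω, hω⟩ := (Representation.IsIrreducible.algebraMap_intertwiningMap_bijective_of_isAlgClosed).2 I
    have hop : ρ (t : G) = ω • (LinearMap.id : (Fin n → ℂ) →ₗ[ℂ] (Fin n → ℂ)) :=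
      LinearMap.ext fun v => by
        have := congrArg (fun S : Representation.IntertwiningMap ρ ρ => S v) hω
        simpa [I] using this.symm
    have hsc : ∀ g : G, ρ.character ((t : G) * g) = ω * ρ.character g := fun g => by
      simp [Representation.character, map_mul, hop, ← Module.End.one_eq_id]
    have h1 : ρ.character (t : G) = (l : T → ℂ) t * ρ.character 1 := by
      rw [D.mu_apply hc, D.deg_eq hc, Finset.mul_sum]
      refine Finset.sum_congr rfl fun k _ => ?_
      by_cases h0 : mu ρ.character k = 0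
      · simp [h0]
      · rw [hl k h0 t htZ]; ring
    have h2 := hsc 1
    rw [mul_one, h1] at h2
    intro g
    rw [hsc g, mul_right_cancel₀ (irr_ne_zero (⟨n, ρ, hρ, rfl⟩ : IsIrrCharacter G ρ.character)) h2]
  by_contra hne
  refine hin ?_
  obtain ⟨φ, hφ⟩ := D.lam_hom l
  have h3 : (φ t : ℂ) * conj (φ t : ℂ) = 1 := by
    have h4 := (char_apply_inv (isCharacter_of_irr l.2) t).symm
    simp only [hφ, map_inv, Units.val_inv_eq_inv_val] at h4
    rw [h4, mul_inv_cancel₀ (Units.ne_zero _)]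
  have h5 : classInner π χ = ((l₀ : T → ℂ) t * conj ((l : T → ℂ) t)) * classInner π χ := by
    simp only [classInner, Finset.mul_sum]
    refine (Fintype.sum_equiv (Equiv.mulLeft (t : G)⁻¹) _ _ fun g => ?_)
    have h6 := hπz t htZ ((t : G)⁻¹ * g)
    have h7 := hχz ((t : G)⁻¹ * g)
    rw [mul_inv_cancel_left] at h6 h7
    rw [Equiv.coe_mulLeft, h6, h7, map_mul]
    ring
  by_contra h0
  have h8 := mul_right_cancel₀ h0 (h5.symm.trans (one_mul _).symm)
  apply hne
  simp only [hφ] at h8 ⊢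
  calc (φ t : ℂ) = (l₀ : T → ℂ) t * conj (φ t : ℂ) * (φ t : ℂ) := by rw [h8, one_mul]
    _ = (l₀ : T → ℂ) t := by rw [mul_assoc, mul_comm (conj _), h3, mul_one]

/-- The multiplicities on `T` of a character vanishing off `Z`. -/
theorem mu_vanishing (D : CZ Z T w e) [Fintype T] {π : G → ℂ} (hπ : IsCharacter G π)
    (hπ0 : ∀ t : T, (t : G) ∉ Z → π t = 0) {l₀ : Lam T}
    (hπz : ∀ t : T, (t : G) ∈ Z → π t = (l₀ : T → ℂ) t * π 1) {N : ℕ} (hN : π 1 = N) {l : Lam T}
    (hl : D.Same l l₀) : mu π l * Z.relIndex T = N := by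
  classical
  have hT : (Nat.card T : ℂ) ≠ 0 := Nat.cast_ne_zero.mpr Nat.card_pos.ne'
  have h1 : classInner (fun t : T => π t) (l : T → ℂ) =
      (Nat.card T : ℂ)⁻¹ * ((Nat.card (Z.subgroupOf T) : ℂ) * N) := by
    simp only [classInner]
    congr 1
    have h2 : ∀ t : T, π t * conj ((l : T → ℂ) t) = if (t : G) ∈ Z then (N : ℂ) else 0 := by
      intro t
      split_ifs with ht
      · rw [hπz t ht, hl t ht |>.symm, hN]
        obtain ⟨φ, hφ⟩ := D.lam_hom l
        have h3 : (φ t : ℂ) * conj (φ t : ℂ) = 1 := by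
          have h4 := (char_apply_inv (isCharacter_of_irr l.2) t).symm
          simp only [hφ, map_inv, Units.val_inv_eq_inv_val] at h4
          rw [h4, mul_inv_cancel₀ (Units.ne_zero _)]
        simp only [hφ]
        linear_combination (N : ℂ) * h3
      · rw [hπ0 t ht, zero_mul]
    rw [Finset.sum_congr rfl fun t _ => h2 t, ← Finset.sum_filter, Finset.sum_const, nsmul_eq_mul,
      ← Fintype.card_subtype, ← Nat.card_eq_fintype_card]
    rfl
  rw [← mu_spec hπ] at h1
  have h5 : ((mu π l * Z.relIndex T : ℕ) : ℂ) * (Nat.card (Z.subgroupOf T) : ℂ) =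
      ((N : ℕ) : ℂ) * (Nat.card (Z.subgroupOf T) : ℂ) := by
    rw [Nat.cast_mul, h1, mul_assoc _ (Z.relIndex T : ℂ), ← Nat.cast_mul (Z.relIndex T), Nat.mul_comm (Z.relIndex T),
      D.relIndex_mul]
    field_simp
  exact_mod_cast mul_right_cancel₀ (Nat.cast_ne_zero.mpr Nat.card_pos.ne') h5

/-- The data of the constituents. -/
structure Pieces (D : CZ Z T w e) [Fintype T] (π : G → ℂ) (l₀ b η : Lam T) (d : ℕ) (c : IrrCharacter G → ℕ) :
    Prop where
  coeff : ∀ χ : IrrCharacter G, classInner π (χ : G → ℂ) = c χ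
  deg : ∀ χ : IrrCharacter G, c χ ≠ 0 →
    (χ : G → ℂ) 1 = ((mu (χ : G → ℂ) b + mu (χ : G → ℂ) η * (Z.relIndex T - 1) : ℕ) : ℂ)
  sumA : ∑ χ : IrrCharacter G, c χ * mu (χ : G → ℂ) b = d
  sumB : ∑ χ : IrrCharacter G, c χ * mu (χ : G → ℂ) η = d
  squares : ∀ S : Finset (IrrCharacter G), (∀ χ ∈ S, c χ ≠ 0) →
    ∑ χ ∈ S, ((mu (χ : G → ℂ) b : ℤ) - mu (χ : G → ℂ) η) ^ 2 ≤ e

/-- The constituents of a character of degree `d · |T / Z|` vanishing on `T` off `Z`. -/
theorem exists_pieces (D : CZ Z T w e) [Fintype T] (hns : ∀ χ l, ¬ D.Small χ l) {π : G → ℂ}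
    (hπ : IsCharacter G π) (hπ0 : ∀ t : T, (t : G) ∉ Z → π t = 0) {l₀ : Lam T}
    (hπz : ∀ t : T, (t : G) ∈ Z → ∀ g : G, π ((t : G) * g) = (l₀ : T → ℂ) t * π g)
    {d : ℕ} (hN : π 1 = ((d * Z.relIndex T : ℕ) : ℂ))
    (hbound : e * (d * Z.relIndex T) < (Z.relIndex T - 1) * (Z.relIndex T - 1 - e)) :
    ∃ (b η : Lam T) (c : IrrCharacter G → ℕ), ¬ D.Good b ∧ D.Same b l₀ ∧ D.Good η ∧ D.Same η l₀ ∧
      D.Pieces π l₀ b η d c := by
  classical
  obtain ⟨b, hb, hbf, -⟩ := D.exists_base l₀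
  obtain ⟨η, hη, hηs⟩ := D.exists_good l₀
  choose c hc using fun χ : IrrCharacter G => classInner_char_nat hπ (isCharacter_of_irr χ.2)
  refine ⟨b, η, c, hbf, hb, hη, hηs, ?_⟩
  have hsec : ∀ χ : IrrCharacter G, c χ ≠ 0 → D.InSector (χ : G → ℂ) l₀ := fun χ h0 =>
    D.inSector_of_constituent χ.2 hπz (by rw [hc]; exact Nat.cast_ne_zero.mpr h0)
  have hbal : ∀ χ : IrrCharacter G, c χ ≠ 0 → D.Balanced (χ : G → ℂ) l₀ := fun χ h0 =>
    D.constituent_balanced hns hπ hπ0 hN hbound χ.2 (by rw [hc]; exact Nat.cast_ne_zero.mpr h0) (hsec χ h0)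
  have hexp : π = ∑ χ : IrrCharacter G, (c χ : ℂ) • (χ : G → ℂ) := by
    conv_lhs => rw [eq_sum_irr (isClassFunction_char hπ)]
    exact Finset.sum_congr rfl fun χ _ => by rw [hc]
  have hsum : ∀ l : Lam T, D.Same l l₀ → ∑ χ : IrrCharacter G, c χ * mu (χ : G → ℂ) l = d := by
    intro l hl
    have h1 := D.mu_vanishing hπ hπ0 (fun t ht => by simpa using hπz t ht 1) hN hl
    have h2 : mu π l = d := Nat.eq_of_mul_eq_mul_right (by have := D.big; omega) h1
    have h3 : (mu π l : ℂ) = ∑ χ : IrrCharacter G, (c χ : ℂ) * (mu (χ : G → ℂ) l : ℂ) := by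
      rw [mu_spec hπ, show (fun t : T => π t) =
        ∑ χ : IrrCharacter G, (c χ : ℂ) • (fun t : T => (χ : G → ℂ) t) by
          funext t; rw [hexp]; simp [Finset.sum_apply], classInner_sum_left]
      exact Finset.sum_congr rfl fun χ _ => by rw [classInner_smul_left, mu_spec (isCharacter_of_irr χ.2)]
    rw [h2] at h3
    exact_mod_cast h3.symm
  exact
    { coeff := hc
      deg := fun χ h0 => D.balanced_deg (isCharacter_of_irr χ.2) (hsec χ h0) (hbal χ h0) hb hbf hη hηs
      sumA := hsum b hb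
      sumB := hsum η hηs
      squares := fun S hS => D.sum_sq_le hb hbf hη hηs S fun χ hχ => hbal χ (hS χ hχ) }

end CZ

end CfsgLib.MaxSub.SU5Quintic
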