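/-
Frames of a five dimensional hermitian space, unipotent groups fixing a flag, and the transvections in them.
-/
import Cfsg.Agent.Lib.MaxSub.SU5Quintic.TransTools

set_option autoImplicit false
set_option linter.unusedSectionVars false

namespace CfsgLib.MaxSub.SU5Quintic

open Module

universe u v

namespace Data

variable {F : Type u} [Field F] [Fintype F] {V : Type v} [AddCommGroup V] [Module F V] (D : Data F V)

theorem form_swap (v w : V) : D.form w v = D.σ (D.form v w) := (D.herm v w).symm

theorem form_zero_swap {v w : V} (h : D.form v w = 0) : D.form w v = 0 := by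
  rw [D.form_swap, h, map_zero]

/-- Two hyperbolic pairs and an anisotropic vector, mutually orthogonal. -/
structure Frame where
  u : V
  y : V
  e : V
  x : V
  w : V
  uu : D.form u u = 0
  yy : D.form y y = 0
  yu : D.form y u = 1
  ee : D.form e e = 0
  xx : D.form x x = 0
  xe : D.form x e = 1
  eu : D.form e u = 0
  ey : D.form e y = 0
  xu : D.form x u = 0
  xy : D.form x y = 0
  wu : D.form w u = 0
  wy : D.form w y = 0
  we : D.form w e = 0
  wx : D.form w x = 0
  ww : D.form w w ≠ 0
  dim : finrank F V = 5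

/-- The transvection with centre `v` and parameter `κ` lies in `M`. -/
def Tv (M : Subgroup (V ≃ₗ[F] V)) (v : V) (κ : F) : Prop :=
  ∃ g ∈ M, ∀ z, g z = z + (κ * D.form z v) • v

/-- The whole root group at `v` lies in `M`. -/
def Full (M : Subgroup (V ≃ₗ[F] V)) (v : V) : Prop :=
  ∀ κ, κ + D.σ κ = 0 → D.Tv M v κ

namespace Frame

variable {D} (f : D.Frame)

theorem uy : D.form f.u f.y = 1 := by rw [D.form_swap, f.yu, map_one]
theorem ex : D.form f.e f.x = 1 := by rw [D.form_swap, f.xe, map_one]
theorem ue : D.form f.u f.e = 0 := D.form_zero_swap f.eu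
theorem ye : D.form f.y f.e = 0 := D.form_zero_swap f.ey
theorem ux : D.form f.u f.x = 0 := D.form_zero_swap f.xu
theorem yx : D.form f.y f.x = 0 := D.form_zero_swap f.xy
theorem uw : D.form f.u f.w = 0 := D.form_zero_swap f.wu
theorem yw : D.form f.y f.w = 0 := D.form_zero_swap f.wy
theorem ew : D.form f.e f.w = 0 := D.form_zero_swap f.we
theorem xw : D.form f.x f.w = 0 := D.form_zero_swap f.wx

theorem u_ne : f.u ≠ 0 := fun h => by simpa [h] using f.uy

theorem ext [FiniteDimensional F V] {v v' : V} (hu : D.form v f.u = D.form v' f.u)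
    (hy : D.form v f.y = D.form v' f.y) (he : D.form v f.e = D.form v' f.e)
    (hx : D.form v f.x = D.form v' f.x) (hw : D.form v f.w = D.form v' f.w) : v = v' := by
  have hli : LinearIndependent F ![f.u, f.y, f.e, f.x, f.w] := by
    rw [Fintype.linearIndependent_iff]
    intro r hr
    have key : ∀ z, ∑ i, r i * D.form (![f.u, f.y, f.e, f.x, f.w] i) z = 0 := by
      intro z
      have := congrArg (fun a => D.form a z) hr
      simpa only [map_sum, LinearMap.sum_apply, D.form_smul_left, map_zero, LinearMap.zero_apply]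
        using this
    have k1 := key f.y
    have k2 := key f.u
    have k3 := key f.x
    have k4 := key f.e
    have k5 := key f.w
    simp only [Fin.sum_univ_five, Matrix.cons_val_zero, Matrix.cons_val_one, Matrix.cons_val,
      f.uy, f.yy, f.ey, f.xy, f.wy, mul_one, mul_zero, add_zero, zero_add] at k1
    simp only [Fin.sum_univ_five, Matrix.cons_val_zero, Matrix.cons_val_one, Matrix.cons_val,
      f.uu, f.yu, f.eu, f.xu, f.wu, mul_one, mul_zero, add_zero, zero_add] at k2
    simp only [Fin.sum_univ_five, Matrix.cons_val_zero, Matrix.cons_val_one, Matrix.cons_val,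
      f.ux, f.yx, f.ex, f.xx, f.wx, mul_one, mul_zero, add_zero, zero_add] at k3
    simp only [Fin.sum_univ_five, Matrix.cons_val_zero, Matrix.cons_val_one, Matrix.cons_val,
      f.ue, f.ye, f.ee, f.xe, f.we, mul_one, mul_zero, add_zero, zero_add] at k4
    simp only [Fin.sum_univ_five, Matrix.cons_val_zero, Matrix.cons_val_one, Matrix.cons_val,
      f.uw, f.yw, f.ew, f.xw, mul_zero, add_zero, zero_add] at k5
    intro i
    fin_cases i
    · exact k1
    · exact k2
    · exact k3
    · exact k4
    · exact (mul_eq_zero.1 k5).resolve_right f.ww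
  let b := basisOfLinearIndependentOfCardEqFinrank hli (by rw [Fintype.card_fin, f.dim])
  refine sub_eq_zero.1 (D.nondeg _ fun z => ?_)
  rw [← b.sum_repr z, map_sum]
  refine Finset.sum_eq_zero fun i _ => ?_
  rw [D.form_smul_right, map_sub, LinearMap.sub_apply, sub_eq_zero.2, mul_zero]
  rw [show b i = (![f.u, f.y, f.e, f.x, f.w] i) from by
    simp [b, coe_basisOfLinearIndependentOfCardEqFinrank]]
  fin_cases i <;> assumption

theorem decomp [FiniteDimensional F V] (v : V) :
    v = D.form v f.y • f.u + D.form v f.u • f.y + D.form v f.x • f.e + D.form v f.e • f.x +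
      (D.form v f.w / D.form f.w f.w) • f.w := by
  have := f.ww
  refine f.ext ?_ ?_ ?_ ?_ ?_ <;>
    simp [f.uu, f.yy, f.yu, f.ee, f.xx, f.xe, f.eu, f.ey, f.xu, f.xy, f.wu, f.wy, f.we, f.wx,
      f.uy, f.ex, f.ue, f.ye, f.ux, f.yx, f.uw, f.yw, f.ew, f.xw, this]

/-- An element fixing the isotropic vector, and moving the second one along the first. -/
structure Adapted (g : V ≃ₗ[F] V) : Prop where
  iso : ∀ v w, D.form (g v) (g w) = D.form v w
  fix_u : g f.u = f.u
  fix_e : ∃ ε : F, g f.e = f.e + ε • f.u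
  weight : D.form (g f.w) f.w = D.form f.w f.w

/-- Moving the hyperplane orthogonal to `u` only along `u`. -/
def InA (g : V ≃ₗ[F] V) : Prop := ∀ v, D.form v f.u = 0 → ∃ t : F, g v = v + t • f.u

/-- The coefficient of `u` in the image of `e`. -/
def eps (g : V ≃ₗ[F] V) : F := D.form (g f.e) f.y

/-- The coefficient of `e` in the image of `w`. -/
def cc (g : V ≃ₗ[F] V) : F := D.form (g f.w) f.x

/-- The coefficient of `u` in the image of `w`. -/
def bb (g : V ≃ₗ[F] V) : F := D.form (g f.w) f.y

variable {f} {g n : V ≃ₗ[F] V}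

theorem Adapted.e_img (hg : f.Adapted g) : g f.e = f.e + f.eps g • f.u := by
  obtain ⟨ε, hε⟩ := hg.fix_e
  have : f.eps g = ε := by
    rw [eps, hε, D.form_add_left, D.form_smul_left, f.ey, f.uy, zero_add, mul_one]
  rw [this, hε]

theorem Adapted.form_u (hg : f.Adapted g) (v : V) : D.form (g v) f.u = D.form v f.u := by
  conv_lhs => rw [← hg.fix_u]
  rw [hg.iso]

theorem Adapted.form_e (hg : f.Adapted g) (v : V) :
    D.form (g v) f.e = D.form v f.e - D.σ (f.eps g) * D.form v f.u := by
  have := hg.iso v f.e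
  rw [hg.e_img, D.form_add_right, D.form_smul_right, hg.form_u] at this
  exact eq_sub_of_add_eq this

theorem Adapted.w_img [FiniteDimensional F V] (hg : f.Adapted g) :
    g f.w = f.w + f.cc g • f.e + f.bb g • f.u := by
  refine f.ext ?_ ?_ ?_ ?_ ?_ <;>
    simp [hg.form_u, hg.form_e, hg.weight, cc, bb, f.uu, f.ee, f.eu, f.ey, f.wu, f.wy, f.we, f.wx,
      f.uy, f.ex, f.ue, f.ux, f.uw, f.ew]

theorem Adapted.x_img [FiniteDimensional F V] (hg : f.Adapted g) :
    g f.x = f.x + D.form (g f.x) f.y • f.u + D.form (g f.x) f.x • f.e +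
      (-D.σ (f.cc g) / D.form f.w f.w) • f.w := by
  have hs : D.form (g f.x) f.w = -D.σ (f.cc g) := by
    have := hg.iso f.x f.w
    rw [hg.w_img, D.form_add_right, D.form_add_right, D.form_smul_right, D.form_smul_right,
      hg.form_u, hg.form_e, f.xu, f.xe, f.xw] at this
    linear_combination this
  have := f.ww
  refine f.ext ?_ ?_ ?_ ?_ ?_ <;>
    simp [hg.form_u, hg.form_e, hs, f.uu, f.ee, f.xx, f.xe, f.eu, f.ey, f.xu, f.xy, f.wu, f.wy,
      f.we, f.wx, f.uy, f.ex, f.ue, f.ux, f.uw, f.ew, f.xw, this]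

/-- A vector orthogonal to `u`. -/
theorem decomp_perp [FiniteDimensional F V] {v : V} (hv : D.form v f.u = 0) :
    v = D.form v f.y • f.u + D.form v f.x • f.e + D.form v f.e • f.x +
      (D.form v f.w / D.form f.w f.w) • f.w := by
  conv_lhs => rw [f.decomp v]
  simp [hv]

/-- Commuting up to `u` on the generators of the perpendicular hyperplane suffices. -/
theorem inA_comm [FiniteDimensional F V] (hg : f.Adapted g) (hn : f.Adapted n) (hc : f.cc n = 0) :
    f.InA (g * n * g⁻¹ * n⁻¹) ∧
      (f.eps (g * n * g⁻¹ * n⁻¹) = 0 →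
        f.bb (g * n * g⁻¹ * n⁻¹) = -(f.cc g * f.eps n)) := by
  set k := g * n * g⁻¹ * n⁻¹ with hk
  have hne : n f.e = f.e + f.eps n • f.u := hn.e_img
  have hnw : n f.w = f.w + f.bb n • f.u := by simpa [hc] using hn.w_img
  have hnx : n f.x = f.x + D.form (n f.x) f.y • f.u + D.form (n f.x) f.x • f.e := by
    simpa [hc] using hn.x_img
  have hgn : ∀ v, k (n (g v)) = g (n v) := fun v => by simp [hk]
  have he : g (n f.e) = n (g f.e) := by
    rw [hne, hg.e_img, map_add, map_add, map_smul, map_smul, hg.fix_u, hn.fix_u, hne, hg.e_img]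
    abel
  have hw : g (n f.w) = n (g f.w) + (-(f.cc g * f.eps n)) • f.u := by
    rw [hnw, hg.w_img]
    simp only [map_add, map_smul, hg.fix_u, hn.fix_u, hne, hnw, hg.w_img]
    module
  have hx : ∃ t : F, g (n f.x) = n (g f.x) + t • f.u := by
    set a := D.form (n f.x) f.y
    set b := D.form (n f.x) f.x
    set a' := D.form (g f.x) f.y with ha'
    set b' := D.form (g f.x) f.x with hb'
    set s := -D.σ (f.cc g) / D.form f.w f.w with hs
    have hgx : g f.x = f.x + a' • f.u + b' • f.e + s • f.w := hg.x_img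
    refine ⟨b * f.eps g - s * f.bb n - b' * f.eps n, ?_⟩
    rw [hnx, hgx]
    simp only [map_add, map_smul, hg.fix_u, hn.fix_u, hne, hnw, hg.e_img]
    rw [hnx, hgx]
    module
  obtain ⟨t, hx⟩ := hx
  have hall : ∀ v, D.form v f.u = 0 → ∃ t : F, g (n v) = n (g v) + t • f.u := by
    intro v hv
    refine ⟨D.form v f.e * t + (D.form v f.w / D.form f.w f.w) * (-(f.cc g * f.eps n)), ?_⟩
    set a := D.form v f.y
    set b := D.form v f.x
    set c := D.form v f.e with hc'
    set d := D.form v f.w / D.form f.w f.w with hd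
    rw [decomp_perp hv]
    simp only [map_add, map_smul, hg.fix_u, hn.fix_u, he, hw, hx]
    simp only [← hc', ← hd]
    module
  refine ⟨fun v hv => ?_, fun hk0 => ?_⟩
  · obtain ⟨z, rfl⟩ := (n * g).surjective v
    change D.form (n (g z)) f.u = 0 at hv
    rw [hn.form_u, hg.form_u] at hv
    obtain ⟨s, hs⟩ := hall z hv
    exact ⟨s, by show k (n (g z)) = n (g z) + s • f.u; rw [hgn, hs]⟩
  · have hku : k f.u = f.u := by
      have := hgn f.u
      rwa [hg.fix_u, hn.fix_u, hg.fix_u] at this
    have hke : k f.e = f.e := by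
      obtain ⟨s, hs⟩ : ∃ s : F, k f.e = f.e + s • f.u := by
        refine ⟨0, ?_⟩
        have h1 := hgn f.e
        rw [he] at h1
        rw [hg.e_img, map_add, map_smul, hn.fix_u, hne, map_add, map_add, map_smul, map_smul, hku]
          at h1
        simpa [add_assoc] using h1
      rw [eps, hs, D.form_add_left, D.form_smul_left, f.ey, f.uy, zero_add, mul_one] at hk0
      rw [hs, hk0, zero_smul, add_zero]
    have h1 := hgn f.w
    rw [hw] at h1
    rw [hg.w_img] at h1
    simp only [map_add, map_smul, hn.fix_u, hne, hnw, hku, hke] at h1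
    have h2 : k f.w = f.w + (-(f.cc g * f.eps n)) • f.u := by
      refine sub_eq_zero.1 ?_
      rw [← sub_eq_zero] at h1
      rw [← h1]
      module
    rw [bb, h2, D.form_add_left, D.form_smul_left, f.wy, f.uy, zero_add, mul_one]

/-- Two elements fixing `e`, moving `w` along `u`, the second moving the hyperplane along `u`,
have a transvection as commutator. -/
theorem tv_comm [FiniteDimensional F V] {a : V ≃ₗ[F] V} (hn : f.Adapted n) (ha : f.Adapted a)
    (hcn : f.cc n = 0) (hen : f.eps n = 0) (haA : f.InA a) (hea : f.eps a = 0)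
    (M : Subgroup (V ≃ₗ[F] V)) (hnM : n ∈ M) (haM : a ∈ M) :
    D.Tv M f.u ((D.σ (f.bb n) * f.bb a - D.σ (f.bb a) * f.bb n) / D.form f.w f.w) := by
  have hne : n f.e = f.e := by rw [hn.e_img, hen, zero_smul, add_zero]
  have hae : a f.e = f.e := by rw [ha.e_img, hea, zero_smul, add_zero]
  have hca : f.cc a = 0 := by
    obtain ⟨t, ht⟩ := haA f.w f.wu
    rw [cc, ht, D.form_add_left, D.form_smul_left, f.wx, f.ux, mul_zero, add_zero]
  have hnw : n f.w = f.w + f.bb n • f.u := by simpa [hcn] using hn.w_img
  have haw : a f.w = f.w + f.bb a • f.u := by simpa [hca] using ha.w_img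
  have hnx : n f.x = f.x + D.form (n f.x) f.y • f.u + D.form (n f.x) f.x • f.e := by
    simpa [hcn] using hn.x_img
  have hax : a f.x = f.x + D.form (a f.x) f.y • f.u := by
    obtain ⟨t, ht⟩ := haA f.x f.xu
    rw [ht, D.form_add_left, D.form_smul_left, f.xy, f.uy, zero_add, mul_one]
  set zn := D.form (n f.x) f.y with hzn
  set za := D.form (a f.x) f.y with hza
  set gn := D.form (n f.x) f.x
  set k := n * a * n⁻¹ * a⁻¹ with hk
  refine ⟨k, mul_mem (mul_mem (mul_mem hnM haM) (inv_mem hnM)) (inv_mem haM), ?_⟩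
  have hcomm : ∀ v, k (a (n v)) = n (a v) := fun v => by simp [hk]
  have hku : k f.u = f.u := by
    have := hcomm f.u; rwa [hn.fix_u, ha.fix_u, hn.fix_u] at this
  have hke : k f.e = f.e := by
    have := hcomm f.e; rwa [hne, hae, hne] at this
  have hkw : k f.w = f.w := by
    have := hcomm f.w
    rw [hnw, haw] at this
    simp only [map_add, map_smul, hn.fix_u, ha.fix_u, hnw, haw, hku] at this
    rw [← sub_eq_zero] at this ⊢
    rw [← this]
    module
  have hkx : k f.x = f.x := by
    have := hcomm f.x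
    rw [hnx, hax] at this
    simp only [map_add, map_smul, hn.fix_u, ha.fix_u, hae, hax, hku, hke] at this
    rw [hnx] at this
    rw [← sub_eq_zero] at this ⊢
    rw [← this]
    module
  have hy : ∀ {g : V ≃ₗ[F] V}, f.Adapted g → f.eps g = 0 → f.cc g = 0 →
      g f.y = f.y + D.form (g f.y) f.y • f.u + (-D.σ (D.form (g f.x) f.y)) • f.e +
        (-D.σ (f.bb g) / D.form f.w f.w) • f.w := by
    intro g hg heg hcg
    have h1 : D.form (g f.y) f.w = -D.σ (f.bb g) := by
      have := hg.iso f.y f.w
      rw [hg.w_img, hcg, zero_smul, add_zero, D.form_add_right, D.form_smul_right, hg.form_u,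
        f.yu, f.yw] at this
      linear_combination this
    have h2 : D.form (g f.y) f.x = -D.σ (D.form (g f.x) f.y) := by
      have := hg.iso f.y f.x
      rw [hg.x_img, hcg, map_zero, neg_zero, zero_div, zero_smul, add_zero, D.form_add_right,
        D.form_add_right, D.form_smul_right, D.form_smul_right, hg.form_u, hg.form_e, heg, f.yu,
        f.ye, f.yx, map_zero] at this
      linear_combination this
    have := f.ww
    refine f.ext ?_ ?_ ?_ ?_ ?_ <;>
      simp [hg.form_u, hg.form_e, heg, h1, h2, f.uu, f.yy, f.yu, f.ee, f.eu, f.ey, f.wu, f.wy,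
        f.we, f.wx, f.uy, f.ex, f.ue, f.ye, f.ux, f.yx, f.uw, f.yw, f.ew, this]
  have hky : k f.y = f.y +
      ((D.σ (f.bb n) * f.bb a - D.σ (f.bb a) * f.bb n) / D.form f.w f.w) • f.u := by
    have h := hcomm f.y
    have hny := hy hn hen hcn
    have hay := hy ha hea hca
    rw [← hzn] at hny
    rw [← hza] at hay
    set ln := D.form (n f.y) f.y
    set la := D.form (a f.y) f.y
    rw [hny, hay] at h
    simp only [map_add, map_smul, map_neg, hn.fix_u, ha.fix_u, hne, hae, hnw, haw, hny, hay, hku,
      hke, hkw] at h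
    rw [← sub_eq_zero] at h ⊢
    rw [← h]
    module
  intro z
  conv_lhs => rw [f.decomp z]
  simp only [map_add, map_smul, hku, hke, hkw, hkx, hky]
  conv_rhs => rw [f.decomp z]
  simp only [map_add, map_smul, LinearMap.add_apply, LinearMap.smul_apply, smul_eq_mul, f.uu, f.yu,
    f.eu, f.xu, f.wu, mul_zero, mul_one, add_zero, zero_add]
  module

end Frame

end Data

end CfsgLib.MaxSub.SU5Quintic
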