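/-
A group of isometries of a five dimensional hermitian space that is transitive on isotropic and on
anisotropic points of each norm contains the special unitary group.
-/
import Cfsg.Agent.Lib.MaxSub.SU5Quintic.TransFrame
import Cfsg.Agent.Lib.MaxSub.SubspaceMaximalUnitary

set_option autoImplicit false
set_option linter.unusedSectionVars false

namespace CfsgLib.MaxSub.SU5Quintic

open Module

universe u v

namespace Data

variable {F : Type u} [Field F] [Fintype F] {V : Type v} [AddCommGroup V] [Module F V] (D : Data F V)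

theorem circ_norm (z : D.circ) : ((z : Fˣ) : F) * D.σ ((z : Fˣ) : F) = 1 := by
  have h : (z : Fˣ) ^ (D.q + 1) = 1 := z.2
  rw [D.σ_apply, ← pow_succ', ← Units.val_pow_eq_pow_val, h, Units.val_one]

theorem natCard_circ : Nat.card D.circ = D.q + 1 := by
  rw [circ, IsCyclic.card_powMonoidHom_ker, CfsgLib.HermCount.card_sub_one D.card_F,
    Nat.gcd_eq_right (dvd_mul_right _ _)]

/-- The number of vectors of a given non-zero norm. -/
theorem card_level [FiniteDimensional F V] (hn : finrank F V = 5) {ν : F} (hν : ν ≠ 0)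
    (hσ : D.σ ν = ν) :
    Nat.card {v : V // D.nrm v = ν} = D.q ^ 4 * (D.q ^ 5 + 1) := by
  obtain ⟨t, ht⟩ := D.exists_norm hσ
  have ht0 : t ≠ 0 := fun h => hν (by rw [← ht, h, zero_mul])
  obtain ⟨e, he⟩ := D.exists_coord hn
  let Φ : {a : Fin 5 → F // Cfsg.hermForm 5 F D.q a a = 1} ≃ {v : V // D.nrm v = ν} :=
    ((LinearEquiv.smulOfUnit (Units.mk0 t ht0)).trans e).toEquiv.subtypeEquiv fun a => by
      show _ ↔ D.form (e (t • a)) (e (t • a)) = ν
      rw [map_smul, D.form_smul_left, D.form_smul_right, he, ← mul_assoc, ht]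
      exact ⟨fun h => by rw [h, mul_one], fun h => mul_left_cancel₀ hν (h.trans (mul_one ν).symm)⟩
  rw [← Nat.card_congr Φ]
  have h := CfsgLib.HermCount.q_mul_A1 D.card_F 5
  have hq : (D.q : ℤ) ≠ 0 := by exact_mod_cast (by have := D.two_le; omega : D.q ≠ 0)
  have h' : (CfsgLib.HermCount.A1 F D.q 5 : ℤ) = (D.q : ℤ) ^ 4 * ((D.q : ℤ) ^ 5 + 1) := by
    refine mul_left_cancel₀ hq ?_
    rw [h]; ring
  exact_mod_cast h'

variable {M : Subgroup (V ≃ₗ[F] V)}

/-- A root group moves with the group. -/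
theorem Full.conj (hM : M ≤ D.iso) {u w : V} {c : F} (hc : c ≠ 0) {g : V ≃ₗ[F] V} (hg : g ∈ M)
    (h : g u = c • w) (hu : D.Full M u) : D.Full M w := by
  intro κ hκ
  have hcc : c * D.σ c ≠ 0 := mul_ne_zero hc ((map_ne_zero D.σ).2 hc)
  obtain ⟨k, hk, hk'⟩ := hu (κ / (c * D.σ c)) (by
    rw [map_div₀, map_mul, D.frob_frob, mul_comm (D.σ c) c, ← add_div, hκ, zero_div])
  refine ⟨g * k * g⁻¹, mul_mem (mul_mem hg hk) (inv_mem hg), fun z => ?_⟩
  show g (k (g⁻¹ z)) = _
  have e1 : g (g⁻¹ z) = z := by rw [← LinearEquiv.mul_apply, mul_inv_cancel]; rfl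
  rw [hk', map_add, map_smul, e1, h, ← hM hg (g⁻¹ z) u, e1, h, D.form_smul_right, smul_smul]
  congr 2
  have hsc := (map_ne_zero D.σ).2 hc
  field_simp

/-- All skew scalars from a surjective family. -/
theorem skew_surj {ν b : F} (hν : ν ≠ 0) (hσ : D.σ ν = ν) (hb : b ≠ 0) {κ : F}
    (hκ : κ + D.σ κ = 0) : ∃ β : F, (D.σ β * b - D.σ b * β) / ν = κ := by
  refine ⟨D.σ (D.xi * (κ * ν) / b), ?_⟩
  have hb' : D.σ b ≠ 0 := (map_ne_zero D.σ).2 hb
  have h1 : D.σ κ = -κ := by linear_combination hκ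
  rw [D.frob_frob, map_div₀, map_mul, map_mul, hσ, h1]
  field_simp
  linear_combination κ * D.xi_trace

/-- An element of order a power of the characteristic has weight one. -/
theorem eq_one_of_pow {p k : ℕ} [Fact p.Prime] [CharP F p] {z : F} (h : z ^ p ^ k = 1) : z = 1 := by
  have : (z - 1) ^ p ^ k = 0 := by rw [sub_pow_char_pow, h, one_pow, sub_self]
  exact sub_eq_zero.1 (eq_zero_of_pow_eq_zero this)

namespace Frame

variable {D} {f : D.Frame} {g a h : V ≃ₗ[F] V}

theorem InA.mul (ha : f.InA a) (hau : a f.u = f.u) (hg : f.InA g) : f.InA (a * g) := by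
  intro v hv
  obtain ⟨s, hs⟩ := hg v hv
  obtain ⟨t, ht⟩ := ha v hv
  refine ⟨t + s, ?_⟩
  rw [LinearEquiv.mul_apply, hs, map_add, map_smul, hau, ht, add_assoc, ← add_smul]

theorem InA.inv (ha : f.InA a) (had : f.Adapted a) : f.InA a⁻¹ := by
  intro v hv
  obtain ⟨v', rfl⟩ := a.surjective v
  obtain ⟨t, ht⟩ := ha v' ((had.form_u v').symm.trans hv)
  refine ⟨-t, ?_⟩
  rw [← LinearEquiv.mul_apply, inv_mul_cancel, LinearEquiv.coe_one, id_eq, ht, add_assoc, ← add_smul,
    add_neg_cancel, zero_smul, add_zero]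

theorem InA.conj (ha : f.InA a) (hh : f.Adapted h) : f.InA (h⁻¹ * a * h) := by
  intro v hv
  obtain ⟨t, ht⟩ := ha (h v) ((hh.form_u v).trans hv)
  refine ⟨t, ?_⟩
  apply h.injective
  have h1 : h ((h⁻¹ * a * h) v) = a (h v) := by
    rw [← LinearEquiv.mul_apply, ← mul_assoc, ← mul_assoc, mul_inv_cancel, one_mul]; rfl
  rw [h1, ht, map_add, map_smul, hh.fix_u]

theorem InA.cc_eq (ha : f.InA a) : f.cc a = 0 := by
  obtain ⟨t, ht⟩ := ha f.w f.wu
  rw [cc, ht, D.form_add_left, D.form_smul_left, f.wx, f.ux, mul_zero, add_zero]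

theorem InA.w_img [FiniteDimensional F V] (ha : f.InA a) (had : f.Adapted a) :
    a f.w = f.w + f.bb a • f.u := by
  simpa [ha.cc_eq] using had.w_img

/-- Conjugating an element moving `e` shifts the coefficient of `w`. -/
theorem shift_w [FiniteDimensional F V] (ha : f.InA a) (had : f.Adapted a) (hh : f.Adapted h) :
    f.eps (h⁻¹ * a * h * a⁻¹) = 0 ∧ f.bb (h⁻¹ * a * h * a⁻¹) = f.cc h * f.eps a := by
  set k := h⁻¹ * a * h * a⁻¹ with hk
  have hcomp : ∀ v, h (k (a v)) = a (h v) := fun v => by simp [hk]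
  have hhk : ∀ {v v'}, h v = h v' → v = v' := fun e => h.injective e
  have hku : k f.u = f.u := by
    have := hcomp f.u
    rw [had.fix_u, hh.fix_u, had.fix_u] at this
    exact hhk (this.trans hh.fix_u.symm)
  have hke : k f.e = f.e := by
    have h0 := hcomp f.e
    rw [had.e_img, hh.e_img] at h0
    simp only [map_add, map_smul, had.fix_u, hku, hh.fix_u, had.e_img] at h0
    refine hhk ?_
    rw [hh.e_img, ← sub_eq_zero]
    rw [← sub_eq_zero] at h0
    rw [← h0]
    module
  have hkw : k f.w = f.w + (f.cc h * f.eps a) • f.u := by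
    have h0 := hcomp f.w
    rw [ha.w_img had, hh.w_img] at h0
    simp only [map_add, map_smul, had.fix_u, hku, hh.fix_u, had.e_img, ha.w_img had] at h0
    refine hhk ?_
    rw [map_add, map_smul, hh.fix_u, hh.w_img, ← sub_eq_zero]
    rw [← sub_eq_zero] at h0
    rw [← h0]
    module
  refine ⟨?_, ?_⟩
  · rw [eps, hke, f.ey]
  · rw [bb, hkw, D.form_add_left, D.form_smul_left, f.wy, f.uy, zero_add, mul_one]

/-- A group adapted to a frame in which every image of the anisotropic vector occurs holds the whole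
root group at the fixed vector. -/
theorem full_of [Finite V] {M : Subgroup (V ≃ₗ[F] V)} (Q : Subgroup (V ≃ₗ[F] V)) (hQ : Q ≤ M)
    (had : ∀ g ∈ Q, f.Adapted g) (hsurj : ∀ c b : F, ∃ g ∈ Q, f.cc g = c ∧ f.bb g = b) :
    D.Full M f.u := by
  classical
  haveI : FiniteDimensional F V := Module.Finite.of_finite
  have hν : D.σ (D.form f.w f.w) = D.form f.w f.w := D.nrm_fixed f.w
  have key : ∀ {b : F}, b ≠ 0 → (∀ β : F, ∃ g ∈ Q, f.cc g = 0 ∧ f.eps g = 0 ∧ f.bb g = β)
      → (∃ a ∈ Q, f.InA a ∧ f.eps a = 0 ∧ f.bb a = b) → D.Full M f.u := by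
    intro b hb hall ⟨a, ha, haA, hea, hab⟩ κ hκ
    obtain ⟨β, hβ⟩ := D.skew_surj f.ww hν hb hκ
    obtain ⟨g, hg, hg1, hg2, hg3⟩ := hall β
    have := Frame.tv_comm (had g hg) (had a ha) hg1 hg2 haA hea M (hQ hg) (hQ ha)
    rw [hab, hg3, hβ] at this
    exact this
  have key' : (∀ β : F, ∃ g ∈ Q, f.InA g ∧ f.eps g = 0 ∧ f.bb g = β) → D.Full M f.u := fun hall => by
    refine key one_ne_zero (fun β => ?_) (hall 1)
    obtain ⟨g, hg, hg1, hg2⟩ := hall β
    exact ⟨g, hg, hg1.cc_eq, hg2⟩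
  by_cases h1 : ∃ a ∈ Q, f.InA a ∧ f.eps a ≠ 0
  · obtain ⟨a, ha, haA, hea⟩ := h1
    refine key' fun β => ?_
    obtain ⟨h, hh, hc, -⟩ := hsurj (β / f.eps a) 0
    obtain ⟨e1, e2⟩ := shift_w haA (had a ha) (had h hh)
    refine ⟨h⁻¹ * a * h * a⁻¹, mul_mem (mul_mem (mul_mem (inv_mem hh) ha) hh) (inv_mem ha), ?_, e1, ?_⟩
    · exact (haA.conj (had h hh)).mul (had _ (mul_mem (mul_mem (inv_mem hh) ha) hh)).fix_u
        (haA.inv (had a ha))
    · rw [e2, hc, div_mul_cancel₀ _ hea]
  push Not at h1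
  by_cases h2 : ∃ n ∈ Q, f.cc n = 0 ∧ f.eps n ≠ 0
  · obtain ⟨n, hn, hn0, hne⟩ := h2
    refine key' fun β => ?_
    obtain ⟨g, hg, hc, -⟩ := hsurj (-β / f.eps n) 0
    obtain ⟨hA, hb⟩ := Frame.inA_comm (had g hg) (had n hn) hn0
    have hk : g * n * g⁻¹ * n⁻¹ ∈ Q := mul_mem (mul_mem (mul_mem hg hn) (inv_mem hg)) (inv_mem hn)
    refine ⟨_, hk, hA, h1 _ hk hA, ?_⟩
    rw [hb (h1 _ hk hA), hc]
    field_simp
  push Not at h2
  have hall : ∀ β : F, ∃ g ∈ Q, f.cc g = 0 ∧ f.eps g = 0 ∧ f.bb g = β := fun β => by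
    obtain ⟨g, hg, hc, hb⟩ := hsurj 0 β
    exact ⟨g, hg, hc, h2 g hg hc, hb⟩
  suffices h : ∃ a ∈ Q, f.InA a ∧ f.bb a ≠ 0 by
    obtain ⟨a, ha, haA, hb⟩ := h
    exact key hb hall ⟨a, ha, haA, h1 a ha haA, rfl⟩
  by_contra hno
  push Not at hno
  choose N hNQ hNc hNe hNb using hall
  -- the coefficient on `e` of the image of `x` would embed the field in the skew scalars
  let γ : F → F := fun β => D.form (N β f.x) f.x
  have hu : ∀ β, N β f.u = f.u := fun β => (had _ (hNQ β)).fix_u
  have he : ∀ β, N β f.e = f.e := fun β => by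
    rw [(had _ (hNQ β)).e_img, hNe, zero_smul, add_zero]
  have hx : ∀ β, N β f.x = f.x + D.form (N β f.x) f.y • f.u + γ β • f.e := fun β => by
    simpa [hNc, γ] using (had _ (hNQ β)).x_img
  have hw : ∀ β, N β f.w = f.w + β • f.u := fun β => by
    simpa [hNc, hNb] using (had _ (hNQ β)).w_img
  have hskew : ∀ β, γ β + D.σ (γ β) = 0 := fun β => by
    have h := (had _ (hNQ β)).iso f.x f.x
    rw [hx β] at h
    simp [f.xx, f.xe, f.ex, f.ee, f.eu, f.xu, f.uu, f.ue, f.ux] at h
    linear_combination h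
  have hinj : Function.Injective γ := by
    intro b b' hbb
    have hk : N b * (N b')⁻¹ ∈ Q := mul_mem (hNQ b) (inv_mem (hNQ b'))
    have happ : ∀ v, (N b * (N b')⁻¹) (N b' v) = N b v := fun v => by simp
    have hA : f.InA (N b * (N b')⁻¹) := by
      intro v hv
      obtain ⟨v', rfl⟩ := (N b').surjective v
      have hv' : D.form v' f.u = 0 := ((had _ (hNQ b')).form_u v').symm.trans hv
      refine ⟨D.form v' f.e * (D.form (N b f.x) f.y - D.form (N b' f.x) f.y) +
        D.form v' f.w / D.form f.w f.w * (b - b'), ?_⟩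
      rw [happ]
      have hxb := hx b
      have hxb' := hx b'
      rw [hbb] at hxb
      generalize D.form (N b f.x) f.y = p1 at hxb ⊢
      generalize D.form (N b' f.x) f.y = p2 at hxb' ⊢
      generalize hc1 : D.form v' f.e = c1
      generalize hc2 : D.form v' f.w / D.form f.w f.w = c2
      conv_lhs => rw [Frame.decomp_perp hv', hc1, hc2]
      conv_rhs => rw [Frame.decomp_perp hv', hc1, hc2]
      simp only [map_add, map_smul, hu, he, hw]
      rw [hxb, hxb']
      module
    have h3 := hno _ hk hA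
    have h4 := happ f.w
    rw [hw, hw, map_add, map_smul, (had _ hk).fix_u] at h4
    simp only [bb] at h3
    generalize N b * (N b')⁻¹ = k at h3 h4
    have h5 := congrArg (fun v => D.form v f.y) h4
    simp [h3, f.wy, f.uy] at h5
    exact h5.symm
  obtain ⟨b, hb⟩ := (Finite.injective_iff_surjective.1 hinj) D.xi
  have := hskew b
  rw [hb, D.xi_trace] at this
  exact one_ne_zero this

end Frame

/-- A Sylow subgroup for the characteristic is adapted to a frame. -/
theorem exists_frame [Finite V] (hn : finrank F V = 5) (hM : M ≤ D.iso) (p : ℕ) [Fact p.Prime]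
    [CharP F p] [Finite M] (P : Sylow p M) :
    ∃ f : D.Frame, ∀ g ∈ (P : Subgroup M).map M.subtype, f.Adapted g := by
  classical
  haveI : FiniteDimensional F V := Module.Finite.of_finite
  set P0 : Subgroup M := (P : Subgroup M) with hP0
  let ρ : P0 → V →ₗ[F] V := fun g => ((g : M) : V ≃ₗ[F] V).toLinearMap
  have hiso0 : ∀ (g : P0) v w, D.form (ρ g v) (ρ g w) = D.form v w := fun g => hM (g : M).2
  obtain ⟨u, -, hu0, hu, hfu⟩ := D.exists_fixed_iso p P.isPGroup' ρ ⊤
    (by rw [finrank_top, hn]; omega) (fun _ _ _ => trivial) (fun _ _ => rfl)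
    (fun _ _ _ _ => rfl) (fun g v _ w _ => hiso0 g v w)
  obtain ⟨y0, hy0⟩ := D.exists_pair hu0
  obtain ⟨c0, hy, hyu⟩ := D.exists_iso_shift hu hy0
  obtain ⟨y, hyy, hyu⟩ : ∃ y, D.form y y = 0 ∧ D.form y u = 1 := ⟨_, hy, hyu⟩
  have huu : D.form u u = 0 := hu
  have huy : D.form u y = 1 := by rw [D.form_swap, hyu, map_one]
  let π : V →ₗ[F] V := LinearMap.id - (D.form.flip y).smulRight u - (D.form.flip u).smulRight y
  have hπ : ∀ v, π v = v - D.form v y • u - D.form v u • y := fun v => by simp [π]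
  let W : Submodule F V := LinearMap.ker (D.form.flip u) ⊓ LinearMap.ker (D.form.flip y)
  have hW : ∀ v, v ∈ W ↔ D.form v u = 0 ∧ D.form v y = 0 := fun v => by simp [W]
  have hker : ∀ (U : Submodule F V) (φ : V →ₗ[F] F), finrank F U ≤
      finrank F ↥(U ⊓ LinearMap.ker φ) + 1 := by
    intro U φ
    have h1 := LinearMap.finrank_range_add_finrank_ker (φ.domRestrict U)
    have h2 : finrank F (φ.domRestrict U).range ≤ 1 :=
      (Submodule.finrank_le _).trans (by rw [Module.finrank_self])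
    have h3 : (φ.domRestrict U).ker = Submodule.comap U.subtype (U ⊓ LinearMap.ker φ) := by
      ext ⟨v, hv⟩
      simp [hv]
    rw [h3, (Submodule.comapSubtypeEquivOfLe inf_le_left).finrank_eq] at h1
    omega
  have hW2 : 2 ≤ finrank F W := by
    have h1 := hker ⊤ (D.form.flip u)
    have h2 := hker (LinearMap.ker (D.form.flip u)) (D.form.flip y)
    rw [finrank_top, top_inf_eq] at h1
    show 2 ≤ finrank F ↥(LinearMap.ker (D.form.flip u) ⊓ LinearMap.ker (D.form.flip y))
    omega
  have hpu : ∀ (g : P0) v, D.form (ρ g v) u = D.form v u := fun g v => by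
    conv_lhs => rw [← hfu g]
    exact hiso0 g v u
  have hmod : ∀ (g : P0) v, v ∈ W → π (ρ g v) = ρ g v - D.form (ρ g v) y • u := fun g v hv => by
    rw [hπ, hpu, ((hW v).1 hv).1, zero_smul, sub_zero]
  obtain ⟨e, heW, he0, hee, hfe⟩ := D.exists_fixed_iso p P.isPGroup' (fun g => π ∘ₗ ρ g) W hW2
    (fun g v hv => by
      rw [hW, LinearMap.comp_apply, hπ]
      simp [huu, hyu, huy, hyy, hpu, ((hW v).1 hv).1])
    (fun v hv => by
      show π v = v
      rw [hπ, ((hW v).1 hv).1, ((hW v).1 hv).2]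
      simp)
    (fun g h v hv => by
      show π (ρ g (ρ h v)) = π (ρ g (π (ρ h v)))
      rw [hmod h v hv, map_sub, map_smul, hfu, map_sub, map_smul]
      have : π u = 0 := by rw [hπ, huu, huy]; simp
      rw [this, smul_zero, sub_zero])
    (fun g v hv w hw => by
      show D.form (π (ρ g v)) (π (ρ g w)) = D.form v w
      rw [hmod g v hv, hmod g w hw]
      simp only [map_sub, LinearMap.sub_apply, D.form_smul_left, D.form_smul_right, huu, mul_zero,
        sub_zero, hiso0, hpu, ((hW v).1 hv).1, D.form_swap (ρ g w) u, ((hW w).1 hw).1, map_zero])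
  obtain ⟨heu, hey⟩ := (hW e).1 heW
  have hee' : D.form e e = 0 := hee
  obtain ⟨x0, hx0⟩ := D.exists_pair he0
  have hxW : π x0 ∈ W := by rw [hW, hπ]; simp [huu, hyu, huy, hyy]
  have hxe : D.form (π x0) e = 1 := by
    rw [hπ]
    simp [hx0, D.form_swap e u, heu, D.form_swap e y, hey]
  obtain ⟨c1, hxx, hxe⟩ := D.exists_iso_shift hee hxe
  obtain ⟨x, hxW, hxx, hxe⟩ : ∃ x ∈ W, D.form x x = 0 ∧ D.form x e = 1 :=
    ⟨_, W.add_mem hxW (W.smul_mem c1 heW), hxx, hxe⟩
  obtain ⟨hxu, hxy⟩ := (hW x).1 hxW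
  let W5 : Submodule F V := W ⊓ LinearMap.ker (D.form.flip e) ⊓ LinearMap.ker (D.form.flip x)
  have hW5 : ∀ v, v ∈ W5 ↔ ((D.form v u = 0 ∧ D.form v y = 0) ∧ D.form v e = 0) ∧ D.form v x = 0 :=
    fun v => by simp [W5, W]
  obtain ⟨w, hwW, hw0⟩ : ∃ w ∈ W5, w ≠ 0 := by
    refine Submodule.exists_mem_ne_zero_of_ne_bot fun hbot => ?_
    have h1 := hker ⊤ (D.form.flip u)
    have h2 := hker (LinearMap.ker (D.form.flip u)) (D.form.flip y)
    have h3 := hker W (D.form.flip e)
    have h4 := hker (W ⊓ LinearMap.ker (D.form.flip e)) (D.form.flip x)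
    rw [finrank_top, top_inf_eq] at h1
    have h5 : finrank F W5 = 0 := by rw [hbot, finrank_bot]
    change finrank F ↥(W ⊓ LinearMap.ker (D.form.flip e) ⊓ LinearMap.ker (D.form.flip x)) = 0 at h5
    change finrank F ↥(LinearMap.ker (D.form.flip u)) ≤ finrank F ↥W + 1 at h2
    omega
  obtain ⟨⟨⟨hwu, hwy⟩, hwe⟩, hwx⟩ := (hW5 w).1 hwW
  have hex : D.form e x = 1 := by rw [D.form_swap, hxe, map_one]
  have hue := D.form_zero_swap heu
  have hye := D.form_zero_swap hey
  have hux := D.form_zero_swap hxu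
  have hyx := D.form_zero_swap hxy
  have hww : D.form w w ≠ 0 := by
    intro h
    refine hw0 (D.nondeg w fun z => ?_)
    set z' := z - (D.form z y • u + D.form z u • y + D.form z x • e + D.form z e • x) with hz
    have hz' : z' ∈ W5 := by
      rw [hW5, hz]
      simp [huu, hyu, huy, hyy, heu, hey, hxu, hxy, hee', hxe, hxx, hex, hue, hye, hux, hyx]
    have hwz : D.form w z = D.form w z' := by
      rw [hz]
      simp [hwu, hwy, hwe, hwx]
    rw [hwz]
    by_contra hne
    have hdim : finrank F W5 ≤ 1 := by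
      have hdisj : Disjoint W5 (Submodule.span F {u, y, e, x}) := by
        rw [Submodule.disjoint_def]
        intro v hv hv'
        rw [Submodule.mem_span_insert] at hv'
        obtain ⟨a, r, hr, rfl⟩ := hv'
        rw [Submodule.mem_span_insert] at hr
        obtain ⟨b, r, hr, rfl⟩ := hr
        rw [Submodule.mem_span_pair] at hr
        obtain ⟨c, d, rfl⟩ := hr
        rw [hW5] at hv
        simp [huu, hyu, huy, hyy, heu, hey, hxu, hxy, hee', hxe, hxx, hex, hue, hye, hux, hyx] at hv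
        simp [hv.1.1.1, hv.1.1.2, hv.1.2, hv.2]
      have hli : LinearIndependent F ![u, y, e, x] := by
        rw [Fintype.linearIndependent_iff]
        intro r hr
        have key : ∀ z, ∑ i, r i * D.form (![u, y, e, x] i) z = 0 := fun z => by
          have := congrArg (fun a => D.form a z) hr
          simpa only [map_sum, LinearMap.sum_apply, D.form_smul_left, map_zero,
            LinearMap.zero_apply] using this
        have k1 := key y
        have k2 := key u
        have k3 := key x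
        have k4 := key e
        simp [Fin.sum_univ_four, huu, hyu, huy, hyy, heu, hey, hxu, hxy, hee', hxe, hxx, hex,
          hue, hye, hux, hyx] at k1 k2 k3 k4
        intro i
        fin_cases i
        · exact k1
        · exact k2
        · exact k3
        · exact k4
      have h4 : finrank F ↥(Submodule.span F (Set.range ![u, y, e, x])) = 4 := by
        rw [finrank_span_eq_card hli, Fintype.card_fin]
      have hr : Set.range ![u, y, e, x] = {u, y, e, x} := by
        simp only [Matrix.range_cons, Matrix.range_empty, Set.union_empty, Set.singleton_union]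
      rw [hr] at h4
      have := Submodule.finrank_add_finrank_le_of_disjoint hdisj
      omega
    obtain ⟨a, ha⟩ := exists_smul_eq_of_finrank_eq_one
      (le_antisymm hdim (Submodule.one_le_finrank_iff.2 fun hb => hw0 (by
        rw [hb, Submodule.mem_bot] at hwW; exact hwW)))
      (x := (⟨w, hwW⟩ : W5)) (fun e => hw0 (congrArg Subtype.val e)) ⟨z', hz'⟩
    refine hne ?_
    have : z' = a • w := (congrArg Subtype.val ha).symm
    rw [this, D.form_smul_right, h, mul_zero]
  let f : D.Frame :=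
    { u := u, y := y, e := e, x := x, w := w, uu := huu, yy := hyy, yu := hyu, ee := hee', xx := hxx
      xe := hxe, eu := heu, ey := hey, xu := hxu, xy := hxy, wu := hwu, wy := hwy, we := hwe
      wx := hwx, ww := hww, dim := hn }
  let G : P0 → V ≃ₗ[F] V := fun g => ((g : M) : V ≃ₗ[F] V)
  have hGmul : ∀ g h : P0, G (g * h) = G g * G h := fun _ _ => rfl
  have hGinv : ∀ g : P0, G g⁻¹ = (G g)⁻¹ := fun _ => rfl
  have hεe : ∀ g : P0, ∃ ε : F, G g e = e + ε • u := fun g => by
    refine ⟨D.form (ρ g e) y, ?_⟩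
    have h := hfe g
    rw [LinearMap.comp_apply, hmod g e heW] at h
    exact eq_add_of_sub_eq h
  have hge : ∀ (g : P0) v, D.form (G g v) e + D.σ (D.form (G g e) y) * D.form v u = D.form v e := by
    intro g v
    obtain ⟨ε, hε⟩ := hεe g
    have : D.form (G g e) y = ε := by rw [hε]; simp [hey, huy]
    rw [this]
    have h1 := hM (g : M).2 v e
    change D.form (G g v) (G g e) = _ at h1
    rw [hε, D.form_add_right, D.form_smul_right] at h1
    have h2 : D.form (G g v) u = D.form v u := hpu g v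
    rw [h2] at h1
    exact h1
  let z : P0 → F := fun g => D.form (G g w) w / D.form w w
  have hwimg : ∀ g : P0, G g w = D.form (G g w) y • u + D.form (G g w) x • e + z g • w := by
    intro g
    have h1 : D.form (G g w) u = 0 := (hpu g w).trans hwu
    have h2 : D.form (G g w) e = 0 := by simpa [hwu, hwe] using hge g w
    conv_lhs => rw [Frame.decomp_perp (f := f) (v := G g w) h1]
    show _ + D.form (G g w) e • x + _ = _
    rw [h2, zero_smul, add_zero]
  have hzmul : ∀ g h : P0, z (g * h) = z g * z h := by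
    intro g h
    show D.form (G (g * h) w) w / D.form w w = _
    rw [hGmul, LinearEquiv.mul_apply]
    conv_lhs => rw [hwimg h]
    obtain ⟨ε, hε⟩ := hεe g
    have hgu : G g u = u := hfu g
    simp [map_add, map_smul, hgu, hε, z, D.form_swap w u, hwu, D.form_swap w e, hwe]
    field_simp
  have hz1 : ∀ g, z g = 1 := by
    intro g
    obtain ⟨k, hk⟩ := P.isPGroup' g
    refine eq_one_of_pow (p := p) (k := k) ?_
    have h1 : z 1 = 1 := div_self hww
    have : ∀ n : ℕ, z (g ^ n) = z g ^ n := by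
      intro n
      induction n with
      | zero => rw [pow_zero, pow_zero, h1]
      | succ n ih => rw [pow_succ, pow_succ, hzmul, ih]
    rw [← this, hk, h1]
  have had : ∀ g : P0, f.Adapted (G g) := fun g =>
    ⟨hM (g : M).2, hfu g, hεe g, (div_eq_one_iff_eq hww).1 (hz1 g)⟩
  refine ⟨f, ?_⟩
  rintro _ ⟨g, hg, rfl⟩
  exact had ⟨g, hg⟩

/-- Transitivity on anisotropic points gives every image of the anisotropic vector. -/
theorem sylow_surj [Finite V] (hn : finrank F V = 5) (hM : M ≤ D.iso)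
    (hani : ∀ v w, D.nrm v = D.nrm w → D.nrm v ≠ 0 → ∃ g ∈ M, ∃ c : F, g v = c • w)
    (p : ℕ) [Fact p.Prime] [CharP F p] [Finite M] (P : Sylow p M) (f : D.Frame)
    (had : ∀ g ∈ (P : Subgroup M).map M.subtype, f.Adapted g) :
    ∀ c b : F, ∃ g ∈ (P : Subgroup M).map M.subtype, f.cc g = c ∧ f.bb g = b := by
    classical
    haveI : FiniteDimensional F V := Module.Finite.of_finite
    set P0 : Subgroup M := (P : Subgroup M) with hP0
    let G : P0 → V ≃ₗ[F] V := fun g => ((g : M) : V ≃ₗ[F] V)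
    have hG : ∀ g : P0, G g ∈ P0.map M.subtype := fun g => ⟨(g : M), g.2, rfl⟩
    have hww := f.ww
    have hwimg : ∀ g : P0, G g f.w = f.w + D.form (G g f.w) f.x • f.e + D.form (G g f.w) f.y • f.u :=
      fun g => (had _ (hG g)).w_img
    let X := {v : V // D.nrm v = D.form f.w f.w}
    letI : MulAction (M × D.circ) X :=
      { smul := fun gz v => ⟨((gz.2 : Fˣ) : F) • (gz.1 : V ≃ₗ[F] V) v.1, by
          show D.form _ _ = _
          rw [D.form_smul_left, D.form_smul_right, hM gz.1.2, ← mul_assoc, D.circ_norm, one_mul]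
          exact v.2⟩
        one_smul := fun v => Subtype.ext (one_smul F v.1)
        mul_smul := fun a b v => Subtype.ext (by
          show (((a.2 * b.2 : D.circ) : Fˣ) : F) • ((a.1 * b.1 : M) : V ≃ₗ[F] V) v.1 =
            ((a.2 : Fˣ) : F) • (a.1 : V ≃ₗ[F] V) (((b.2 : Fˣ) : F) • (b.1 : V ≃ₗ[F] V) v.1)
          rw [map_smul, smul_smul]
          rfl) }
    haveI : MulAction.IsPretransitive (M × D.circ) X := ⟨fun a b => by
      obtain ⟨g, hg, c, hc⟩ := hani a.1 b.1 (a.2.trans b.2.symm) (by rw [a.2]; exact hww)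
      have hcn : c * D.σ c = 1 := by
        have := hM hg a.1 a.1
        rw [hc, D.form_smul_left, D.form_smul_right, show D.form b.1 b.1 = _ from b.2,
          show D.form a.1 a.1 = _ from a.2, ← mul_assoc] at this
        exact mul_right_cancel₀ hww (this.trans (one_mul _).symm)
      have hc0 : c ≠ 0 := fun h => by simp [h] at hcn
      refine ⟨(⟨g, hg⟩, (⟨Units.mk0 c hc0, ?_⟩ : D.circ)⁻¹), Subtype.ext ?_⟩
      · refine Units.ext ?_
        rw [powMonoidHom_apply, Units.val_pow_eq_pow_val, Units.val_mk0, Units.val_one, pow_succ',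
          ← D.σ_apply, hcn]
      · show (((Units.mk0 c hc0)⁻¹ : Fˣ) : F) • g a.1 = b.1
        rw [hc, smul_smul, Units.val_inv_eq_inv_val, Units.val_mk0, inv_mul_cancel₀ hc0, one_smul]⟩
    have hidx : (D.q ^ 4).Coprime (P0.prod (⊥ : Subgroup D.circ)).index := by
      rw [Subgroup.index_prod, Subgroup.index_bot, D.natCard_circ]
      obtain ⟨n, hp, hn'⟩ := FiniteField.card F p
      rw [D.card_F] at hn'
      obtain ⟨k, -, hk⟩ := (Nat.dvd_prime_pow hp).1 (Dvd.intro D.q (by rw [← sq]; exact hn'))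
      have hk0 : k ≠ 0 := fun h => by have := D.two_le; rw [h, pow_zero] at hk; omega
      rw [hk, ← pow_mul]
      refine Nat.Coprime.pow_left _ ((Nat.Prime.coprime_iff_not_dvd hp).2 fun h => ?_)
      rcases hp.dvd_mul.1 h with h | h
      · exact P.not_dvd_index h
      · exact hp.one_lt.ne' (Nat.dvd_one.1 ((Nat.dvd_add_right (dvd_pow_self p hk0)).1 h))
    have hdvd : D.q ^ 4 ∣ Nat.card (MulAction.orbit (P0.prod (⊥ : Subgroup D.circ))
        (⟨f.w, rfl⟩ : X)) :=
      orbit_dvd (by rw [D.card_level hn hww (D.nrm_fixed f.w)]; exact dvd_mul_right _ _) _ hidx _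
    set O := MulAction.orbit (P0.prod (⊥ : Subgroup D.circ)) (⟨f.w, rfl⟩ : X) with hO
    let Φ : O → F × F := fun v => (D.form (v.1.1) f.x, D.form (v.1.1) f.y)
    have himg : ∀ v : O, ∃ g : P0, (v.1.1 : V) = G g f.w := by
      rintro ⟨_, ⟨⟨⟨g, z0⟩, hg, hz0⟩, rfl⟩⟩
      refine ⟨⟨g, hg⟩, ?_⟩
      have hz0' : z0 = 1 := Subgroup.mem_bot.1 hz0
      show ((z0 : Fˣ) : F) • (g : V ≃ₗ[F] V) f.w = _
      rw [hz0']
      exact one_smul F _
    have hinj : Function.Injective Φ := by
      intro a b hab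
      obtain ⟨g, hg⟩ := himg a
      obtain ⟨h, hh⟩ := himg b
      simp only [Φ, hg, hh, Prod.mk.injEq] at hab
      refine Subtype.ext (Subtype.ext ?_)
      rw [hg, hh, hwimg g, hwimg h, hab.1, hab.2]
    have hcard : Nat.card (F × F) = D.q ^ 4 := by
      rw [Nat.card_prod, Nat.card_eq_fintype_card, D.card_F]; ring
    haveI : Nonempty O := ⟨⟨_, MulAction.mem_orbit_self _⟩⟩
    have hbij : Function.Bijective Φ := (Nat.bijective_iff_injective_and_card _).2 ⟨hinj,
      le_antisymm (Nat.card_le_card_of_injective _ hinj)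
        (by rw [hcard]; exact Nat.le_of_dvd Nat.card_pos hdvd)⟩
    intro c b
    obtain ⟨v, hv⟩ := hbij.2 (c, b)
    obtain ⟨g, hg⟩ := himg v
    simp only [Φ, hg, Prod.mk.injEq] at hv
    exact ⟨G g, hG g, hv⟩

/-- A root group in a group transitive on points. -/
theorem exists_full [Finite V] (hn : finrank F V = 5) (hM : M ≤ D.iso)
    (hani : ∀ v w, D.nrm v = D.nrm w → D.nrm v ≠ 0 → ∃ g ∈ M, ∃ c : F, g v = c • w) :
    ∃ u : V, u ≠ 0 ∧ D.form u u = 0 ∧ D.Full M u := by
  obtain ⟨p, hchar⟩ := CharP.exists F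
  haveI : Fact p.Prime := ⟨CharP.char_is_prime F p⟩
  haveI : Finite (V ≃ₗ[F] V) := Finite.of_injective _ DFunLike.coe_injective
  obtain ⟨P⟩ : Nonempty (Sylow p M) := inferInstance
  obtain ⟨f, hf⟩ := D.exists_frame hn hM p P
  refine ⟨f.u, f.u_ne, f.uu, Frame.full_of _ ?_ hf (D.sylow_surj hn hM hani p P f hf)⟩
  rintro _ ⟨g, -, rfl⟩
  exact g.2

/-- A group of isometries of determinant one transitive on points contains `SU`. -/
theorem eq_special_of_transitive [Finite V] (hn : finrank F V = 5) (_hq : 3 ≤ D.q)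
    (M : Subgroup (V ≃ₗ[F] V)) (hM : M ≤ D.iso) (_hdet : ∀ g ∈ M, LinearMap.det (g : V →ₗ[F] V) = 1)
    (hani : ∀ v w, D.nrm v = D.nrm w → D.nrm v ≠ 0 → ∃ g ∈ M, ∃ c : F, g v = c • w)
    (hiso : ∀ u w, u ≠ 0 → w ≠ 0 → D.nrm u = 0 → D.nrm w = 0 → ∃ g ∈ M, ∃ c : F, g u = c • w) :
    ∀ g ∈ D.iso, LinearMap.det (g : V →ₗ[F] V) = 1 → g ∈ M := by
  classical
  haveI : FiniteDimensional F V := Module.Finite.of_finite
  obtain ⟨u, hu0, huu, hu⟩ := D.exists_full hn hM hani
  have hall : ∀ v, D.form v v = 0 → D.Full M v := by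
    intro v hv
    rcases eq_or_ne v 0 with rfl | hv0
    · intro κ _
      exact ⟨1, one_mem _, fun z => by simp⟩
    obtain ⟨g, hg, c, hc⟩ := hiso u v hu0 hv0 huu hv
    refine Full.conj D hM (fun h => hu0 ?_) hg hc hu
    apply g.injective
    rw [hc, h, zero_smul, map_zero]
  obtain ⟨e, he⟩ := D.exists_coord hn
  let ψ : GL (Fin 5) F →* (V ≃ₗ[F] V) :=
    { toFun := fun A => (e.symm.trans
        (Matrix.GeneralLinearGroup.toLin A).toLinearEquiv).trans e
      map_one' := by
        ext v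
        show e (((1 : GL (Fin 5) F) : Matrix (Fin 5) (Fin 5) F).mulVec (e.symm v)) = v
        simp
      map_mul' := fun A B => by
        ext v
        show e (((A * B : GL (Fin 5) F) : Matrix (Fin 5) (Fin 5) F).mulVec (e.symm v)) =
          e ((A : Matrix (Fin 5) (Fin 5) F).mulVec (e.symm (e ((B : Matrix (Fin 5) (Fin 5) F).mulVec
            (e.symm v)))))
        rw [LinearEquiv.symm_apply_apply, Matrix.mulVec_mulVec, Units.val_mul] }
  have hψ : ∀ (A : GL (Fin 5) F) v, ψ A v = e ((A : Matrix (Fin 5) (Fin 5) F).mulVec (e.symm v)) :=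
    fun _ _ => rfl
  intro g hg hd
  let A0 : Matrix (Fin 5) (Fin 5) F := LinearMap.toMatrix' (e.symm.toLinearMap ∘ₗ g.toLinearMap ∘ₗ e.toLinearMap)
  have hA : ∀ a, A0.mulVec a = e.symm (g (e a)) := fun a => by
    rw [LinearMap.toMatrix'_mulVec]; rfl
  have hA1 : A0.det = 1 := by
    rw [LinearMap.det_toMatrix']
    have := LinearMap.det_conj (g : V →ₗ[F] V) e.symm
    rw [hd] at this
    simpa [LinearMap.comp_assoc] using this
  let A : GL (Fin 5) F := Matrix.GeneralLinearGroup.mkOfDetNeZero A0 (hA1.trans_ne one_ne_zero)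
  have hAv : (A : Matrix (Fin 5) (Fin 5) F) = A0 := rfl
  have hgA : ψ A = g := by
    ext v
    rw [hψ, hAv, hA, LinearEquiv.apply_symm_apply, LinearEquiv.apply_symm_apply]
  rw [← hgA]
  show A ∈ M.comap ψ
  have hAd : A ∈ Cfsg.Geo.specialLinear (Fin 5) F := MonoidHom.mem_ker.2 (Units.ext (by
    rw [Matrix.GeneralLinearGroup.val_det_apply, hAv]
    exact hA1))
  refine CfsgLib.MaxSub.SU_le_of_ctr (hF := D.card_F) (by norm_num) ?_ ⟨?_, hAd⟩
  · intro v hv K c hc hK
    show ψ K ∈ M
    obtain ⟨k, hk, hk'⟩ := hall (e v) (by rw [he, hv]) c (by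
      rw [D.σ_apply]
      simpa [CfsgLib.UnitaryTransvection.frob_apply] using hc)
    convert hk using 1
    ext z
    rw [hψ, hK, CfsgLib.UnitaryTransvection.tmat_mulVec, map_add, map_smul,
      LinearEquiv.apply_symm_apply, hk']
    congr 2
    rw [show D.form z (e v) = D.form (e (e.symm z)) (e v) by rw [LinearEquiv.apply_symm_apply], he]
  · intro a b
    show Cfsg.hermForm 5 F D.q (A0.mulVec a) (A0.mulVec b) = _
    rw [hA, hA, ← he, ← he, LinearEquiv.apply_symm_apply, LinearEquiv.apply_symm_apply]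
    exact hg _ _

end Data

end CfsgLib.MaxSub.SU5Quintic
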