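/-
The torus of a unitary group in a field of degree five, modulo scalars and inside the group.
-/
import Cfsg.Agent.Lib.SingerFive.Semi
import Cfsg.Agent.Lib.MaxSub.ExtUnitary.Field
import Cfsg.Agent.Lib.MaxSub.SU5Quintic.Numeric
import Cfsg.Agent.Lib.MaxSub.SU5Quintic.CentralMain

set_option autoImplicit false
set_option linter.unusedSectionVars false
set_option linter.style.haveILetI false

namespace CfsgLib.MaxSub.SU5Quintic

open Module
open CfsgLib.SingerFive (Sub onPts onPts_apply mulE mulE_apply autE autE_apply IsSemi CCData exists_pt pt smul_pt pt_eq_pt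
  mem_range_of_fix smul_eq_of_range scalar_of_trivial mem_range_of_eigen semi_of_intertwine aut_eq_pow det_mulE det_autE
  card_aut inv_eq_symm autE_mulE)

variable {F L : Type*} [Field F] [Field L] [Algebra F L]

/-- The torus of the special unitary group. -/
def tnorm (q : ℕ) : Subgroup Lˣ := (powMonoidHom (torOrder q)).ker

theorem mem_tnorm {q : ℕ} {u : Lˣ} : u ∈ tnorm q ↔ u ^ torOrder q = 1 := Iff.rfl

/-- A group of isometries of determinant one of the form `trace (x * y ^ (q ^ 5))` containing the torus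
and the field automorphisms. -/
structure UOver (q : ℕ) (M : Subgroup (L ≃ₗ[F] L)) : Prop where
  finrank : finrank F L = 5
  card : Nat.card F = q ^ 2
  three_le : 3 ≤ q
  iso : ∀ g ∈ M, ∀ x y : L, Algebra.trace F L ((g : L ≃ₗ[F] L) x * (g : L ≃ₗ[F] L) y ^ q ^ 5) =
    Algebra.trace F L (x * y ^ q ^ 5)
  det : ∀ g ∈ M, LinearMap.det (g : L →ₗ[F] L) = 1
  mul : ∀ u : Lˣ, u ^ torOrder q = 1 → mulE u ∈ M
  aut : ∀ τ : L ≃ₐ[F] L, autE τ ∈ M

variable {q : ℕ} {M : Subgroup (L ≃ₗ[F] L)}

/-- The multiplications of the torus as elements of `M`. -/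
noncomputable def UOver.incl (O : UOver q M) : tnorm (L := L) q →* M :=
  (mulE.comp (tnorm (L := L) q).subtype).codRestrict M fun u => O.mul u (mem_tnorm.mp u.2)

/-- The torus on points. -/
noncomputable def UOver.tor (O : UOver q M) : Subgroup (onPts M).range :=
  ((onPts M).rangeRestrict.comp O.incl).range

/-- A generator of the automorphisms, as a permutation of the points. -/
def UOver.frob (O : UOver q M) (τ : L ≃ₐ[F] L) : (onPts M).range :=
  ⟨onPts M ⟨autE τ, O.aut τ⟩, _, rfl⟩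

theorem UOver.mem_tor (O : UOver q M) {x : (onPts M).range} :
    x ∈ O.tor ↔ ∃ u : tnorm (L := L) q, ∀ P, (x : Equiv.Perm (Sub F L 1)) P = (mulE (u : Lˣ) : L ≃ₗ[F] L) • P := by
  constructor
  · rintro ⟨u, rfl⟩
    exact ⟨u, fun P => rfl⟩
  · rintro ⟨u, hu⟩
    exact ⟨u, Subtype.ext (Equiv.ext fun P => (hu P).symm)⟩

theorem UOver.frob_pow (O : UOver q M) (τ : L ≃ₐ[F] L) (i : ℕ) (P : Sub F L 1) :
    ((O.frob τ ^ i : (onPts M).range) : Equiv.Perm (Sub F L 1)) P = autE (τ ^ i) • P := by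
  rw [SubmonoidClass.coe_pow]
  show (onPts M ⟨autE τ, O.aut τ⟩ ^ i) P = _
  rw [← map_pow, map_pow autE]
  rfl

variable [Finite L]

/-- The exponents of the norm agree with the torus order on the circle. -/
theorem UOver.norm_eq (O : UOver q M) {u : Lˣ} (hu : u ^ (q ^ 5 + 1) = 1) :
    Algebra.norm F (u : L) = 1 ↔ u ^ torOrder q = 1 := by
  haveI : Finite F := Finite.of_injective _ (algebraMap F L).injective
  haveI : Fintype F := Fintype.ofFinite F
  haveI : FiniteDimensional F L := CfsgLib.SingerFive.finiteDim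
  have h1 : algebraMap F L (Algebra.norm F (u : L)) = ((u ^ torOrder q : Lˣ) : L) := by
    rw [FiniteField.algebraMap_norm_eq_prod_pow, O.finrank, O.card]
    simp only [Finset.prod_range_succ, Finset.prod_range_zero, one_mul, ← pow_add, Units.val_pow_eq_pow_val]
    have h2 : (u : L) ^ (q ^ 5 + 1) = 1 := by rw [← Units.val_pow_eq_pow_val, hu, Units.val_one]
    have h3 : (q ^ 2) ^ 0 + (q ^ 2) ^ 1 + (q ^ 2) ^ 2 + (q ^ 2) ^ 3 + (q ^ 2) ^ 4 =
        torOrder q + (q + q ^ 3) * (q ^ 5 + 1) := by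
      zify
      rw [torOrder_eq]
      ring
    rw [h3, pow_add, mul_comm (q + q ^ 3), pow_mul, h2, one_pow, mul_one]
  rw [Units.ext_iff, ← h1, Units.val_one]
  exact ⟨fun h => by rw [h, map_one], fun h => (algebraMap F L).injective (h.trans (map_one _).symm)⟩

theorem UOver.norm_tnorm (O : UOver q M) {u : Lˣ} (hu : u ∈ tnorm (L := L) q) :
    Algebra.norm F (u : L) = 1 := by
  refine (O.norm_eq ?_).mpr hu
  rw [← torOrder_mul q, pow_mul, mem_tnorm.mp hu, one_pow]

/-- A multiplication times an automorphism in `M` is in the torus. -/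
theorem UOver.mem_tnorm_of_semi (O : UOver q M) {g : L ≃ₗ[F] L} (hg : g ∈ M) {c : Lˣ} {τ : L ≃ₐ[F] L}
    (he : g = mulE c * autE τ) : c ∈ tnorm (L := L) q := by
  haveI : Finite F := Finite.of_injective _ (algebraMap F L).injective
  haveI : FiniteDimensional F L := CfsgLib.SingerFive.finiteDim
  letI : Fintype F := Fintype.ofFinite F
  have hN : Algebra.norm F (c : L) = 1 := by
    have h1 := O.det _ hg
    rw [he, LinearEquiv.coe_toLinearMap_mul, map_mul, det_mulE, det_autE O.finrank, mul_one] at h1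
    exact h1
  have hU : c ^ (q ^ 5 + 1) = 1 := by
    have hzero : ((c : L) * (c : L) ^ q ^ 5 - 1) = 0 := by
      refine CfsgLib.MaxSub.ExtSymp.eq_zero_of_trace (F := F) fun z => ?_
      obtain ⟨x, rfl⟩ := τ.surjective z
      have h1 := O.iso _ hg x 1
      simp only [he, LinearEquiv.mul_apply, mulE_apply, autE_apply, map_one, mul_one, one_pow] at h1
      have h2 : Algebra.trace F L (τ x) = Algebra.trace F L x := Algebra.trace_eq_of_algEquiv τ x
      have h3 : Algebra.trace F L ((c : L) * (c : L) ^ q ^ 5 * τ x) = Algebra.trace F L (τ x) := by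
        rw [h2, ← h1]
        congr 1
        ring
      rw [mul_comm, sub_mul, one_mul, map_sub, h3, sub_self]
    rw [Units.ext_iff, Units.val_pow_eq_pow_val, Units.val_one, pow_succ', ← sub_eq_zero]
    exact hzero
  exact (O.norm_eq hU).mp hN

/-- The torus and the Frobenius form the data of the character argument. -/
theorem UOver.ccData (O : UOver q M) {τ : L ≃ₐ[F] L} (hτ : τ ≠ 1) (hbig : 41 ≤ Nat.card O.tor) :
    CCData O.tor (O.frob τ) 5 where
  comm := by
    rintro _ ⟨u, rfl⟩ _ ⟨v, rfl⟩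
    rw [← map_mul, ← map_mul, mul_comm]
  cc := by
    rintro _ ⟨u, rfl⟩ hne ⟨_, g, rfl⟩ hcomm
    have hu : ((u : Lˣ) : L) ∉ Set.range (algebraMap F L) := fun h => hne (Subtype.ext (Equiv.ext fun P =>
      smul_eq_of_range h P))
    have htriv : onPts M (g * O.incl u * (O.incl u * g)⁻¹) = 1 := by
      have h1 : onPts M (g * O.incl u) = onPts M (O.incl u * g) := by
        rw [map_mul, map_mul]
        exact congrArg Subtype.val hcomm
      rw [map_mul, map_inv, h1, mul_inv_cancel]
    obtain ⟨z, hz⟩ := scalar_of_trivial htriv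
    have hint : ∀ x, (g : L ≃ₗ[F] L) ((u : Lˣ) * x) = algebraMap F L z * (u : Lˣ) * (g : L ≃ₗ[F] L) x := by
      intro x
      have := hz ((O.incl u * g : M).1 x)
      rw [show ((g * O.incl u * (O.incl u * g)⁻¹ : M) : L ≃ₗ[F] L) =
        ((g * O.incl u : M) : L ≃ₗ[F] L) * ((O.incl u * g : M) : L ≃ₗ[F] L)⁻¹ from rfl, LinearEquiv.mul_apply,
        inv_eq_symm, LinearEquiv.symm_apply_apply, Algebra.smul_def] at this
      rw [mul_assoc]
      exact this
    obtain ⟨c, σ, hg⟩ := semi_of_intertwine O.finrank (g : L ≃ₗ[F] L) hu hint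
    have hσu : σ ((u : Lˣ) : L) = algebraMap F L z * ((u : Lˣ) : L) := by
      have h1 := hint 1
      simp only [hg, LinearEquiv.mul_apply, mulE_apply, autE_apply, mul_one, map_one] at h1
      rw [mul_comm] at h1
      exact mul_right_cancel₀ c.ne_zero h1
    have hσ : σ = 1 := by
      by_contra hσ
      exact hu (mem_range_of_eigen O.finrank (O.norm_tnorm u.2) hσ hσu)
    have hc : c ∈ tnorm (L := L) q := O.mem_tnorm_of_semi g.2 hg
    exact O.mem_tor.mpr ⟨⟨c, hc⟩, fun P => by
      show (g : L ≃ₗ[F] L) • P = _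
      rw [hg, hσ, map_one, mul_one]⟩
  conj_mem := by
    rintro _ ⟨u, rfl⟩
    have hN : Units.map (τ : L →* L) (u : Lˣ) ∈ tnorm q := by
      rw [mem_tnorm]
      rw [← map_pow, mem_tnorm.mp u.2, map_one]
    refine ⟨⟨_, hN⟩, ?_⟩
    rw [eq_mul_inv_iff_mul_eq]
    refine Subtype.ext (Equiv.ext fun P => ?_)
    show (mulE (Units.map (τ : L →* L) (u : Lˣ)) : L ≃ₗ[F] L) • autE τ • P =
      autE τ • (mulE (u : Lˣ) : L ≃ₗ[F] L) • P
    rw [smul_smul, smul_smul, autE_mulE]
  fus := by
    rintro ⟨_, g, rfl⟩ _ ⟨u, rfl⟩ hne ⟨v, hv⟩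
    have hu : ((u : Lˣ) : L) ∉ Set.range (algebraMap F L) := fun h => hne (Subtype.ext (Equiv.ext fun P =>
      smul_eq_of_range h P))
    have hv' : onPts M (g * O.incl u) = onPts M (O.incl v * g) := by
      have := congrArg Subtype.val hv
      change onPts M (O.incl v) = onPts M g * onPts M (O.incl u) * (onPts M g)⁻¹ at this
      rw [map_mul, map_mul, this, inv_mul_cancel_right]
    have htriv : onPts M (g * O.incl u * (O.incl v * g)⁻¹) = 1 := by
      rw [map_mul, map_inv, hv', mul_inv_cancel]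
    obtain ⟨z, hz⟩ := scalar_of_trivial htriv
    have hint : ∀ x, (g : L ≃ₗ[F] L) ((u : Lˣ) * x) = algebraMap F L z * (v : Lˣ) * (g : L ≃ₗ[F] L) x := by
      intro x
      have := hz ((O.incl v * g : M).1 x)
      rw [show ((g * O.incl u * (O.incl v * g)⁻¹ : M) : L ≃ₗ[F] L) =
        ((g * O.incl u : M) : L ≃ₗ[F] L) * ((O.incl v * g : M) : L ≃ₗ[F] L)⁻¹ from rfl, LinearEquiv.mul_apply,
        inv_eq_symm, LinearEquiv.symm_apply_apply, Algebra.smul_def] at this
      rw [mul_assoc]
      exact this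
    obtain ⟨c, σ, hg⟩ := semi_of_intertwine O.finrank (g : L ≃ₗ[F] L) hu hint
    have hc : c ∈ tnorm (L := L) q := O.mem_tnorm_of_semi g.2 hg
    obtain ⟨i, hi, rfl⟩ := aut_eq_pow O.finrank hτ σ
    refine ⟨i, hi, (onPts M).rangeRestrict (O.incl ⟨c, hc⟩), ⟨_, rfl⟩, ?_⟩
    refine Subtype.ext (Equiv.ext fun P => ?_)
    show (g : L ≃ₗ[F] L) • P = (mulE c : L ≃ₗ[F] L) • ((O.frob τ ^ i : (onPts M).range) : Equiv.Perm _) P
    rw [O.frob_pow, smul_smul, hg]
  out := by
    intro i hi0 hi5 hmem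
    obtain ⟨u, hu⟩ := O.mem_tor.mp hmem
    have htriv : onPts M (⟨autE (τ ^ i), O.aut _⟩ * (O.incl u)⁻¹) = 1 := by
      rw [map_mul, map_inv, mul_inv_eq_one]
      refine Equiv.ext fun P => ?_
      show autE (τ ^ i) • P = _
      rw [← O.frob_pow]
      exact hu P
    obtain ⟨z, hz⟩ := scalar_of_trivial htriv
    have hfix : τ ^ i = 1 := by
      have hall : ∀ x, (τ ^ i) x = algebraMap F L z * (((u : Lˣ) : L) * x) := fun x => by
        have := hz ((mulE (u : Lˣ) : L ≃ₗ[F] L) x)
        rw [show ((⟨autE (τ ^ i), O.aut _⟩ * (O.incl u)⁻¹ : M) : L ≃ₗ[F] L) =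
          autE (τ ^ i) * (mulE (u : Lˣ))⁻¹ from rfl, LinearEquiv.mul_apply, inv_eq_symm,
          LinearEquiv.symm_apply_apply, Algebra.smul_def] at this
        exact this
      have h1 := hall 1
      rw [map_one, mul_one] at h1
      exact AlgEquiv.ext fun x => by rw [hall, ← mul_assoc, ← h1, one_mul]; rfl
    have h5 : orderOf τ = 5 := by
      haveI : Finite (L ≃ₐ[F] L) := Nat.finite_of_card_ne_zero (by rw [card_aut O.finrank]; norm_num)
      have h1 := orderOf_dvd_natCard τ
      rw [card_aut O.finrank] at h1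
      exact ((Nat.dvd_prime (by norm_num)).mp h1).resolve_left fun h => hτ (orderOf_eq_one_iff.mp h)
    have := Nat.le_of_dvd hi0 (orderOf_dvd_of_pow_eq_one hfix)
    omega
  big := by omega
  pos := by norm_num

end CfsgLib.MaxSub.SU5Quintic
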