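/-
A normal subgroup over the unitary torus with small derived subgroup forces semilinearity.
-/
import Cfsg.Agent.Lib.MaxSub.SU5Quintic.UTorus

set_option autoImplicit false
set_option linter.unusedSectionVars false
set_option linter.style.haveILetI false

namespace CfsgLib.MaxSub.SU5Quintic

open Module
open scoped commutatorElement
open CfsgLib.SingerFive (Sub onPts onPts_apply mulE mulE_apply autE autE_apply IsSemi CCData finite_base
  smul_eq_of_range scalar_of_trivial exists_smul_of_onPts_eq aut_eq_pow mulEnd mulEnd_apply cj cj_apply cj_mul cj_cj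
  cj_one cj_zero cj_pow cj_scalar exists_mulEnd_of_fixed card_orthogonal_le finiteDim inv_eq_symm)

variable {F L : Type*} [Field F] [Field L] [Algebra F L] [Finite L] {q : ℕ} {M : Subgroup (L ≃ₗ[F] L)}

/-- An endomorphism is a multiplication, or its conjugates under the torus are at least forty-one. -/
theorem mulEnd_or_many (O : UOver q M) (hbig : 41 ≤ Nat.card O.tor)
    (a : Module.End F L) :
    (∃ c, a = mulEnd c) ∨ ∀ s : Finset (Module.End F L), (∀ u ∈ tnorm (L := L) q, cj u a ∈ s) → 41 ≤ s.card := by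
  classical
  by_cases h : ∃ c, a = mulEnd c
  · exact Or.inl h
  refine Or.inr fun s hs => ?_
  choose r hr using fun t : O.tor => O.mem_tor.mp t.2
  have hinj : Function.Injective fun t : O.tor => (⟨cj (r t : Lˣ) a, hs _ (r t).2⟩ : s) := by
    intro t t' htt
    have h1 : cj (r t : Lˣ) a = cj (r t' : Lˣ) a := congrArg Subtype.val htt
    by_cases hrange : (((r t : Lˣ)⁻¹ * (r t' : Lˣ) : Lˣ) : L) ∈ Set.range (algebraMap F L)
    · refine Subtype.ext (Subtype.ext (Equiv.ext fun P => ?_))
      rw [hr, hr, show ((r t' : Lˣ)) = (r t : Lˣ) * ((r t : Lˣ)⁻¹ * (r t' : Lˣ)) by rw [mul_inv_cancel_left],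
        map_mul, mul_smul, smul_eq_of_range hrange]
    · refine absurd (exists_mulEnd_of_fixed O.finrank hrange ?_) h
      rw [← cj_cj, ← h1, cj_cj, inv_mul_cancel, cj_one]
  have := Nat.card_le_card_of_injective _ hinj
  rw [Nat.card_eq_fintype_card (α := s), Fintype.card_coe] at this
  omega

/-- A commutative algebra normalised by the torus consists of multiplications. -/
theorem exists_mulEnd_of_comm (O : UOver q M) (hbig : 41 ≤ Nat.card O.tor)
    (A : Subalgebra F (Module.End F L)) (hcomm : ∀ a ∈ A, ∀ b ∈ A, a * b = b * a)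
    (hinv : ∀ u ∈ tnorm (L := L) q, ∀ a ∈ A, cj u a ∈ A) : ∀ a ∈ A, ∃ c, a = mulEnd c := by
  classical
  haveI := finite_base F L
  haveI : FiniteDimensional F L := finiteDim
  haveI : Finite (Module.End F L) := Finite.of_injective (fun f : Module.End F L => (f : L → L)) DFunLike.coe_injective
  haveI : Fintype (Module.End F L) := Fintype.ofFinite _
  let T : Finset Lˣ := (Set.toFinite (tnorm (L := L) q : Set Lˣ)).toFinset
  have hT : ∀ u, u ∈ T ↔ u ∈ tnorm (L := L) q := fun u => Set.Finite.mem_toFinset _
  -- no idempotents but zero and one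
  have hidem : ∀ e ∈ A, e * e = e → e = 0 ∨ e = 1 := by
    by_contra hc
    push Not at hc
    obtain ⟨e₀, he₀, hid₀, hne₀⟩ := hc
    let S : Finset (Module.End F L) := Finset.univ.filter fun e => e ∈ A ∧ e * e = e ∧ e ≠ 0 ∧ e ≠ 1
    obtain ⟨e, heS, hmin⟩ := Finset.exists_min_image S (fun e => finrank F (LinearMap.range e))
      ⟨e₀, by simp [S, he₀, hid₀, hne₀.1, hne₀.2]⟩
    simp only [S, Finset.mem_filter, Finset.mem_univ, true_and] at heS hmin
    obtain ⟨heA, hee, he0, he1⟩ := heS
    have hnm : ¬ ∃ c, e = mulEnd c := by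
      rintro ⟨c, rfl⟩
      rw [← map_mul] at hee
      have := LinearMap.congr_fun hee 1
      simp only [mulEnd_apply, mul_one] at this
      rcases mul_right_eq_self₀.mp this with h | h
      · exact he1 (by rw [h, map_one])
      · exact he0 (by rw [h, map_zero])
    have hprops : ∀ u ∈ tnorm (L := L) q, cj u e * cj u e = cj u e ∧ cj u e ≠ 0 ∧ cj u e ≠ 1 ∧
        finrank F (LinearMap.range (cj u e)) = finrank F (LinearMap.range e) := by
      intro u hu
      refine ⟨by rw [cj_mul, hee], fun h => he0 ?_, fun h => he1 ?_, ?_⟩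
      · have := congrArg (cj u⁻¹) h
        rwa [cj_cj, inv_mul_cancel, cj_one, cj_zero] at this
      · have h1 : cj u (1 : Module.End F L) = 1 := by
          have := cj_pow u (1 : Module.End F L) 0
          simpa using this.symm
        have := congrArg (cj u⁻¹) (h.trans h1.symm)
        rwa [cj_cj, cj_cj, inv_mul_cancel, cj_one, cj_one] at this
      · have : LinearMap.range (cj u e) = (LinearMap.range e).map ((mulE u : L ≃ₗ[F] L) : L →ₗ[F] L) := by
          apply le_antisymm
          · rintro _ ⟨x, rfl⟩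
            exact ⟨_, LinearMap.mem_range_self e _, rfl⟩
          · rintro _ ⟨_, ⟨x, rfl⟩, rfl⟩
            exact ⟨(u : L) * x, by rw [cj_apply, Units.inv_mul_cancel_left]; rfl⟩
        rw [this, LinearEquiv.finrank_map_eq]
    rcases mulEnd_or_many O hbig e with h | hmany
    · exact hnm h
    have := hmany (T.image fun u => cj u e) fun u hu => Finset.mem_image_of_mem _ ((hT u).mpr hu)
    have hle := card_orthogonal_le O.finrank (T.image fun u => cj u e) ?_ ?_ ?_
    · omega
    · intro f hf
      obtain ⟨u, hu, rfl⟩ := Finset.mem_image.mp hf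
      exact (hprops u ((hT u).mp hu)).2.1
    · intro f hf
      obtain ⟨u, hu, rfl⟩ := Finset.mem_image.mp hf
      exact (hprops u ((hT u).mp hu)).1
    · intro f hf g hg hfg
      obtain ⟨u, hu, rfl⟩ := Finset.mem_image.mp hf
      obtain ⟨v, hv, rfl⟩ := Finset.mem_image.mp hg
      obtain ⟨hf1, hf2, -, hf4⟩ := hprops u ((hT u).mp hu)
      obtain ⟨hg1, hg2, -, hg4⟩ := hprops v ((hT v).mp hv)
      set f := cj u e
      set g := cj v e
      have hfA : f ∈ A := hinv u ((hT u).mp hu) e heA
      have hgA : g ∈ A := hinv v ((hT v).mp hv) e heA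
      by_contra hfg0
      have hfgid : f * g * (f * g) = f * g := by
        rw [mul_assoc, ← mul_assoc g f, ← hcomm f hfA g hgA, mul_assoc, ← mul_assoc f f, hf1, hg1]
      -- the product has the range of each factor, hence equals each
      have key : ∀ p q : Module.End F L, p ∈ A → q ∈ A → p * p = p → q * q = q →
          finrank F (LinearMap.range p) = finrank F (LinearMap.range e) → p * q = f * g → p = p * q := by
        intro p q hpA hqA hp hq hr hpq
        have hne1 : f * g ≠ 1 := by
          intro h1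
          have h2 : finrank F (LinearMap.range p) = 5 := by
            refine le_antisymm (O.finrank ▸ Submodule.finrank_le _) ?_
            rw [← O.finrank, ← finrank_top F L]
            refine Submodule.finrank_mono fun x _ => ⟨q x, ?_⟩
            rw [← Module.End.mul_apply, hpq, h1]; rfl
          have h3 : LinearMap.range e = ⊤ := Submodule.eq_top_of_finrank_eq (by rw [← hr, h2, O.finrank])
          refine he1 (LinearMap.ext fun x => ?_)
          obtain ⟨y, rfl⟩ : x ∈ LinearMap.range e := h3 ▸ Submodule.mem_top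
          rw [← Module.End.mul_apply, hee]; rfl
        have hm := hmin (f * g) ⟨A.mul_mem hfA hgA, hfgid, hfg0, hne1⟩
        have heq : LinearMap.range (p * q) = LinearMap.range p := by
          refine Submodule.eq_of_le_of_finrank_le ?_ (by rw [hpq, hr]; exact hm)
          rintro _ ⟨x, rfl⟩
          exact LinearMap.mem_range_self p (q x)
        refine LinearMap.ext fun x => ?_
        obtain ⟨y, hy⟩ : p x ∈ LinearMap.range (p * q) := heq ▸ LinearMap.mem_range_self p x
        have hidpq : (p * q) * p = p * q := by rw [mul_assoc, hcomm q hqA p hpA, ← mul_assoc, hp]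
        calc p x = (p * q) y := hy.symm
          _ = (p * q) ((p * q) y) := by
            rw [← Module.End.mul_apply, hpq, hfgid]
          _ = (p * q) x := by rw [hy, ← Module.End.mul_apply, hidpq]
      have e1 : f = f * g := key f g hfA hgA hf1 hg1 hf4 rfl
      have e2 : g = g * f := key g f hgA hfA hg1 hf1 hg4 (hcomm g hgA f hfA)
      exact hfg (by rw [e1, hcomm f hfA g hgA, ← e2])
  -- every element is zero, nilpotent or invertible in the algebra
  have hunit : ∀ a ∈ A, (∃ k, a ^ k = 0) ∨ ∃ b ∈ A, b * a = 1 := by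
    intro a ha
    obtain ⟨i, j, hij, heq⟩ := Finite.exists_ne_map_eq_of_infinite fun k : ℕ => a ^ k
    wlog hlt : i < j generalizing i j
    · exact this j i (Ne.symm hij) heq.symm (by omega)
    have hper : ∀ t k, i ≤ k → a ^ (k + t * (j - i)) = a ^ k := by
      intro t
      induction t with
      | zero => intro k _; simp
      | succ t ih =>
        intro k hk
        rw [show k + (t + 1) * (j - i) = j + (k - i + t * (j - i)) by rw [Nat.succ_mul]; omega, pow_add,
          ← show a ^ i = a ^ j from heq, ← pow_add, ← Nat.add_assoc, Nat.add_sub_cancel' hk]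
        exact ih k hk
    set k0 := (i + 1) * (j - i) with hk0def
    have hd : i + 1 ≤ k0 := Nat.le_mul_of_pos_right _ (by omega)
    have hidk : a ^ k0 * a ^ k0 = a ^ k0 := by
      rw [← pow_add]
      exact hper (i + 1) k0 (by omega)
    rcases hidem _ (A.pow_mem ha _) hidk with h | h
    · exact Or.inl ⟨_, h⟩
    · exact Or.inr ⟨a ^ (k0 - 1), A.pow_mem ha _, by rw [← pow_succ, Nat.sub_add_cancel (by omega)]; exact h⟩
  -- there are no nilpotent elements
  have hnil : ∀ a ∈ A, (∃ k, a ^ k = 0) → a = 0 := by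
    let W : Submodule F L := ⨅ (b : Module.End F L) (_ : b ∈ A ∧ ∃ k, b ^ k = 0), LinearMap.ker b
    have hW : W ≠ ⊥ := by
      let P : Finset (Submodule F L) := (Set.toFinite {U : Submodule F L | U ≠ ⊥ ∧ ∀ b ∈ A, ∀ x ∈ U, b x ∈ U}).toFinset
      haveI : Finite (Submodule F L) := Finite.of_injective _ (SetLike.coe_injective (A := Submodule F L))
      obtain ⟨U, hU, hUmin⟩ := Finset.exists_min_image P (fun U => finrank F U) ⟨⊤, by
        simp only [P, Set.Finite.mem_toFinset, Set.mem_ofPred_eq]
        exact ⟨top_ne_bot, fun _ _ _ _ => Submodule.mem_top⟩⟩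
      simp only [P, Set.Finite.mem_toFinset, Set.mem_ofPred_eq] at hU hUmin
      refine fun hbot => hU.1 (eq_bot_iff.mpr (le_trans ?_ hbot.le))
      refine le_iInf fun b => le_iInf fun hb => ?_
      obtain ⟨hbA, k, hk⟩ := hb
      by_contra hnot
      have hker : U ⊓ LinearMap.ker b = ⊥ := by
        by_contra hne
        have h1 := hUmin (U ⊓ LinearMap.ker b) ⟨hne, fun c hc x hx => ⟨hU.2 c hc x hx.1, by
          show b (c x) = 0
          rw [← Module.End.mul_apply, hcomm b hbA c hc, Module.End.mul_apply, show b x = 0 from hx.2, map_zero]⟩⟩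
        exact hnot (inf_eq_left.mp (Submodule.eq_of_le_of_finrank_le inf_le_left h1))
      refine hU.1 (eq_bot_iff.mpr fun x hx => ?_)
      have key : ∀ l, ∀ y ∈ U, (b ^ l) y = 0 → y = 0 := by
        intro l
        induction l with
        | zero => intro y _ h; simpa using h
        | succ l ih =>
          intro y hy h
          rw [pow_succ, Module.End.mul_apply] at h
          have : y ∈ U ⊓ LinearMap.ker b := ⟨hy, ih _ (hU.2 b hbA y hy) h⟩
          rw [hker] at this
          simpa using this
      exact key k x hx (by rw [hk]; rfl)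
    intro a ha hk
    have htop : W = ⊤ := by
      obtain ⟨x, hx, hx0⟩ := Submodule.exists_mem_ne_zero_of_ne_bot hW
      obtain ⟨t, ht⟩ : ∃ t : tnorm (L := L) q, ((t : Lˣ) : L) ∉ Set.range (algebraMap F L) := by
        by_contra hall
        push Not at hall
        have h1 : (O.tor : Subgroup _) = ⊥ := (Subgroup.eq_bot_iff_forall _).mpr fun s hs => by
          obtain ⟨u, hu⟩ := O.mem_tor.mp hs
          exact Subtype.ext (Equiv.ext fun P => by rw [hu, smul_eq_of_range (hall u)]; rfl)
        rw [h1, Subgroup.card_bot] at hbig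
        omega
      let St : Subalgebra F L :=
        { carrier := {c | ∀ y ∈ W, c * y ∈ W}
          one_mem' := fun y hy => by simpa using hy
          mul_mem' := fun {c d} hc hd y hy => by rw [mul_assoc]; exact hc _ (hd y hy)
          zero_mem' := fun y _ => by simp
          add_mem' := fun {c d} hc hd y hy => by rw [add_mul]; exact W.add_mem (hc y hy) (hd y hy)
          algebraMap_mem' := fun c y hy => by rw [← Algebra.smul_def]; exact W.smul_mem c hy }
      have hmem : ((t : Lˣ) : L) ∈ St := fun y hy => by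
        simp only [W, Submodule.mem_iInf, LinearMap.mem_ker] at hy ⊢
        rintro b ⟨hb, k, hk⟩
        have h1 := hy (cj (t : Lˣ)⁻¹ b) ⟨hinv _ (inv_mem t.2) b hb, k, by rw [cj_pow, hk, cj_zero]⟩
        rw [cj_apply, inv_inv, mul_eq_zero] at h1
        exact h1.resolve_left (Units.ne_zero _)
      have hSt : St = ⊤ := ((Subalgebra.isSimpleOrder_of_finrank_prime F L
        (by rw [O.finrank]; norm_num)).eq_bot_or_eq_top St).resolve_left fun hbot => ht (by
          rw [hbot, Algebra.mem_bot] at hmem; exact hmem)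
      refine eq_top_iff.mpr fun y _ => ?_
      have := (hSt ▸ Algebra.mem_top : y / x ∈ St) x hx
      rwa [div_mul_cancel₀ _ hx0] at this
    refine LinearMap.ext fun y => ?_
    have : y ∈ W := htop ▸ Submodule.mem_top
    simp only [W, Submodule.mem_iInf, LinearMap.mem_ker] at this
    exact this a ⟨ha, hk⟩
  intro a ha
  refine (mulEnd_or_many O hbig a).resolve_right fun hmany => ?_
  -- the conjugates are roots of the minimal polynomial in the field `A`
  have hfield : IsField A := by
    refine ⟨⟨0, 1, fun h => zero_ne_one (congrArg Subtype.val h)⟩, fun x y => Subtype.ext (hcomm _ x.2 _ y.2),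
      fun {x} hx => ?_⟩
    rcases hunit x x.2 with h | ⟨b, hb, hbx⟩
    · exact absurd (Subtype.ext (hnil x x.2 h)) hx
    · exact ⟨⟨b, hb⟩, Subtype.ext (by rw [Subalgebra.coe_mul, hcomm x x.2 b hb]; exact hbx)⟩
  letI : Field A := hfield.toField
  let P := minpoly F a
  have hroot : ∀ (u : Lˣ) (hu : u ∈ tnorm (L := L) q), Polynomial.aeval (⟨cj u a, hinv u hu a ha⟩ : A) P = 0 := fun u hu => by
    refine Subtype.ext ?_
    rw [Polynomial.aeval_subalgebra_coe]
    show Polynomial.aeval (cj u a) P = 0
    have hP := minpoly.aeval F a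
    rw [Polynomial.aeval_eq_sum_range] at hP ⊢
    have h2 : ∑ i ∈ Finset.range (P.natDegree + 1), P.coeff i • cj u a ^ i =
        cj u (∑ i ∈ Finset.range (P.natDegree + 1), P.coeff i • a ^ i) := by
      simp only [cj, Finset.mul_sum, Finset.sum_mul]
      exact Finset.sum_congr rfl fun i _ => by
        rw [← show cj u a = mulEnd (u : L) * a * mulEnd ((u⁻¹ : Lˣ) : L) from rfl, cj_pow, cj, mul_smul_comm,
          smul_mul_assoc]
    rw [h2, hP, cj_zero]
  have h41 := hmany ((P.aroots A).toFinset.image (fun x : A => (x : Module.End F L))) fun u hu => by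
    refine Finset.mem_image.mpr ⟨⟨cj u a, hinv u hu a ha⟩, Multiset.mem_toFinset.mpr ?_, rfl⟩
    rw [Polynomial.mem_aroots]
    exact ⟨minpoly.ne_zero (IsIntegral.of_finite F a), hroot u hu⟩
  have hdeg : P.natDegree ≤ 25 := by
    refine (minpoly.natDegree_le a).trans ?_
    rw [Module.finrank_linearMap, O.finrank]
  have h3 := h41.trans (Finset.card_image_le.trans (Multiset.toFinset_card_le _))
  have h4 : (P.aroots A).card ≤ P.natDegree := (Polynomial.card_roots' _).trans (Polynomial.natDegree_map_le)
  omega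

theorem UOver.tor_le_cent (O : UOver q M) {x : (onPts M).range} (hbig : 41 ≤ Nat.card O.tor) {τ : L ≃ₐ[F] L}
    (hτ : τ ≠ 1) (h : ∀ t ∈ O.tor, x * t = t * x) : x ∈ O.tor := by
  obtain ⟨a, ha, ha1⟩ : ∃ a ∈ O.tor, a ≠ 1 := by
    by_contra hc
    push Not at hc
    rw [(Subgroup.eq_bot_iff_forall _).mpr hc, Subgroup.card_bot] at hbig
    omega
  exact (O.ccData hτ hbig).cc a ha ha1 x (h a ha)

/-- A normal subgroup containing the torus with derived subgroup off the torus forces semilinearity. -/
theorem UOver.semi_of_normal (O : UOver q M) (hbig : 41 ≤ Nat.card O.tor) {τ : L ≃ₐ[F] L} (hτ : τ ≠ 1)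
    {K : Subgroup (onPts M).range} (hKn : K.Normal) (hTK : O.tor ≤ K) (hK : ⁅K, K⁆ ⊓ O.tor = ⊥) :
    ∀ g ∈ M, IsSemi g := by
  classical
  have D := O.ccData hτ hbig
  set X := ⁅K, K⁆ with hX
  haveI : X.Normal := by rw [hX]; infer_instance
  -- the derived subgroup is trivial
  have hbot : X = ⊥ := by
    by_contra hne
    have hcop : (Nat.card O.tor).Coprime (Nat.card X) := by
      refine Nat.coprime_of_dvd fun r hr hrT hrX => ?_
      haveI := Fact.mk hr
      obtain ⟨a, ha⟩ := exists_prime_orderOf_dvd_card' r hrT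
      obtain ⟨y, hy⟩ := exists_prime_orderOf_dvd_card' r hrX
      have ha' : orderOf (a : (onPts M).range) = r := by rw [Subgroup.orderOf_coe, ha]
      have hy' : orderOf (y : (onPts M).range) = r := by rw [Subgroup.orderOf_coe, hy]
      have hpg : IsPGroup r (Subgroup.zpowers (a : (onPts M).range)) :=
        IsPGroup.of_card (n := 1) (by rw [Nat.card_zpowers, ha', pow_one])
      obtain ⟨S, hS⟩ := hpg.exists_le_sylow
      have hST : (S : Subgroup (onPts M).range) ≤ O.tor := by
        have hS1 : Nontrivial S := by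
          refine ⟨⟨⟨a, hS (Subgroup.mem_zpowers _)⟩, 1, fun h => ?_⟩⟩
          have h1 : (a : (onPts M).range) = 1 := congrArg Subtype.val h
          rw [h1, orderOf_one] at ha'
          exact hr.one_lt.ne ha'
        haveI := hS1
        have hzc := S.2.center_nontrivial
        obtain ⟨⟨z, hz⟩, hz1⟩ := exists_ne (1 : Subgroup.center S)
        have hzT : (z : (onPts M).range) ∈ O.tor := D.cc _ a.2 (fun h => by
          rw [h, orderOf_one] at ha'; exact hr.one_lt.ne ha') _
          (congrArg Subtype.val (Subgroup.mem_center_iff.mp hz ⟨a, hS (Subgroup.mem_zpowers _)⟩)).symm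
        intro s hs
        exact D.cc _ hzT (fun h => hz1 (Subtype.ext (Subtype.ext h))) s
          (congrArg Subtype.val (Subgroup.mem_center_iff.mp hz ⟨s, hs⟩))
      have hpy : IsPGroup r (Subgroup.zpowers (y : (onPts M).range)) :=
        IsPGroup.of_card (n := 1) (by rw [Nat.card_zpowers, hy', pow_one])
      obtain ⟨S', hS'⟩ := hpy.exists_le_sylow
      obtain ⟨g, hg⟩ := MulAction.exists_smul_eq (onPts M).range S' S
      have hgy : g * y * g⁻¹ ∈ (S : Subgroup (onPts M).range) := by
        rw [← hg, Sylow.coe_subgroup_smul]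
        exact ⟨y, hS' (Subgroup.mem_zpowers _), rfl⟩
      have : g * y * g⁻¹ ∈ X ⊓ O.tor := ⟨Subgroup.Normal.conj_mem ‹X.Normal› y y.2 g, hST hgy⟩
      rw [hK, Subgroup.mem_bot] at this
      have h1 : (y : (onPts M).range) = 1 := conj_eq_one_iff.mp this
      rw [h1, orderOf_one] at hy'
      exact hr.one_lt.ne hy'
    obtain ⟨r, hr, hrX⟩ := Nat.exists_prime_and_dvd (n := Nat.card X) fun h => hne (Subgroup.card_eq_one.mp h)
    haveI := Fact.mk hr
    haveI : Group.IsSolvable O.tor := Group.isSolvable_of_comm fun a b => Subtype.ext (D.comm a a.2 b b.2)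
    obtain ⟨P, hP⟩ := CfsgLib.coprime_exists_invariant_sylow (A := O.tor) (K := X)
      (Subgroup.le_normalizer_of_normal ..) hcop (Or.inl inferInstance) r
    set R : Subgroup (onPts M).range := (P : Subgroup X).map X.subtype with hR
    have hRX : R ≤ X := Subgroup.map_subtype_le _
    have hR1 : Nontrivial R := by
      have hp : r ∣ Nat.card R := by
        rw [hR, Subgroup.card_map_of_injective X.subtype_injective]
        exact P.dvd_card_of_dvd_card hrX
      exact Finite.one_lt_card_iff_nontrivial.mp (lt_of_lt_of_le hr.one_lt (Nat.le_of_dvd Nat.card_pos hp))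
    have hRp : IsPGroup r R := P.2.map _
    haveI := hR1
    haveI := hRp.center_nontrivial
    set Y : Subgroup (onPts M).range := (Subgroup.center R).map R.subtype with hY
    have hYR : Y ≤ R := Subgroup.map_subtype_le _
    have hYc : ∀ y ∈ Y, ∀ s ∈ R, s * y = y * s := by
      rintro _ ⟨y, hy, rfl⟩ s hs
      exact congrArg Subtype.val (Subgroup.mem_center_iff.mp hy ⟨s, hs⟩)
    have hYinv : ∀ t ∈ O.tor, ∀ y ∈ Y, t * y * t⁻¹ ∈ Y := by
      rintro t ht _ ⟨y, hy, rfl⟩
      have hmem : t * y * t⁻¹ ∈ R := (Subgroup.mem_normalizer_iff.mp (hP ht) y).mp y.2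
      refine ⟨⟨_, hmem⟩, Subgroup.mem_center_iff.mpr fun s => Subtype.ext ?_, rfl⟩
      have hs : t⁻¹ * s * t ∈ R := by
        have := (Subgroup.mem_normalizer_iff.mp (hP (inv_mem ht)) s).mp s.2
        rwa [inv_inv] at this
      have h1 : t⁻¹ * (s : (onPts M).range) * t * y = y * (t⁻¹ * s * t) :=
        congrArg Subtype.val (Subgroup.mem_center_iff.mp hy ⟨_, hs⟩)
      show (s : (onPts M).range) * (t * y * t⁻¹) = t * y * t⁻¹ * s
      calc (s : (onPts M).range) * (t * y * t⁻¹) = t * (t⁻¹ * s * t * y) * t⁻¹ := by group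
        _ = _ := by rw [h1]; group
    obtain ⟨⟨c₀, hc₀⟩, hc₁⟩ := exists_ne (1 : Subgroup.center R)
    have hy₀ : (c₀ : (onPts M).range) ∈ Y := ⟨c₀, hc₀, rfl⟩
    have hy₁ : (c₀ : (onPts M).range) ≠ 1 := fun h => hc₁ (Subtype.ext (Subtype.ext h))
    have hYT : ∀ y ∈ Y, y ∈ O.tor → y = 1 := fun y hy hyT => by
      have : y ∈ X ⊓ O.tor := ⟨hRX (hYR hy), hyT⟩
      rw [hK] at this
      exact Subgroup.mem_bot.mp this
    -- the centre is large
    have hYbig : 41 ≤ Nat.card Y := by
      refine hbig.trans (Nat.card_le_card_of_injective (fun t : O.tor => (⟨_, hYinv t t.2 _ hy₀⟩ : Y)) ?_)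
      intro t t' h
      have h1 : (t : (onPts M).range) * c₀ * (t : (onPts M).range)⁻¹ = t' * c₀ * (t' : (onPts M).range)⁻¹ :=
        congrArg Subtype.val h
      by_contra hne'
      refine hy₁ (hYT _ hy₀ (D.cc _ (O.tor.mul_mem (O.tor.inv_mem t'.2) t.2) (fun h2 => hne' (Subtype.ext
        (inv_mul_eq_one.mp h2).symm)) _ ?_))
      calc (c₀ : (onPts M).range) * ((t' : (onPts M).range)⁻¹ * t) =
          (t' : (onPts M).range)⁻¹ * (t' * c₀ * (t' : (onPts M).range)⁻¹) * t := by group
        _ = _ := by rw [← h1]; group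
    -- lifts
    choose G hG using fun y : Y => MonoidHom.mem_range.mp (y : (onPts M).range).2
    let E : Y → Module.End F L := fun y => ((G y : L ≃ₗ[F] L) : L →ₗ[F] L)
    have hGeq : ∀ (g : M) (y : Y), onPts M g = ((y : (onPts M).range) : Equiv.Perm _) →
        ∃ c : F, c ≠ 0 ∧ ((g : L ≃ₗ[F] L) : L →ₗ[F] L) = c • E y := fun g y e => by
      obtain ⟨c, hc, h⟩ := exists_smul_of_onPts_eq (e.trans (hG y).symm)
      exact ⟨c, hc, LinearMap.ext fun x => h x⟩
    have hEmul : ∀ a b : Y, ∃ c : F, c ≠ 0 ∧ E a * E b = c • E (a * b) := fun a b => by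
      obtain ⟨c, hc, h⟩ := hGeq (G a * G b) (a * b) (by rw [map_mul, hG, hG]; rfl)
      exact ⟨c, hc, h⟩
    have hEne : ∀ a : Y, E a ≠ 0 := fun a h => by
      have := LinearMap.congr_fun h 1
      simp [E] at this
    have hYcomm : ∀ a b : Y, a * b = b * a := fun a b => Subtype.ext (hYc b b.2 a (hYR a.2))
    have hε : ∀ a b : Y, ∃ c : F, c ≠ 0 ∧ E a * E b = c • (E b * E a) := fun a b => by
      obtain ⟨c, hc, h⟩ := hEmul a b
      obtain ⟨c', hc', h'⟩ := hEmul b a
      refine ⟨c * c'⁻¹, mul_ne_zero hc (inv_ne_zero hc'), ?_⟩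
      rw [h, h', hYcomm b a, smul_smul, mul_assoc, inv_mul_cancel₀ hc', mul_one]
    have hEinv : ∀ a : Y, ∀ x, E a ((G a : L ≃ₗ[F] L).symm x) = x := fun a x =>
      (G a : L ≃ₗ[F] L).apply_symm_apply x
    have hcancel : ∀ (a : Y) (p q : Module.End F L), p * E a = q * E a → p = q := fun a p q h =>
      LinearMap.ext fun x => by
        have := LinearMap.congr_fun h ((G a : L ≃ₗ[F] L).symm x)
        simpa only [Module.End.mul_apply, hEinv] using this
    have hconj : ∀ (u : tnorm (L := L) q) (y : Y), ∃ (c : F) (y' : Y), c ≠ 0 ∧ cj (u : Lˣ) (E y) = c • E y' ∧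
        (y' : (onPts M).range) = (onPts M).rangeRestrict (O.incl u) * y * ((onPts M).rangeRestrict (O.incl u))⁻¹ := by
      intro u y
      obtain ⟨c, hc, h⟩ := hGeq (O.incl u * G y * (O.incl u)⁻¹)
        (⟨(onPts M).rangeRestrict (O.incl u) * y * ((onPts M).rangeRestrict (O.incl u))⁻¹,
          hYinv _ ⟨u, rfl⟩ y y.2⟩ : Y) (by rw [map_mul, map_mul, map_inv, hG]; rfl)
      exact ⟨c, _, hc, by rw [← h]; rfl, rfl⟩
    by_cases hZ : ∃ a : Y, a ≠ 1 ∧ ∀ b : Y, E a * E b = E b * E a
    · obtain ⟨a, ha1, ha⟩ := hZ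
      let Z : Set (Module.End F L) := {p | ∃ y : Y, p = E y ∧ ∀ b : Y, E y * E b = E b * E y}
      have hZc : ∀ p ∈ Z, ∀ q ∈ Z, p * q = q * p := by
        rintro _ ⟨y, rfl, hy⟩ _ ⟨z, rfl, -⟩
        exact hy z
      have hAc : ∀ p ∈ Algebra.adjoin F Z, ∀ q ∈ Algebra.adjoin F Z, p * q = q * p := by
        intro p hp q hq
        have h1 : ∀ z ∈ Z, Commute q z := fun z hz => by
          refine (Algebra.commute_of_mem_adjoin_of_forall_mem_commute hq fun w hw => ?_).symm
          exact hZc z hz w hw
        exact (Algebra.commute_of_mem_adjoin_of_forall_mem_commute hp h1).symm.eq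
      have hinv : ∀ u ∈ tnorm (L := L) q, ∀ p ∈ Algebra.adjoin F Z, cj u p ∈ Algebra.adjoin F Z := by
        intro u hu p hp
        induction hp using Algebra.adjoin_induction with
        | mem z hz =>
          obtain ⟨y, rfl, hy⟩ := hz
          obtain ⟨c, y', hc, hcy, hy'⟩ := hconj ⟨u, hu⟩ y
          rw [show cj u (E y) = c • E y' from hcy]
          refine Subalgebra.smul_mem _ (Algebra.subset_adjoin (show E y' ∈ Z from ⟨y', rfl, fun b => ?_⟩)) c
          obtain ⟨c', b', hc', hb', hbeq⟩ := hconj (⟨u, hu⟩ : tnorm (L := L) q)⁻¹ b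
          obtain ⟨c'', b'', hc'', hb'', hbeq'⟩ := hconj ⟨u, hu⟩ b'
          have hbb : b'' = b := by
            refine Subtype.ext ?_
            rw [hbeq', hbeq, map_inv, map_inv]
            group
          rw [hbb] at hb''
          have h2 : (c • E y') * (c'' • E b) = (c'' • E b) * (c • E y') := by
            rw [← hcy, ← hb'', cj_mul, cj_mul, hy b']
          rw [smul_mul_smul_comm, smul_mul_smul_comm, mul_comm c'' c] at h2
          exact smul_right_injective _ (mul_ne_zero hc hc'') h2
        | algebraMap c =>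
          rw [Algebra.algebraMap_eq_smul_one, cj_scalar]
          refine Subalgebra.smul_mem _ ?_ c
          have h1 : cj u (1 : Module.End F L) = 1 := by
            have := cj_pow u (1 : Module.End F L) 0
            simpa using this.symm
          rw [h1]
          exact Subalgebra.one_mem _
        | add p q _ _ hp hq =>
          rw [show cj u (p + q) = cj u p + cj u q by simp [cj, mul_add, add_mul]]
          exact Subalgebra.add_mem _ hp hq
        | mul p q _ _ hp hq =>
          rw [← cj_mul]
          exact Subalgebra.mul_mem _ hp hq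
      obtain ⟨c, hc⟩ := exists_mulEnd_of_comm O hbig _ hAc hinv (E a) (Algebra.subset_adjoin ⟨a, rfl, ha⟩)
      refine ha1 (Subtype.ext (hYT a a.2 (O.tor_le_cent hbig hτ fun t ht => ?_)))
      obtain ⟨u, rfl⟩ := ht
      refine Subtype.ext ?_
      show ((a : (onPts M).range) : Equiv.Perm _) * onPts M (O.incl u) = onPts M (O.incl u) * ((a : (onPts M).range) : Equiv.Perm _)
      rw [← hG a, ← map_mul, ← map_mul]
      congr 1
      refine Subtype.ext (LinearEquiv.ext fun x => ?_)
      show E a ((u : Lˣ) * x) = (u : Lˣ) * E a x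
      rw [hc, mulEnd_apply, mulEnd_apply, mul_left_comm]
    · push Not at hZ
      haveI : Fintype Y := Fintype.ofFinite Y
      have hli : LinearIndependent F E := by
        rw [Fintype.linearIndependent_iff]
        by_contra hbad
        push Not at hbad
        obtain ⟨g₀, hg₀, i₀, hi₀⟩ := hbad
        have hex : ∃ n, ∃ g : Y → F, ∑ y, g y • E y = 0 ∧ (Finset.univ.filter fun y => g y ≠ 0).card = n ∧ 0 < n :=
          ⟨_, g₀, hg₀, rfl, Finset.card_pos.mpr ⟨i₀, by simp [hi₀]⟩⟩
        obtain ⟨g, hg, hn, hpos⟩ := Nat.find_spec hex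
        obtain ⟨y₁, hy₁⟩ := Finset.card_pos.mp (hn ▸ hpos)
        have hy₁g : g y₁ ≠ 0 := (Finset.mem_filter.mp hy₁).2
        obtain ⟨y₂, hy₂, hne'⟩ : ∃ y₂, g y₂ ≠ 0 ∧ y₂ ≠ y₁ := by
          by_contra hc
          push Not at hc
          rw [Finset.sum_eq_single y₁ (fun y _ hy => by
            rw [show g y = 0 from not_not.mp fun h => hy (hc y h), zero_smul]) (by simp)] at hg
          exact hy₁g ((smul_eq_zero.mp hg).resolve_right (hEne y₁))
        obtain ⟨z, hz⟩ := hZ (y₂ * y₁⁻¹) (by simpa [mul_inv_eq_one] using hne')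
        choose ε hε0 hεeq using fun y => hε z y
        have hdiff : ε y₂ ≠ ε y₁ := fun heq => hz (by
          obtain ⟨c, hc, h⟩ := hEmul (y₂ * y₁⁻¹) y₁
          rw [inv_mul_cancel_right] at h
          have h1 := hεeq y₂
          have h1' := hεeq y₁
          have h2 : E y₂ = c⁻¹ • (E (y₂ * y₁⁻¹) * E y₁) := by rw [h, smul_smul, inv_mul_cancel₀ hc, one_smul]
          rw [h2, mul_smul_comm, smul_mul_assoc, smul_comm (ε y₂)] at h1
          have h3 := smul_right_injective _ (inv_ne_zero hc) h1
          rw [← mul_assoc, mul_assoc (E (y₂ * y₁⁻¹)) (E y₁) (E z), heq, ← mul_smul_comm, ← h1', ← mul_assoc] at h3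
          exact (hcancel y₁ _ _ h3).symm)
        let g' : Y → F := fun y => g y * (ε y - ε y₁)
        have hsum : ∑ y, g' y • E y = 0 := by
          refine hcancel z _ _ ?_
          have h1 : ∑ y, (g y * ε y) • (E y * E z) = 0 := by
            have : E z * ∑ y, g y • E y = 0 := by rw [hg, mul_zero]
            rw [Finset.mul_sum] at this
            rw [← this]
            exact Finset.sum_congr rfl fun y _ => by rw [mul_smul_comm, hεeq y, smul_smul]
          have h2 : ∑ y, (g y * ε y₁) • (E y * E z) = 0 := by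
            have : ε y₁ • ((∑ y, g y • E y) * E z) = 0 := by rw [hg, zero_mul, smul_zero]
            rw [Finset.sum_mul, Finset.smul_sum] at this
            rw [← this]
            exact Finset.sum_congr rfl fun y _ => by rw [smul_mul_assoc, smul_smul, mul_comm]
          rw [zero_mul, Finset.sum_mul]
          simp only [g', smul_mul_assoc, mul_sub]
          rw [Finset.sum_congr rfl fun y _ => sub_smul (g y * ε y) (g y * ε y₁) (E y * E z),
            Finset.sum_sub_distrib, h1, h2, sub_zero]
        refine Nat.find_min hex (m := (Finset.univ.filter fun y => g' y ≠ 0).card) ?_ ⟨g', hsum, rfl,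
          Finset.card_pos.mpr ⟨y₂, by simp [g', hy₂, sub_ne_zero.mpr hdiff]⟩⟩
        rw [← hn]
        refine Finset.card_lt_card (Finset.ssubset_iff_of_subset (fun y hy => ?_) |>.mpr ⟨y₁, hy₁, by simp [g']⟩)
        simp only [Finset.mem_filter, Finset.mem_univ, true_and] at hy ⊢
        exact left_ne_zero_of_mul hy
      haveI : FiniteDimensional F L := finiteDim
      have h25 := hli.fintype_card_le_finrank
      rw [Module.finrank_linearMap, O.finrank, ← Nat.card_eq_fintype_card] at h25
      omega
  -- so the torus is normal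
  intro g hg
  set x : (onPts M).range := (onPts M).rangeRestrict ⟨g, hg⟩
  obtain ⟨a, ha, ha1⟩ : ∃ a ∈ O.tor, a ≠ 1 := by
    by_contra hc
    push Not at hc
    rw [(Subgroup.eq_bot_iff_forall _).mpr hc, Subgroup.card_bot] at hbig
    omega
  have hKc : ∀ k ∈ K, ∀ k' ∈ K, k * k' = k' * k := fun k hk k' hk' => by
    have : ⁅k, k'⁆ ∈ X := Subgroup.commutator_mem_commutator hk hk'
    rw [hbot, Subgroup.mem_bot] at this
    exact commutatorElement_eq_one_iff_mul_comm.mp this
  have hxa : x * a * x⁻¹ ∈ O.tor := O.tor_le_cent hbig hτ fun t ht =>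
    hKc _ (hKn.conj_mem a (hTK ha) x) t (hTK ht)
  obtain ⟨i, -, s, hs, hxs⟩ := D.fus x a ha ha1 hxa
  obtain ⟨u, rfl⟩ := hs
  obtain ⟨z, hz0, hz⟩ := exists_smul_of_onPts_eq (g := ⟨g, hg⟩) (h := O.incl u * ⟨autE (τ ^ i), O.aut _⟩) (by
    refine Equiv.ext fun P => ?_
    have := congrArg (fun v : (onPts M).range => (v : Equiv.Perm (Sub F L 1)) P) hxs
    change onPts M ⟨g, hg⟩ P = onPts M (O.incl u) (((O.frob τ ^ i : (onPts M).range) : Equiv.Perm _) P) at this
    rw [this, O.frob_pow, map_mul]
    rfl)
  refine ⟨Units.map (algebraMap F L : F →* L) (Units.mk0 z hz0) * (u : Lˣ), τ ^ i, LinearEquiv.ext fun x => ?_⟩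
  rw [hz x, LinearEquiv.mul_apply, mulE_apply, Units.val_mul, mul_assoc, Algebra.smul_def]
  rfl

end CfsgLib.MaxSub.SU5Quintic
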