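/-
The orders of the torus and the character-theoretic data of a unitary overgroup.
-/
import Cfsg.Agent.Lib.MaxSub.SU5Quintic.USemi

set_option autoImplicit false
set_option linter.unusedSectionVars false
set_option linter.style.haveILetI false

namespace CfsgLib.MaxSub.SU5Quintic

open Module
open CfsgLib.SingerFive (Sub onPts onPts_apply mulE mulE_apply autE smul_eq_of_range scalar_of_trivial trivial_iff_range
  finiteDim exists_smul_of_onPts_eq)

/-- `gcd (5, q + 1)`. -/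
def dd (q : ℕ) : ℕ := if q % 5 = 4 then 5 else 1

theorem dd_eq (q : ℕ) : dd q = Nat.gcd 5 (q + 1) := by
  rw [dd]
  split_ifs with h
  · exact (Nat.gcd_eq_left (by omega)).symm
  · exact Eq.symm ((Nat.Prime.coprime_iff_not_dvd (by norm_num : Nat.Prime 5)).mpr (by omega))

theorem gcd_torOrder (q : ℕ) (hq : 1 ≤ q) : Nat.gcd (q ^ 2 - 1) (torOrder q) = dd q := by
  have h1 : (torOrder q : ℤ) = ((q : ℤ) ^ 3 + q) * (q - 1) + 1 := by rw [torOrder_eq]; ring
  have hco : Nat.Coprime (q - 1) (torOrder q) := by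
    rw [← Nat.isCoprime_iff_coprime]
    refine ⟨-((q : ℤ) ^ 3 + q), 1, ?_⟩
    rw [h1]
    push_cast [Nat.cast_sub hq]
    ring
  have hfac : q ^ 2 - 1 = (q - 1) * (q + 1) := by
    obtain ⟨r, rfl⟩ : ∃ r, q = r + 1 := ⟨q - 1, by omega⟩
    rw [Nat.add_sub_cancel, Nat.sub_eq_iff_eq_add (Nat.one_le_pow _ _ (by omega))]
    ring
  rw [hfac, Nat.Coprime.gcd_mul_left_cancel _ hco, dd_eq]
  refine Nat.dvd_antisymm ?_ ?_
  · refine Nat.dvd_gcd ?_ (Nat.gcd_dvd_left _ _)
    have h2 : ((Nat.gcd (q + 1) (torOrder q) : ℕ) : ℤ) ∣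
        (torOrder q : ℤ) - ((q + 1 : ℕ) : ℤ) * ((q : ℤ) ^ 3 - 2 * q ^ 2 + 3 * q - 4) :=
      dvd_sub (Int.natCast_dvd_natCast.mpr (Nat.gcd_dvd_right _ _))
        ((Int.natCast_dvd_natCast.mpr (Nat.gcd_dvd_left _ _)).mul_right _)
    rw [torOrder_eq] at h2
    refine Int.natCast_dvd_natCast.mp (h2.trans (dvd_of_eq ?_))
    push_cast
    ring
  · refine Nat.dvd_gcd (Nat.gcd_dvd_right _ _) ?_
    have h2 : ((Nat.gcd 5 (q + 1) : ℕ) : ℤ) ∣
        ((q + 1 : ℕ) : ℤ) * ((q : ℤ) ^ 3 - 2 * q ^ 2 + 3 * q - 4) + ((5 : ℕ) : ℤ) :=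
      dvd_add ((Int.natCast_dvd_natCast.mpr (Nat.gcd_dvd_right _ _)).mul_right _)
        (Int.natCast_dvd_natCast.mpr (Nat.gcd_dvd_left _ _))
    refine Int.natCast_dvd_natCast.mp (h2.trans (dvd_of_eq ?_))
    rw [torOrder_eq]
    push_cast
    ring

theorem torOrder_mod (q : ℕ) : (q % 5 = 4 → torOrder q % 25 = 5) ∧ (q % 5 ≠ 4 → torOrder q % 5 = 1) := by
  refine ⟨fun h => ?_, fun h => ?_⟩
  · have h1 : ∀ r : ZMod 25, r.val % 5 = 4 → r ^ 4 - r ^ 3 + r ^ 2 - r + 1 = 5 := by decide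
    have h2 : ((torOrder q : ℤ) : ZMod 25) = ((5 : ℕ) : ZMod 25) := by
      rw [torOrder_eq]
      push_cast
      exact h1 _ (by rw [ZMod.val_natCast, Nat.mod_mod_of_dvd q (by norm_num)]; exact h)
    rw [Int.cast_natCast, ZMod.natCast_eq_natCast_iff'] at h2
    simpa using h2
  · have h1 : ∀ r : ZMod 5, r.val ≠ 4 → r ^ 4 - r ^ 3 + r ^ 2 - r + 1 = 1 := by decide
    have h2 : ((torOrder q : ℤ) : ZMod 5) = ((1 : ℕ) : ZMod 5) := by
      rw [torOrder_eq]
      push_cast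
      exact h1 _ (by rw [ZMod.val_natCast]; exact h)
    rw [Int.cast_natCast, ZMod.natCast_eq_natCast_iff'] at h2
    simpa using h2

theorem torOrder_ge (q : ℕ) (hq : 3 ≤ q) : 61 ≤ torOrder q := by
  have h1 := torOrder_eq q
  have h2 : (3 : ℤ) ≤ q := by exact_mod_cast hq
  nlinarith [mul_le_mul_of_nonneg_right h2 (pow_nonneg (by omega : (0 : ℤ) ≤ q) 3),
    mul_le_mul_of_nonneg_right h2 (by omega : (0 : ℤ) ≤ q), pow_le_pow_left₀ (by norm_num) h2 3]

theorem index_facts (q : ℕ) (hq : 3 ≤ q) {mb : ℕ} (h : torOrder q = dd q * mb) : 41 ≤ mb ∧ 5 ∣ mb - 1 := by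
  have h1 := (torOrder_mod q)
  have h2 := torOrder_ge q hq
  rcases eq_or_ne (q % 5) 4 with h5 | h5
  · rw [dd, if_pos h5] at h
    have := h1.1 h5
    refine ⟨?_, by omega⟩
    have h3 : (4 : ℤ) ≤ q := by omega
    have h4 : (205 : ℤ) ≤ torOrder q := by
      rw [torOrder_eq]
      nlinarith [mul_le_mul_of_nonneg_right h3 (pow_nonneg (by omega : (0 : ℤ) ≤ q) 3),
        mul_le_mul_of_nonneg_right h3 (by omega : (0 : ℤ) ≤ q), pow_le_pow_left₀ (by norm_num) h3 3]
    omega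
  · rw [dd, if_neg h5, Nat.one_mul] at h
    have := h1.2 h5
    exact ⟨by omega, by omega⟩

variable {F L : Type*} [Field F] [Field L] [Algebra F L] [Finite L] {q : ℕ} {M : Subgroup (L ≃ₗ[F] L)}

namespace UOver

theorem card_L (O : UOver q M) : Nat.card L = (q ^ 2) ^ 5 := by
  haveI : FiniteDimensional F L := finiteDim
  rw [Module.natCard_eq_pow_finrank (K := F) (V := L), O.finrank, O.card]

theorem card_tnorm (O : UOver q M) : Nat.card (tnorm (L := L) q) = torOrder q := by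
  rw [tnorm, IsCyclic.card_powMonoidHom_ker, Nat.card_units, O.card_L]
  refine Nat.gcd_eq_right ⟨(q + 1) * (q ^ 5 - 1), ?_⟩
  rw [← Nat.mul_assoc, torOrder_mul]
  obtain ⟨r, hr⟩ : ∃ r, q ^ 5 = r + 1 := ⟨q ^ 5 - 1, by have := pow_pos (show 0 < q by have := O.three_le; omega) 5; omega⟩
  rw [show (q ^ 2) ^ 5 = (q ^ 5) * (q ^ 5) by ring, hr, Nat.add_sub_cancel,
    Nat.sub_eq_iff_eq_add (Nat.mul_pos (by omega) (by omega))]
  ring

/-- The scalars in the torus. -/
theorem ker_incl (O : UOver q M) {u : tnorm (L := L) q} :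
    onPts M (O.incl u) = 1 ↔ ((u : Lˣ) : L) ∈ Set.range (algebraMap F L) := by
  rw [← trivial_iff_range]
  refine ⟨fun h P => ?_, fun h => Equiv.ext fun P => h P⟩
  have := congrArg (fun σ : Equiv.Perm (Sub F L 1) => σ P) h
  exact this

theorem card_tor (O : UOver q M) : torOrder q = dd q * Nat.card O.tor := by
  classical
  haveI : Finite F := Finite.of_injective _ (algebraMap F L).injective
  let f : tnorm (L := L) q →* (onPts M).range := (onPts M).rangeRestrict.comp O.incl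
  have hmul : Nat.card (tnorm (L := L) q) = Nat.card f.ker * Nat.card O.tor := by
    rw [← f.ker.card_mul_index, Subgroup.index_ker]
    rfl
  rw [← O.card_tnorm, hmul]
  congr 1
  let i : Fˣ →* Lˣ := Units.map (algebraMap F L : F →* L)
  have hi : Function.Injective i := Units.map_injective (algebraMap F L).injective
  have hm : ∀ c : (powMonoidHom (torOrder q) : Fˣ →* Fˣ).ker, i c ∈ tnorm (L := L) q := fun c => by
    rw [mem_tnorm, ← map_pow, show (c : Fˣ) ^ torOrder q = 1 from c.2, map_one]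
  rw [← gcd_torOrder q (by have := O.three_le; omega), ← O.card, ← Nat.card_units,
    ← IsCyclic.card_powMonoidHom_ker]
  refine (Nat.card_eq_of_bijective (fun c : (powMonoidHom (torOrder q) : Fˣ →* Fˣ).ker => (⟨⟨i c, hm c⟩, ?_⟩ : f.ker)) ⟨?_, ?_⟩).symm
  · rw [MonoidHom.mem_ker]
    exact Subtype.ext (O.ker_incl.mpr ⟨((c : Fˣ) : F), rfl⟩)
  · intro a b hab
    exact Subtype.ext (hi (congrArg (fun x : f.ker => ((x : tnorm (L := L) q) : Lˣ)) hab))
  · rintro ⟨u, hu⟩
    obtain ⟨c, hc⟩ := O.ker_incl.mp (congrArg Subtype.val hu)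
    have hc0 : c ≠ 0 := fun h0 => (u : Lˣ).ne_zero (by rw [← hc, h0, map_zero])
    have hic : i (Units.mk0 c hc0) = u := Units.ext hc
    refine ⟨⟨Units.mk0 c hc0, hi ?_⟩, Subtype.ext (Subtype.ext hic)⟩
    rw [powMonoidHom_apply, map_pow, hic, map_one]
    exact u.2

theorem big_tor (O : UOver q M) : 41 ≤ Nat.card O.tor :=
  (index_facts q O.three_le O.card_tor).1

/-- The scalars of `M`. -/
noncomputable abbrev zc (_O : UOver q M) : Subgroup M := (onPts M).ker

/-- The torus inside `M`. -/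
noncomputable def tM (O : UOver q M) : Subgroup M := O.incl.range

theorem zc_le (O : UOver q M) : O.zc ≤ O.tM := by
  haveI : FiniteDimensional F L := finiteDim
  rintro ⟨g, hg⟩ hk
  obtain ⟨c, hc⟩ := scalar_of_trivial hk
  have hc0 : c ≠ 0 := fun h0 => by
    have := hc 1
    rw [h0, zero_smul] at this
    simp at this
  have hge : g = mulE (Units.map (algebraMap F L : F →* L) (Units.mk0 c hc0)) * autE 1 :=
    LinearEquiv.ext fun x => by
      rw [hc x, LinearEquiv.mul_apply, mulE_apply, map_one, Algebra.smul_def]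
      rfl
  have hge' : mulE (Units.map (algebraMap F L : F →* L) (Units.mk0 c hc0)) = g :=
    (mul_one _).symm.trans ((congrArg _ (map_one autE).symm).trans hge.symm)
  exact ⟨⟨_, O.mem_tnorm_of_semi hg hge⟩, Subtype.ext hge'⟩

theorem relIndex_zc (O : UOver q M) : O.zc.relIndex O.tM = Nat.card O.tor := by
  rw [Subgroup.relIndex_ker, tM, UOver.tor,
    ← Subgroup.card_map_of_injective (f := (onPts M).range.subtype) (K := ((onPts M).rangeRestrict.comp O.incl).range)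
      Subtype.val_injective, MonoidHom.map_range, MonoidHom.map_range]
  rfl

/-- The data of the character argument inside `M`. -/
theorem cz (O : UOver q M) {τ : L ≃ₐ[F] L} (hτ : τ ≠ 1) :
    CZ O.zc O.tM ⟨autE τ, O.aut τ⟩ 5 where
  prime := by norm_num
  le := O.zc_le
  central := by
    intro z hz g
    obtain ⟨c, hc⟩ := scalar_of_trivial hz
    refine Subtype.ext (LinearEquiv.ext fun x => ?_)
    show (g : L ≃ₗ[F] L) ((z : L ≃ₗ[F] L) x) = (z : L ≃ₗ[F] L) ((g : L ≃ₗ[F] L) x)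
    rw [hc, hc, map_smul]
  comm := by
    rintro _ ⟨u, rfl⟩ _ ⟨v, rfl⟩
    rw [← map_mul, ← map_mul, mul_comm]
  cc := by
    rintro _ ⟨u, rfl⟩ hu x hx
    have D := O.ccData hτ O.big_tor
    have hne : (onPts M).rangeRestrict (O.incl u) ≠ 1 := fun h => hu (congrArg Subtype.val h)
    have hcomm : (onPts M).rangeRestrict x * (onPts M).rangeRestrict (O.incl u) =
        (onPts M).rangeRestrict (O.incl u) * (onPts M).rangeRestrict x := by
      have h1 : (onPts M).rangeRestrict (x * O.incl u * x⁻¹ * (O.incl u)⁻¹) = 1 := Subtype.ext hx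
      simp only [map_mul, map_inv] at h1
      exact mul_inv_eq_iff_eq_mul.mp (mul_inv_eq_one.mp h1)
    obtain ⟨v, hv⟩ := D.cc _ ⟨u, rfl⟩ hne _ hcomm
    have h2 : (O.incl v)⁻¹ * x ∈ O.zc := by
      rw [MonoidHom.mem_ker, map_mul, map_inv, inv_mul_eq_one]
      exact congrArg Subtype.val hv
    have := O.tM.mul_mem (⟨v, rfl⟩ : O.incl v ∈ O.tM) (O.zc_le h2)
    rwa [mul_inv_cancel_left] at this
  conj_mem := by
    rintro _ ⟨u, rfl⟩
    have hN : Units.map (τ : L →* L) (u : Lˣ) ∈ tnorm (L := L) q := by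
      rw [mem_tnorm, ← map_pow, mem_tnorm.mp u.2, map_one]
    refine ⟨⟨_, hN⟩, ?_⟩
    rw [eq_mul_inv_iff_mul_eq]
    exact Subtype.ext (CfsgLib.SingerFive.autE_mulE τ (u : Lˣ)).symm
  fus := by
    rintro g _ ⟨u, rfl⟩ hu ⟨v, hv⟩
    have D := O.ccData hτ O.big_tor
    have hne : (onPts M).rangeRestrict (O.incl u) ≠ 1 := fun h => hu (congrArg Subtype.val h)
    obtain ⟨i, hi, s, ⟨r, rfl⟩, hg⟩ := D.fus ((onPts M).rangeRestrict g) _ ⟨u, rfl⟩ hne
      ⟨v, by rw [MonoidHom.comp_apply, hv, map_mul, map_mul, map_inv]; rfl⟩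
    refine ⟨i, hi, g * ((⟨autE τ, O.aut τ⟩ : M) ^ i)⁻¹, ?_, by rw [inv_mul_cancel_right]⟩
    have h2 : (O.incl r)⁻¹ * (g * ((⟨autE τ, O.aut τ⟩ : M) ^ i)⁻¹) ∈ O.zc := by
      have h3 := congrArg Subtype.val hg
      rw [Subgroup.coe_mul, SubmonoidClass.coe_pow] at h3
      rw [MonoidHom.mem_ker, map_mul, map_mul, map_inv, map_inv, map_pow, inv_mul_eq_one, eq_mul_inv_iff_mul_eq]
      exact h3.symm
    have := O.tM.mul_mem (⟨r, rfl⟩ : O.incl r ∈ O.tM) (O.zc_le h2)
    rwa [mul_inv_cancel_left] at this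
  out := by
    rintro i hi hi5 ⟨u, hu⟩
    refine (O.ccData hτ O.big_tor).out i hi hi5 ⟨u, ?_⟩
    rw [MonoidHom.comp_apply, hu, map_pow]
    rfl
  big := by rw [O.relIndex_zc]; exact O.big_tor
  modOne := by
    rw [O.relIndex_zc]
    exact (index_facts q O.three_le O.card_tor).2

/-- Outside the semilinear group there is no bad normal subgroup. -/
theorem not_semi_normal (O : UOver q M) {τ : L ≃ₐ[F] L} (hτ : τ ≠ 1)
    (hns : ∃ g ∈ M, ¬ CfsgLib.SingerFive.IsSemi g) (K : Subgroup (M ⧸ O.zc)) (hK : K.Normal)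
    (hle : O.tM.map (QuotientGroup.mk' O.zc) ≤ K) : ⁅K, K⁆ ⊓ O.tM.map (QuotientGroup.mk' O.zc) ≠ ⊥ := by
  intro hbot
  obtain ⟨g, hg, hgs⟩ := hns
  let ψ : (M ⧸ O.zc) ≃* (onPts M).range := QuotientGroup.quotientKerEquivRange _
  have hmap : (O.tM.map (QuotientGroup.mk' O.zc)).map ψ.toMonoidHom = O.tor := by
    rw [Subgroup.map_map, tM, UOver.tor, MonoidHom.map_range]
    rfl
  refine hgs (O.semi_of_normal O.big_tor hτ (K := K.map ψ.toMonoidHom) (hK.map _ ψ.surjective)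
    (hmap ▸ Subgroup.map_mono hle) ?_ g hg)
  rw [← hmap, ← Subgroup.map_commutator, ← Subgroup.map_inf _ _ ψ.toMonoidHom ψ.injective, hbot, Subgroup.map_bot]

end UOver

end CfsgLib.MaxSub.SU5Quintic
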