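/-
The hermitian space of the quintic field, and the pieces of the Weil character on an overgroup.
-/
import Cfsg.Agent.Lib.MaxSub.SU5Quintic.ThetaChar
import Cfsg.Agent.Lib.MaxSub.SU5Quintic.UData
import Cfsg.Agent.Lib.MaxSub.SU5Quintic.Pieces

set_option autoImplicit false
set_option linter.unusedSectionVars false
set_option linter.style.haveILetI false

namespace CfsgLib.MaxSub.SU5Quintic

open Module Cfsg CfsgLib.CharTheory
open CfsgLib.SingerFive (Lam mu mu_spec triv onPts mulE mulE_apply autE scalar_of_trivial finiteDim)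
open CfsgLib.MaxSub.ExtUnitary (FD trace_τ exists_theta exists_skew_ne)
open scoped ComplexConjugate

theorem exists_frob_pow {K : Type*} [Field K] [Finite K] {q : ℕ} (hK : Nat.card K = q ^ 2) (k : ℕ)
    (R : Type*) [Field R] [Algebra K R] : ∃ σ : R →+* R, ∀ x, σ x = x ^ q ^ k := by
  haveI : Fintype K := Fintype.ofFinite K
  obtain ⟨p, hp⟩ := CharP.exists K
  obtain ⟨n, hpp, hcard⟩ := FiniteField.card K p
  obtain ⟨f, -, hf⟩ := (Nat.dvd_prime_pow hpp).1
    (hcard ▸ Nat.card_eq_fintype_card (α := K) ▸ hK.symm ▸ dvd_pow_self q two_ne_zero)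
  haveI : Fact p.Prime := ⟨hpp⟩
  haveI : CharP R p := charP_of_injective_algebraMap (algebraMap K R).injective _
  haveI : ExpChar R p := ExpChar.prime hpp
  exact ⟨iterateFrobenius R p (f * k), fun x => by rw [iterateFrobenius_def, hf, ← pow_mul]⟩

variable {F L : Type*} [Field F] [Fintype F] [Field L] [Fintype L] [Algebra F L] {q : ℕ}
  {M : Subgroup (L ≃ₗ[F] L)}

namespace UOver

theorem exists_data (O : UOver q M) : ∃ D : Data F L, D.q = q ∧
    ∀ x y, D.form x y = Algebra.trace F L (x * y ^ q ^ 5) := by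
  haveI : FiniteDimensional F L := finiteDim
  have h5 : Module.finrank F L = 5 := O.finrank
  obtain ⟨σ, hσ⟩ := exists_frob_pow (q := q) O.card 1 F
  simp only [pow_one] at hσ
  obtain ⟨τ, hτ⟩ := exists_frob_pow (q := q) O.card 5 L
  have hcard : Fintype.card F = q ^ 2 := by rw [← Nat.card_eq_fintype_card]; exact O.card
  have E : FD q σ τ := ⟨hcard, hσ, fun x => by rw [h5]; exact hτ x, by rw [h5]; norm_num, by rw [h5]; decide⟩
  let B : L →ₗ[F] L →ₛₗ[σ] F := LinearMap.mk₂'ₛₗ (RingHom.id F) σ (fun x y => Algebra.trace F L (x * τ y))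
    (fun x x' y => by rw [add_mul, map_add])
    (fun a x y => by rw [smul_mul_assoc, map_smul]; rfl)
    (fun x y y' => by rw [map_add, mul_add, map_add])
    (fun a x y => by rw [CfsgLib.MaxSub.ExtUnitary.τ_smul E, mul_smul_comm, map_smul])
  obtain ⟨θ, hθ⟩ := exists_theta E
  obtain ⟨c, hc0, hc⟩ := exists_skew_ne E
  obtain ⟨xi, hxi, hxi'⟩ : ∃ xi, xi + σ xi = 1 ∧ σ xi ≠ xi := by
    by_cases hfix : σ θ = θ
    · have hσc : σ c = -c := by linear_combination hc
      refine ⟨θ + c, by rw [map_add, hσc]; linear_combination hθ, ?_⟩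
      rw [map_add, hσc, hfix]
      intro h
      have h2 : (2 : F) * c = 0 := by linear_combination -h
      rcases mul_eq_zero.mp h2 with h3 | h3
      · rw [hfix] at hθ
        exact one_ne_zero (by rw [← hθ, ← two_mul, h3, zero_mul])
      · exact hc0 h3
    · exact ⟨θ, hθ, hfix⟩
  obtain ⟨ψ, hψ⟩ := AddChar.exists_apply_ne_zero.mpr (one_ne_zero (α := F))
  refine ⟨{ q := q, two_le := by have := O.three_le; omega, card_F := hcard, σ := σ, σ_apply := hσ,
            form := B, herm := fun v w => ?_, nondeg := fun v hv => ?_, xi := xi, xi_trace := hxi,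
            xi_ne := hxi', psi := ψ, psi_ne := ⟨1, map_one σ, hψ⟩ }, rfl, fun x y => by
    show Algebra.trace F L (x * τ y) = _
    rw [hτ]⟩
  · show σ (Algebra.trace F L (v * τ w)) = Algebra.trace F L (w * τ v)
    rw [← trace_τ E, map_mul, CfsgLib.MaxSub.ExtUnitary.ττ E, mul_comm]
  · refine CfsgLib.MaxSub.ExtSymp.eq_zero_of_trace (F := F) fun z => ?_
    have h := hv (τ z)
    change Algebra.trace F L (v * τ (τ z)) = 0 at h
    rw [CfsgLib.MaxSub.ExtUnitary.ττ E] at h
    rw [mul_comm]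
    exact h

/-- The hermitian space of the quintic field. -/
noncomputable def data (O : UOver q M) : Data F L := O.exists_data.choose

theorem data_q (O : UOver q M) : O.data.q = q := O.exists_data.choose_spec.1

theorem data_form (O : UOver q M) (x y : L) : O.data.form x y = Algebra.trace F L (x * y ^ q ^ 5) :=
  O.exists_data.choose_spec.2 x y

theorem le_iso (O : UOver q M) : M ≤ O.data.iso := fun g hg => fun x y => by
  rw [O.data_form, O.data_form]
  exact O.iso g hg x y

theorem odd_finrank (O : UOver q M) : Odd (Module.finrank F L) := by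
  rw [O.finrank]; decide

/-- The central piece on `M`. -/
noncomputable def th (O : UOver q M) (om : O.data.circ →* ℂˣ) : M → ℂ :=
  fun g => O.data.theta om (g : L ≃ₗ[F] L)

theorem isCharacter_th (O : UOver q M) (om : O.data.circ →* ℂˣ) : IsCharacter M (O.th om) :=
  O.data.isCharacter_theta O.le_iso om

/-- The scalars of `M` are scalars of norm one. -/
theorem zc_scal (O : UOver q M) {z : M} (hz : z ∈ O.zc) :
    ∃ lam : O.data.circ, (z : L ≃ₗ[F] L) = Data.scal (lam : Fˣ) := by
  haveI : FiniteDimensional F L := finiteDim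
  obtain ⟨c, hc⟩ := scalar_of_trivial hz
  have hc0 : c ≠ 0 := fun h0 => by
    have h1 := hc 1
    rw [h0, zero_smul] at h1
    exact one_ne_zero ((z : L ≃ₗ[F] L).map_eq_zero_iff.mp h1)
  obtain ⟨u, hu⟩ := O.zc_le hz
  have hcu : algebraMap F L c = ((u : Lˣ) : L) := by
    have h1 := hc 1
    rw [← congrArg (fun g : M => (g : L ≃ₗ[F] L)) hu, Algebra.smul_def, mul_one] at h1
    rw [← h1]
    show ((u : Lˣ) : L) * 1 = _
    rw [mul_one]
  have h2 : Units.mk0 c hc0 ^ torOrder q = 1 := Units.ext ((algebraMap F L).injective (by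
    rw [Units.val_pow_eq_pow_val, Units.val_mk0, map_pow, hcu, ← Units.val_pow_eq_pow_val, mem_tnorm.mp u.2,
      Units.val_one, Units.val_one, map_one]))
  have h3 : Units.mk0 c hc0 ^ (q ^ 2 - 1) = 1 := by
    have := pow_card_eq_one' (x := Units.mk0 c hc0)
    rwa [Nat.card_units, O.card] at this
  have h4 : Units.mk0 c hc0 ^ dd q = 1 := by
    rw [← gcd_torOrder q (by have := O.three_le; omega)]
    exact pow_gcd_eq_one.mpr ⟨h3, h2⟩
  refine ⟨⟨Units.mk0 c hc0, ?_⟩, LinearEquiv.ext fun x => by rw [hc]; rfl⟩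
  rw [Data.mem_circ, O.data_q, ← orderOf_dvd_iff_pow_eq_one]
  exact (orderOf_dvd_of_pow_eq_one h4).trans (by rw [dd_eq]; exact Nat.gcd_dvd_right _ _)

/-- A torus element outside the scalars moves every vector under every scalar. -/
theorem free (O : UOver q M) {t : M} (ht : t ∈ O.tM) (htz : t ∉ O.zc) (lam : O.data.circ) (x : L)
    (hx : ((lam : Fˣ) : F) • (t : L ≃ₗ[F] L) x = x) : x = 0 := by
  obtain ⟨u, rfl⟩ := ht
  by_contra hx0
  refine htz (O.ker_incl.mpr ⟨((lam⁻¹ : O.data.circ) : Fˣ), ?_⟩)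
  have h1 : algebraMap F L ((lam : Fˣ) : F) * ((u : Lˣ) : L) = 1 := by
    refine mul_right_cancel₀ hx0 ?_
    rw [one_mul, mul_assoc, ← Algebra.smul_def]
    exact hx
  rw [Subgroup.coe_inv, Units.val_inv_eq_inv_val, map_inv₀]
  exact (eq_inv_of_mul_eq_one_right h1).symm

open Classical in
/-- The piece completed to a character vanishing on the torus off the centre. -/
noncomputable def piv (O : UOver q M) (om : O.data.circ →* ℂˣ) : M → ℂ :=
  fun g => O.th om g + if om = 1 then 1 else 0

theorem isCharacter_piv (O : UOver q M) (om : O.data.circ →* ℂˣ) : IsCharacter M (O.piv om) := by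
  classical
  unfold piv
  split_ifs with h
  · exact isCharacter_add (O.isCharacter_th om) isCharacter_one
  · simpa using O.isCharacter_th om

theorem piv_off (O : UOver q M) (om : O.data.circ →* ℂˣ) (t : O.tM) (ht : (t : M) ∉ O.zc) :
    O.piv om (t : M) = 0 := by
  classical
  rw [piv, th, O.data.theta_of_free O.odd_finrank om (O.free t.2 ht)]
  split_ifs <;> simp

theorem piv_one (O : UOver q M) (om : O.data.circ →* ℂˣ) : O.piv om 1 = (torOrder q : ℂ) := by
  classical
  have h1 : (torOrder q : ℂ) * ((q : ℂ) + 1) = (q : ℂ) ^ 5 + 1 := by exact_mod_cast torOrder_mul q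
  have hq : ((q : ℂ) + 1) ≠ 0 := Nat.cast_add_one_ne_zero q
  rw [piv, th, OneMemClass.coe_one, O.data.theta_one O.odd_finrank om, O.finrank, O.data_q]
  split_ifs
  · field_simp
    linear_combination -h1
  · field_simp
    linear_combination -h1

theorem th_one (O : UOver q M) (om : O.data.circ →* ℂˣ) [Decidable (om = 1)] :
    O.th om 1 = (torOrder q : ℂ) - if om = 1 then 1 else 0 := by
  rw [← O.piv_one om, piv]
  split_ifs <;> simp

/-- The central character of the completed piece. -/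
theorem piv_central (O : UOver q M) (om : O.data.circ →* ℂˣ) {z : M} (hz : z ∈ O.zc) (g : M) :
    ∃ ω : ℂ, O.piv om (z * g) = ω * O.piv om g ∧ O.piv om z = ω * O.piv om 1 := by
  classical
  obtain ⟨lam, hlam⟩ := O.zc_scal hz
  refine ⟨((om lam : ℂˣ) : ℂ), ?_, ?_⟩ <;> simp only [piv, th, Subgroup.coe_mul, OneMemClass.coe_one, hlam]
  · rw [O.data.theta_scal_mul]
    split_ifs with h
    · subst h; simp
    · simp
  · rw [← mul_one (Data.scal (lam : Fˣ) : L ≃ₗ[F] L), O.data.theta_scal_mul]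
    split_ifs with h
    · subst h; simp
    · simp

/-- The pieces of a completed piece. -/
theorem exists_piv_pieces (O : UOver q M) [Fintype M] [Fintype O.tM] {τ : L ≃ₐ[F] L} (hτ : τ ≠ 1)
    (hns : ∃ g ∈ M, ¬ CfsgLib.SingerFive.IsSemi g) (om : O.data.circ →* ℂˣ) :
    ∃ (l₀ b η : Lam O.tM) (c : IrrCharacter M → ℕ),
      ¬ (O.cz hτ).Good b ∧ (O.cz hτ).Same b l₀ ∧ (O.cz hτ).Good η ∧ (O.cz hτ).Same η l₀ ∧
      (om = 1 → b = triv O.tM) ∧
      (O.cz hτ).Pieces (O.piv om) l₀ b η (dd q) c := by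
  classical
  haveI : O.zc.Normal := MonoidHom.normal_ker _
  let D := O.cz hτ
  let π := O.piv om
  have hπ := O.isCharacter_piv om
  have hns' : ∀ χ l, ¬ D.Small χ l := D.no_small (O.not_semi_normal hτ hns)
  have hm : O.zc.relIndex O.tM = Nat.card O.tor := O.relIndex_zc
  have htor := O.card_tor
  have hπ1 : π 1 = ((dd q * O.zc.relIndex O.tM : ℕ) : ℂ) := by
    rw [hm, ← htor]; exact O.piv_one om
  have hπne : π 1 ≠ 0 := by
    rw [show π 1 = (torOrder q : ℂ) from O.piv_one om, Nat.cast_ne_zero]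
    have := torOrder_ge q O.three_le
    omega
  obtain ⟨l₀, hl₀⟩ : ∃ l : Lam O.tM, mu π l ≠ 0 := by
    by_contra hall
    push Not at hall
    exact hπne ((D.deg_eq hπ).trans (Finset.sum_eq_zero fun l _ => Nat.cast_eq_zero.mpr (hall l)))
  have hl₀z : ∀ t : O.tM, (t : M) ∈ O.zc → π t = (l₀ : O.tM → ℂ) t * π 1 ∧
      ∀ g : M, π ((t : M) * g) = (l₀ : O.tM → ℂ) t * π g := by
    intro t ht
    obtain ⟨φ, hφ⟩ := D.lam_hom l₀
    obtain ⟨ω, -, hω1⟩ := O.piv_central om ht 1
    have hω : ∀ g : M, π ((t : M) * g) = ω * π g := fun g => by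
      obtain ⟨ω', h1, h2⟩ := O.piv_central om ht g
      rwa [mul_right_cancel₀ hπne (h2.symm.trans hω1)] at h1
    have hin : classInner (fun x : O.tM => π x) (l₀ : O.tM → ℂ) ≠ 0 := by
      rw [← mu_spec hπ]; exact Nat.cast_ne_zero.mpr hl₀
    have h3 : (φ t : ℂ) * conj (φ t : ℂ) = 1 := by
      have h4 := (char_apply_inv (isCharacter_of_irr l₀.2) t).symm
      simp only [hφ, map_inv, Units.val_inv_eq_inv_val] at h4
      rw [h4, mul_inv_cancel₀ (Units.ne_zero _)]
    have h5 : classInner (fun x : O.tM => π x) (l₀ : O.tM → ℂ) =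
        (ω * conj (φ t : ℂ)) * classInner (fun x : O.tM => π x) (l₀ : O.tM → ℂ) := by
      simp only [classInner, Finset.mul_sum]
      refine Fintype.sum_equiv (Equiv.mulLeft t⁻¹) _ _ fun x => ?_
      have h6 := hω ((t : M)⁻¹ * (x : M))
      rw [mul_inv_cancel_left] at h6
      rw [Equiv.coe_mulLeft, h6, D.lam_mul, hφ]
      simp only [map_inv, Subgroup.coe_mul, Subgroup.coe_inv, Units.val_inv_eq_inv_val, map_mul, map_inv₀]
      have h7 : conj (φ t : ℂ) ≠ 0 := fun h0 => by simp [h0] at h3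
      field_simp
    have h8 := mul_right_cancel₀ hin (h5.symm.trans (one_mul _).symm)
    have hωl : ω = (l₀ : O.tM → ℂ) t := by
      simp only [hφ]
      calc ω = ω * conj (φ t : ℂ) * (φ t : ℂ) := by rw [mul_assoc, mul_comm (conj _), h3, mul_one]
        _ = (φ t : ℂ) := by rw [h8, one_mul]
    exact ⟨hωl ▸ hω1, fun g => hωl ▸ hω g⟩
  obtain ⟨b, η, c, hbf, hb, hη, hηs, hP⟩ := D.exists_pieces hns' hπ (fun t ht => O.piv_off om t ht)
    (fun t ht g => (hl₀z t ht).2 g) hπ1 (by
      have h41 : 41 ≤ O.zc.relIndex O.tM := hm ▸ O.big_tor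
      have hd : dd q ≤ 5 := by rw [dd]; split_ifs <;> omega
      generalize O.zc.relIndex O.tM = m at h41 ⊢
      obtain ⟨r, rfl⟩ : ∃ r, m = r + 41 := ⟨m - 41, by omega⟩
      rw [show r + 41 - 1 = r + 40 by omega, show r + 40 - 5 = r + 35 by omega]
      have h9 : 5 * (dd q * (r + 41)) ≤ 25 * (r + 41) := by
        rw [← Nat.mul_assoc]; exact Nat.mul_le_mul_right _ (by omega)
      nlinarith)
  refine ⟨l₀, b, η, c, hbf, hb, hη, hηs, fun hom => ?_, hP⟩
  obtain ⟨b', -, -, huniq⟩ := D.exists_base l₀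
  have htriv : D.Same (triv O.tM) l₀ := by
    intro t ht
    obtain ⟨lam, hlam⟩ := O.zc_scal ht
    have h1 := (hl₀z t ht).1
    have h2 : π (t : M) = π 1 := by
      show O.piv om _ = O.piv om _
      simp only [piv, th, OneMemClass.coe_one, hlam]
      rw [← mul_one (Data.scal (lam : Fˣ) : L ≃ₗ[F] L), O.data.theta_scal_mul, hom]
      simp
    rw [h2] at h1
    exact mul_right_cancel₀ hπne ((one_mul _).trans h1)
  exact (huniq b hb hbf).trans (huniq _ htriv fun hg => hg (Subtype.ext (funext fun t => by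
    rw [D.tw_apply]; rfl))).symm

theorem card_zc (O : UOver q M) : Nat.card O.zc = dd q := by
  have hinj : Function.Injective O.incl := fun a b hab => by
    refine Subtype.ext (Units.ext ?_)
    have h1 := congrArg (fun g : M => (g : L ≃ₗ[F] L) 1) hab
    change ((a : Lˣ) : L) * 1 = ((b : Lˣ) : L) * 1 at h1
    rwa [mul_one, mul_one] at h1
  have h1 : Nat.card O.tM = torOrder q := by
    rw [← O.card_tnorm]
    exact (Nat.card_congr (MonoidHom.ofInjective hinj).toEquiv).symm
  have h2 := (O.zc.subgroupOf O.tM).card_mul_index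
  rw [h1, ← Subgroup.relIndex, O.relIndex_zc, O.card_tor,
    Nat.card_congr (Subgroup.subgroupOfEquivOfLe O.zc_le).toEquiv] at h2
  exact Nat.eq_of_mul_eq_mul_right (by have := O.big_tor; omega) h2

end UOver

end CfsgLib.MaxSub.SU5Quintic
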