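/-
From quintic field subalgebras closed under adjoints to the hermitian form of the field.
-/
import Cfsg.Agent.Lib.MaxSub.SU5Quintic.UTheta
import Cfsg.Agent.Lib.MaxSub.ExtUnitary.Main
import Cfsg.Agent.Lib.UnitaryOrder
import Cfsg.Agent.Lib.SingerFive.Bridge

set_option autoImplicit false
set_option linter.unusedSectionVars false
set_option linter.style.haveILetI false
set_option maxHeartbeats 1000000
set_option maxRecDepth 4000

namespace CfsgLib.MaxSub.SU5Quintic

open Matrix Module Cfsg Cfsg.Geo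
open CfsgLib.SingerFive (mulE mulE_apply autE autE_apply det_mulE det_autE)
open CfsgLib.UnitaryTransvection (frob frob_apply frob_frob h_swap h_nondeg h_smul_left h_smul_right h_add_left
  h_add_right h_sub_right)
open CfsgLib.MaxSub.ExtUnitary (FD τ_base σσ ττ trace_τ gmap gmap_apply)
open CfsgLib.MaxSub.ExtSymp (eq_zero_of_trace)

universe u

variable {F : Type u} [Field F] [Fintype F] {q : ℕ}

theorem card_SU_five (hF : Fintype.card F = q ^ 2) :
    Nat.card ↥(Cfsg.GU 5 F q ⊓ specialLinear (Fin 5) F) = suOrder q := by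
  have h1 := CfsgLib.UnitaryOrder.card_GU (F := F) hF 5
  have h2 := CfsgLib.UnitaryOrder.card_GU_eq (F := F) (n := 5) hF (by norm_num)
  rw [h2] at h1
  have hE : Nat.card ↥(Cfsg.GU 5 F q ⊓ specialLinear (Fin 5) F) = Nat.card (Cfsg.SU 5 F q) := by
    refine Nat.card_congr
      { toFun := fun g => ⟨⟨(g.1 : Matrix (Fin 5) (Fin 5) F), ?_⟩, g.2.1⟩
        invFun := fun g => ⟨SpecialLinearGroup.toGL g.1, g.2, ?_⟩
        left_inv := fun g => Subtype.ext (Units.ext rfl)
        right_inv := fun g => Subtype.ext (Subtype.ext rfl) }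
    · simpa using congrArg Units.val (MonoidHom.mem_ker.mp g.2.2)
    · exact MonoidHom.mem_ker.mpr (Units.ext g.1.2)
  rw [hE]
  refine Nat.eq_of_mul_eq_mul_left (show 0 < q + 1 by omega) (h1.trans ?_)
  simp only [Finset.prod_range_succ, Finset.prod_range_zero, suOrder]
  norm_num [Nat.even_iff]
  ring

/-- Adjoints in a quintic field are `q ^ 5`-th powers. -/
theorem adjoint_pow (hF : Fintype.card F = q ^ 2) {L : Type u} [Field L] [Finite L] [Algebra F L]
    (hrank : Module.finrank F L = 5) (ρ : L →ₐ[F] Matrix (Fin 5) (Fin 5) F) (hinj : Function.Injective ρ)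
    (hex : ∀ k : L, ∃ l : L, ∀ x y, hermForm 5 F q (ρ k *ᵥ x) y = hermForm 5 F q x (ρ l *ᵥ y))
    (k : L) (x y : Fin 5 → F) :
    hermForm 5 F q (ρ k *ᵥ x) y = hermForm 5 F q x (ρ (k ^ q ^ 5) *ᵥ y) := by
  classical
  haveI : FiniteDimensional F L := FiniteDimensional.of_finrank_pos (by rw [hrank]; norm_num)
  choose st hst using hex
  have huniq : ∀ a b : L, (∀ x y, hermForm 5 F q x (ρ a *ᵥ y) = hermForm 5 F q x (ρ b *ᵥ y)) → a = b :=
    fun a b hab => hinj (by
    refine Matrix.ext_of_mulVec_single fun i => ?_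
    refine sub_eq_zero.1 (h_nondeg (hF := hF) fun y => ?_)
    rw [← h_swap hF, h_sub_right hF, hab, sub_self, map_zero])
  have hswap : ∀ (k : L) (x y : Fin 5 → F),
      hermForm 5 F q x (ρ k *ᵥ y) = hermForm 5 F q (ρ (st k) *ᵥ x) y := fun k x y => by
    rw [← h_swap hF, hst, h_swap hF]
  let s : L →+* L :=
    { toFun := st
      map_one' := huniq _ _ fun x y => by rw [← hst, map_one, Matrix.one_mulVec, Matrix.one_mulVec]
      map_mul' := fun a b => huniq _ _ fun x y => by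
        rw [← hst, mul_comm (st a), map_mul, map_mul, ← Matrix.mulVec_mulVec, ← Matrix.mulVec_mulVec, hst, hst]
      map_zero' := huniq _ _ fun x y => by
        rw [← hst, map_zero, Matrix.zero_mulVec, Matrix.zero_mulVec]
        have e1 := h_smul_left (n := 5) (q := q) (0 : F) (0 : Fin 5 → F) y
        have e2 := h_smul_right hF (0 : F) x (0 : Fin 5 → F)
        simp only [zero_smul, zero_mul, map_zero] at e1 e2
        rw [e1, e2]
      map_add' := fun a b => huniq _ _ fun x y => by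
        rw [← hst, map_add, map_add, Matrix.add_mulVec, Matrix.add_mulVec, h_add_left, h_add_right hF, hst, hst] }
  have hbase : ∀ a : F, st (algebraMap F L a) = algebraMap F L (frob hF a) := fun a => huniq _ _ fun x y => by
    rw [← hst, AlgHom.commutes, AlgHom.commutes, Algebra.algebraMap_eq_smul_one, Algebra.algebraMap_eq_smul_one,
      Matrix.smul_mulVec, Matrix.smul_mulVec, Matrix.one_mulVec, Matrix.one_mulVec, h_smul_left, h_smul_right hF,
      frob_frob hF]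
  have hss : ∀ k, st (st k) = k := fun k => huniq _ _ fun x y => by rw [← hst, ← hswap]
  obtain ⟨τ₀, hτ₀⟩ := exists_frob_pow (K := F) (q := q) (by rw [Nat.card_eq_fintype_card]; exact hF) 5 L
  have E₀ : FD q (frob hF) τ₀ :=
    ⟨hF, frob_apply hF, fun x => by rw [hrank]; exact hτ₀ x, by rw [hrank]; norm_num, by rw [hrank]; decide⟩
  let c : L →ₐ[F] L :=
    { s.comp τ₀ with
      commutes' := fun a => by
        show st (τ₀ (algebraMap F L a)) = _
        rw [τ_base E₀, hbase, σσ E₀] }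
  obtain ⟨j, hj⟩ := (FiniteField.bijective_frobeniusAlgHom_pow F L).2 c
  have hj0 : (j : ℕ) = 0 := by
    have hc2 : ∀ x, c (c x) = x := fun x => by
      show st (τ₀ (st (τ₀ x))) = x
      rw [hτ₀ (st _), show st (τ₀ x) = s (τ₀ x) from rfl, ← map_pow, ← hτ₀, ττ E₀]
      exact hss x
    have hdvd : 5 ∣ (j : ℕ) + j := by
      refine (dvd_of_eq (hrank.symm.trans (FiniteField.orderOf_frobeniusAlgHom F L).symm)).trans
        (orderOf_dvd_of_pow_eq_one (AlgHom.ext fun x => ?_))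
      rw [pow_add]
      show (FiniteField.frobeniusAlgHom F L ^ (j : ℕ)) ((FiniteField.frobeniusAlgHom F L ^ (j : ℕ)) x) = x
      rw [show FiniteField.frobeniusAlgHom F L ^ (j : ℕ) = c from hj]
      exact hc2 x
    have hj5 : (j : ℕ) < 5 := j.2.trans_le hrank.le
    omega
  have hsτ : st k = k ^ q ^ 5 := by
    have hc1 : ∀ x, c x = x := fun x => by rw [← hj]; simp only [hj0, pow_zero, AlgHom.one_apply]
    have := hc1 (τ₀ k)
    rw [show c (τ₀ k) = st (τ₀ (τ₀ k)) from rfl, ττ E₀, hτ₀] at this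
    exact this
  rw [hst, hsτ]

open Classical in
/-- Quintic normalisers in `SU(5, q)` are maximal, given the result for groups of linear maps of the field. -/
theorem quintic_maximal_of (hF : Fintype.card F = q ^ 2) (hq : 3 ≤ q)
    (hmain : ∀ {L : Type u} [Field L] [Fintype L] [Algebra F L] (M : Subgroup (L ≃ₗ[F] L)) (O : UOver q M),
      (∃ g ∈ M, ¬ CfsgLib.SingerFive.IsSemi g) → Nat.card M ∣ suOrder q →
      Nat.card M = suOrder q ∨ ∀ g ∈ O.data.iso, LinearMap.det (g : L →ₗ[F] L) = 1 → g ∈ M)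
    (K : Subalgebra F (Matrix (Fin 5) (Fin 5) F)) (hK : IsFieldSubalgebra 5 K)
    (hKa : IsAdjointClosedFor (hermForm 5 F q) K) :
    IsMaximalIn (Cfsg.GU 5 F q ⊓ specialLinear (Fin 5) F)
      (subalgebraNormalizer K ⊓ (Cfsg.GU 5 F q ⊓ specialLinear (Fin 5) F)) := by
  have hnot : ¬ Cfsg.GU 5 F q ⊓ specialLinear (Fin 5) F ≤ subalgebraNormalizer K :=
    CfsgLib.Aschbacher.not_SU_le_subalgebraNormalizer hF (by norm_num) hK (by norm_num)
  refine ⟨lt_of_le_of_ne inf_le_right fun e => hnot (e ▸ inf_le_left), fun G hG hGS => ?_⟩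
  by_cases hGN : G ≤ subalgebraNormalizer K
  · exact Or.inl (le_antisymm (le_inf hGN hGS) hG)
  refine Or.inr (le_antisymm hGS ?_)
  letI : Field ↥K := (CfsgLib.MaxSub.Elusive.isField_of_fieldSubalgebra hK (by norm_num)).toField
  haveI : Finite ↥K := Finite.of_injective _ Subtype.val_injective
  letI : Fintype ↥K := Fintype.ofFinite _
  have hn : Module.finrank F ↥K = 5 := hK.finrank_eq
  haveI : FiniteDimensional F ↥K := FiniteDimensional.of_finrank_pos (by rw [hn]; norm_num)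
  have hcardF : Nat.card F = q ^ 2 := by rw [Nat.card_eq_fintype_card]; exact hF
  have hadj := adjoint_pow hF hn K.val Subtype.val_injective (fun k => by
    obtain ⟨k', hk', hkk⟩ := hKa _ k.2
    exact ⟨⟨k', hk'⟩, hkk⟩)
  obtain ⟨φ₀, hφ₀⟩ := CfsgLib.MaxSub.Elusive.exists_coord hK (v := Pi.single 0 1) (by simp)
  set v : Fin 5 → F := Pi.single 0 1
  have hmulv : ∀ a b : ↥K, φ₀ (a * b) = (a : Matrix (Fin 5) (Fin 5) F) *ᵥ φ₀ b := fun a b => by
    rw [hφ₀, hφ₀, Matrix.mulVec_mulVec]; rfl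
  -- the functional of the form
  let lf : Module.Dual F ↥K :=
    { toFun := fun z => hermForm 5 F q (φ₀ z) v
      map_add' := fun x y => by rw [map_add, h_add_left]
      map_smul' := fun c x => by rw [map_smul, h_smul_left, RingHom.id_apply, smul_eq_mul] }
  let a : ↥K := ((Algebra.traceForm F ↥K).toDual (traceForm_nondegenerate F ↥K)).symm lf
  have ha : ∀ z, Algebra.trace F ↥K (a * z) = hermForm 5 F q (φ₀ z) v := fun z => by
    rw [← Algebra.traceForm_apply]
    exact LinearMap.BilinForm.apply_toDual_symm_apply (hB := traceForm_nondegenerate F ↥K) lf z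
  obtain ⟨τ₅, hτ₅⟩ := exists_frob_pow (K := F) (q := q) hcardF 5 ↥K
  have E₀ : FD q (frob hF) τ₅ :=
    ⟨hF, frob_apply hF, fun x => by rw [hn]; exact hτ₅ x, by rw [hn]; norm_num, by rw [hn]; decide⟩
  have hform : ∀ x y : ↥K,
      hermForm 5 F q (φ₀ x) (φ₀ y) = Algebra.trace F ↥K (a * (x * y ^ q ^ 5)) := fun x y => by
    have h1 : hermForm 5 F q (φ₀ x) ((y : Matrix (Fin 5) (Fin 5) F) *ᵥ v) =
        hermForm 5 F q ((y ^ q ^ 5 : ↥K) *ᵥ φ₀ x) v := by
      have := hadj (y ^ q ^ 5) (φ₀ x) v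
      rw [show (y ^ q ^ 5) ^ q ^ 5 = y by rw [← hτ₅, ← hτ₅, ττ E₀]] at this
      exact this.symm
    rw [hφ₀ y, h1, ← hmulv, mul_comm x, ← ha]
  have hatau : a ^ q ^ 5 = a := by
    refine sub_eq_zero.mp (eq_zero_of_trace (F := F) fun z => ?_)
    obtain ⟨w, rfl⟩ : ∃ w, τ₅ w = z := ⟨τ₅ z, ττ E₀ z⟩
    rw [mul_comm, sub_mul, map_sub, sub_eq_zero, ← hτ₅, ← map_mul, trace_τ E₀]
    have h1 := hform w 1
    have h2 := hform 1 w
    simp only [one_pow, mul_one, one_mul] at h1 h2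
    rw [← h1, h_swap hF, h2, hτ₅]
  have ha0 : a ≠ 0 := by
    intro h0
    have h1 : φ₀ 1 = 0 := h_nondeg (hF := hF) fun y => by
      obtain ⟨x, rfl⟩ := φ₀.surjective y
      rw [hform, h0, zero_mul, map_zero]
    exact one_ne_zero (φ₀.map_eq_zero_iff.mp h1)
  -- normalise
  obtain ⟨c, hc⟩ : ∃ c : (↥K)ˣ, (c : ↥K) * (c : ↥K) ^ q ^ 5 = a := by
    have hmem : Units.mk0 a ha0 ∈ (powMonoidHom (q ^ 5 + 1) : (↥K)ˣ →* (↥K)ˣ).range := by
      have hcardK : Nat.card (↥K)ˣ = (q ^ 5 - 1) * (q ^ 5 + 1) := by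
        rw [Nat.card_units, Module.natCard_eq_pow_finrank (K := F) (V := ↥K), hn, hcardF,
          Nat.mul_comm, ← Nat.sq_sub_sq, one_pow, ← pow_mul, ← pow_mul]
      have hle : (powMonoidHom (q ^ 5 + 1) : (↥K)ˣ →* (↥K)ˣ).range ≤ (powMonoidHom (q ^ 5 - 1)).ker := by
        rintro _ ⟨u, rfl⟩
        rw [MonoidHom.mem_ker, powMonoidHom_apply, powMonoidHom_apply, ← pow_mul, Nat.mul_comm, ← hcardK,
          pow_card_eq_one']
      have heq := Subgroup.eq_of_le_of_card_ge hle (by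
        rw [IsCyclic.card_powMonoidHom_range, IsCyclic.card_powMonoidHom_ker, hcardK,
          Nat.gcd_eq_right (dvd_mul_right _ _), Nat.gcd_eq_right (dvd_mul_left _ _),
          Nat.mul_div_cancel _ (Nat.succ_pos _)])
      rw [heq, MonoidHom.mem_ker, powMonoidHom_apply]
      refine Units.ext ?_
      rw [Units.val_pow_eq_pow_val, Units.val_mk0, Units.val_one]
      refine mul_right_cancel₀ ha0 ?_
      rw [← pow_succ, Nat.sub_add_cancel (Nat.one_le_pow _ _ (by omega)), hatau, one_mul]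
    obtain ⟨c, hc⟩ := hmem
    refine ⟨c, ?_⟩
    rw [← pow_succ']
    simpa using congrArg Units.val hc
  let φ : ↥K ≃ₗ[F] (Fin 5 → F) := (mulE c⁻¹).trans φ₀
  have hφform : ∀ x y : ↥K, hermForm 5 F q (φ x) (φ y) = Algebra.trace F ↥K (x * y ^ q ^ 5) := fun x y => by
    show hermForm 5 F q (φ₀ (((c⁻¹ : (↥K)ˣ) : ↥K) * x)) (φ₀ (((c⁻¹ : (↥K)ˣ) : ↥K) * y)) = _
    rw [hform, ← hc, mul_pow]
    congr 1
    calc (c : ↥K) * (c : ↥K) ^ q ^ 5 * (((c⁻¹ : (↥K)ˣ) : ↥K) * x * (((c⁻¹ : (↥K)ˣ) : ↥K) ^ q ^ 5 * y ^ q ^ 5))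
        = ((c : ↥K) * ((c⁻¹ : (↥K)ˣ) : ↥K)) * (((c : ↥K) * ((c⁻¹ : (↥K)ˣ) : ↥K)) ^ q ^ 5) * (x * y ^ q ^ 5) := by
          rw [mul_pow]; ring
      _ = x * y ^ q ^ 5 := by rw [Units.mul_inv, one_pow, mul_one, one_mul]
  have hφmul : ∀ u x : ↥K, φ (u * x) = (u : Matrix (Fin 5) (Fin 5) F) *ᵥ φ x := fun u x => by
    show φ₀ (((c⁻¹ : (↥K)ˣ) : ↥K) * (u * x)) = _
    rw [mul_left_comm]
    exact hmulv _ _
  let conj : ((Fin 5 → F) ≃ₗ[F] (Fin 5 → F)) ≃* (↥K ≃ₗ[F] ↥K) :=
    { toFun := fun f => φ.trans (f.trans φ.symm)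
      invFun := fun f => φ.symm.trans (f.trans φ)
      left_inv := fun f => LinearEquiv.ext fun x => by simp
      right_inv := fun f => LinearEquiv.ext fun x => by simp
      map_mul' := fun f g => LinearEquiv.ext fun x => by simp }
  let Φ : GL (Fin 5) F ≃* (↥K ≃ₗ[F] ↥K) := (gmap (n := 5) (F := F)).trans conj
  have hΦ : ∀ g x, φ (Φ g x) = (g : Matrix (Fin 5) (Fin 5) F) *ᵥ φ x := fun g x => by
    show φ (φ.symm (gmap g (φ x))) = _
    rw [φ.apply_symm_apply, gmap_apply]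
  have hdet : ∀ g, LinearMap.det ((Φ g : ↥K ≃ₗ[F] ↥K) : ↥K →ₗ[F] ↥K) = (g : Matrix (Fin 5) (Fin 5) F).det := by
    intro g
    rw [← LinearMap.det_toLin' (g : Matrix (Fin 5) (Fin 5) F),
      ← LinearMap.det_conj (Matrix.toLin' (g : Matrix (Fin 5) (Fin 5) F)) φ.symm]
    refine congrArg LinearMap.det (LinearMap.ext fun x => φ.injective ?_)
    show φ (Φ g x) = φ (φ.symm (Matrix.toLin' (g : Matrix (Fin 5) (Fin 5) F) (φ x)))
    rw [hΦ, φ.apply_symm_apply, Matrix.toLin'_apply]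
  have hSL : ∀ g : GL (Fin 5) F, g ∈ specialLinear (Fin 5) F ↔ (g : Matrix (Fin 5) (Fin 5) F).det = 1 := fun g =>
    ⟨fun h => by simpa using congrArg Units.val (MonoidHom.mem_ker.mp h),
      fun h => MonoidHom.mem_ker.mpr (Units.ext ((Matrix.GeneralLinearGroup.val_det_apply g).trans
        (h.trans Units.val_one.symm)))⟩
  have hGU : ∀ g : GL (Fin 5) F, g ∈ Cfsg.GU 5 F q ↔ ∀ x y : ↥K,
      Algebra.trace F ↥K (Φ g x * Φ g y ^ q ^ 5) = Algebra.trace F ↥K (x * y ^ q ^ 5) := fun g => by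
    rw [CfsgLib.UnitaryBasic.mem_GU]
    refine ⟨fun h x y => by rw [← hφform, ← hφform, hΦ, hΦ]; exact h _ _, fun h u w => ?_⟩
    obtain ⟨x, rfl⟩ := φ.surjective u
    obtain ⟨y, rfl⟩ := φ.surjective w
    rw [← hΦ, ← hΦ, hφform, hφform]
    exact h x y
  -- multiplications and automorphisms
  have hu : ∀ u : (↥K)ˣ, ∃ g ∈ subalgebraNormalizer K, Φ g = mulE u := by
    intro u
    let g : GL (Fin 5) F := Units.map (K.val : ↥K →* Matrix (Fin 5) (Fin 5) F) u
    refine ⟨g, fun k => ?_, LinearEquiv.ext fun x => φ.injective ?_⟩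
    · have h1 : (g : Matrix (Fin 5) (Fin 5) F) ∈ K := (u : ↥K).2
      have h2 : ((g⁻¹ : GL (Fin 5) F) : Matrix (Fin 5) (Fin 5) F) ∈ K := ((u⁻¹ : (↥K)ˣ) : ↥K).2
      constructor
      · exact fun hk => K.mul_mem (K.mul_mem h1 hk) h2
      · intro hk
        have h3 := K.mul_mem (K.mul_mem h2 hk) h1
        rwa [← mul_assoc, ← mul_assoc, Units.inv_mul, one_mul, mul_assoc, Units.inv_mul, mul_one] at h3
    · rw [hΦ, mulE_apply, hφmul]
      rfl
  have hτ : ∀ τ : ↥K ≃ₐ[F] ↥K, ∃ g ∈ subalgebraNormalizer K, Φ g = autE τ := by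
    intro τ
    set g := Φ.symm (autE τ) with hg
    have hgx : ∀ x, (g : Matrix (Fin 5) (Fin 5) F) *ᵥ φ x = φ (τ x) := fun x => by
      rw [← hΦ, hg, MulEquiv.apply_symm_apply, autE_apply]
    have hval : ∀ k : ↥K, (g : Matrix (Fin 5) (Fin 5) F) * (k : Matrix (Fin 5) (Fin 5) F) *
        ((g⁻¹ : GL (Fin 5) F) : Matrix (Fin 5) (Fin 5) F) = (τ k : Matrix (Fin 5) (Fin 5) F) := fun k => by
      refine (g.isUnit.mul_left_inj).mp ?_
      refine Matrix.toLin'.injective (LinearMap.ext fun z => ?_)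
      obtain ⟨x, rfl⟩ := φ.surjective z
      rw [Matrix.toLin'_apply, Matrix.toLin'_apply, mul_assoc, Units.inv_mul, mul_one, ← Matrix.mulVec_mulVec,
        ← Matrix.mulVec_mulVec, hgx, ← hφmul, ← hφmul, hgx, map_mul]
    refine ⟨g, fun m => ⟨fun hm => ?_, fun hm => ?_⟩, Φ.apply_symm_apply _⟩
    · rw [hval ⟨m, hm⟩]; exact (τ _).2
    · obtain ⟨k, hk⟩ := τ.surjective ⟨_, hm⟩
      have h := hval k
      rw [hk] at h
      have hk' : (k : Matrix (Fin 5) (Fin 5) F) = m := g.isUnit.mul_left_cancel ((g⁻¹).isUnit.mul_right_cancel h)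
      exact hk' ▸ k.2
  let M : Subgroup (↥K ≃ₗ[F] ↥K) := G.map Φ.toMonoidHom
  have hin : ∀ g, g ∈ subalgebraNormalizer K → LinearMap.det ((Φ g : ↥K ≃ₗ[F] ↥K) : ↥K →ₗ[F] ↥K) = 1 →
      (∀ x y : ↥K, Algebra.trace F ↥K (Φ g x * Φ g y ^ q ^ 5) = Algebra.trace F ↥K (x * y ^ q ^ 5)) → Φ g ∈ M :=
    fun g hg hd hi => ⟨g, hG ⟨hg, (hGU g).mpr hi, (hSL g).mpr ((hdet g).symm.trans hd)⟩, rfl⟩
  have hnormeq : ∀ u : (↥K)ˣ, u ^ torOrder q = 1 →
      Algebra.norm F (u : ↥K) = 1 ∧ (u : ↥K) * (u : ↥K) ^ q ^ 5 = 1 := by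
    intro u hu1
    have hU : u ^ (q ^ 5 + 1) = 1 := by rw [← torOrder_mul q, pow_mul, hu1, one_pow]
    have hU' : (u : ↥K) ^ (q ^ 5 + 1) = 1 := by rw [← Units.val_pow_eq_pow_val, hU, Units.val_one]
    refine ⟨(algebraMap F ↥K).injective ?_, by rw [← pow_succ']; exact hU'⟩
    rw [FiniteField.algebraMap_norm_eq_prod_pow, hn, hcardF, map_one]
    simp only [Finset.prod_range_succ, Finset.prod_range_zero, one_mul, ← pow_add]
    have h3 : (q ^ 2) ^ 0 + (q ^ 2) ^ 1 + (q ^ 2) ^ 2 + (q ^ 2) ^ 3 + (q ^ 2) ^ 4 =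
        torOrder q + (q + q ^ 3) * (q ^ 5 + 1) := by
      zify
      rw [torOrder_eq]
      ring
    rw [h3, pow_add, mul_comm (q + q ^ 3), pow_mul, hU', one_pow, mul_one, ← Units.val_pow_eq_pow_val, hu1,
      Units.val_one]
  have O : UOver q M :=
    { finrank := hn
      card := hcardF
      three_le := hq
      iso := by
        rintro _ ⟨g, hg, rfl⟩
        exact (hGU g).mp (hGS hg).1
      det := by
        rintro _ ⟨g, hg, rfl⟩
        exact (hdet g).trans ((hSL g).mp (hGS hg).2)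
      mul := fun u hu1 => by
        obtain ⟨g, hg, e⟩ := hu u
        obtain ⟨hN, hU⟩ := hnormeq u hu1
        rw [← e]
        refine hin g hg (by rw [e, det_mulE, hN]) fun x y => ?_
        rw [e]
        simp only [mulE_apply]
        congr 1
        rw [mul_pow, mul_mul_mul_comm, hU, one_mul]
      aut := fun τ => by
        obtain ⟨g, hg, e⟩ := hτ τ
        rw [← e]
        refine hin g hg (by rw [e, det_autE hn]) fun x y => ?_
        rw [e]
        simp only [autE_apply]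
        rw [← map_pow, ← map_mul, Algebra.trace_eq_of_algEquiv τ] }
  have hns : ∃ g ∈ M, ¬ CfsgLib.SingerFive.IsSemi g := by
    by_contra hall
    push Not at hall
    refine hGN fun g hg => ?_
    obtain ⟨d, τ, hdτ⟩ := hall (Φ g) ⟨g, hg, rfl⟩
    obtain ⟨g₁, hg₁, e₁⟩ := hu d
    obtain ⟨g₂, hg₂, e₂⟩ := hτ τ
    rw [← e₁, ← e₂, ← map_mul] at hdτ
    rw [Φ.injective hdτ]
    exact mul_mem hg₁ hg₂
  have hcardM : Nat.card M = Nat.card G := Subgroup.card_map_of_injective Φ.injective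
  have hsu := card_SU_five hF
  have hdvd : Nat.card M ∣ suOrder q := by
    rw [hcardM, ← hsu]
    exact Subgroup.card_dvd_of_le hGS
  rcases hmain M O hns hdvd with hc | hall
  · exact (Subgroup.eq_of_le_of_card_ge hGS (by rw [hsu, ← hc, hcardM])).ge
  · intro g hg
    have hmem : Φ g ∈ M := hall (Φ g) (fun x y => by
      rw [O.data_form, O.data_form]
      exact (hGU g).mp hg.1 x y) ((hdet g).trans ((hSL g).mp hg.2))
    obtain ⟨g', hg', he⟩ := hmem
    exact Φ.injective he ▸ hg'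

end CfsgLib.MaxSub.SU5Quintic
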