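/-
The field with sixteen elements: an overgroup that is not semilinear has the order of `SU(5, 4)`.
-/
import Cfsg.Agent.Lib.MaxSub.SU5Quintic.UTheta
import Cfsg.Agent.Lib.MaxSub.SU5Quintic.Equation
import Cfsg.Agent.Lib.MaxSub.SU5Quintic.FourNumeric
import Cfsg.Agent.Lib.CharTheory.FeitNilpotent

set_option autoImplicit false
set_option linter.unusedSectionVars false
set_option linter.style.haveILetI false
set_option maxRecDepth 4000
set_option maxHeartbeats 1000000

namespace CfsgLib.MaxSub.SU5Quintic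

open Module Cfsg CfsgLib.CharTheory
open CfsgLib.SingerFive (Lam mu mu_spec triv onPts autE finiteDim)

theorem suOrder_four : suOrder 4 = 5 * fourIndex := by decide +kernel

theorem suOrder_four_sylow : ¬ 41 ^ 2 ∣ suOrder 4 := by decide +kernel

theorem four_pairs : ∀ p ∈ badPairs, p.1 + p.2 * 40 ∣ fourIndex → p = (0, 1) ∨ p = (0, 2) := by
  decide +kernel

/-- The equation without an order on the values. -/
theorem four_equation' {δ a b c x : ℤ} (hδ : δ = 40 ∨ δ = 204) (ha : a ∈ fourVals) (hb : b ∈ fourVals)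
    (hc : c ∈ fourVals) (hx : x % 41 = 36) (hx' : 35 ≤ x.natAbs) (hxd : x.natAbs ∣ fourIndex)
    (he : 1 - δ + a + b + c + x = 0) :
    (a = 1048576 ∨ b = 1048576 ∨ c = 1048576) ∧ x = -1243125 := by
  have key : ∀ a b c : ℤ, a ∈ fourVals → b ∈ fourVals → c ∈ fourVals → a ≤ b → b ≤ c →
      1 - δ + a + b + c + x = 0 → c = 1048576 ∧ x = -1243125 :=
    fun a b c ha hb hc hab hbc he => (four_equation hδ ha hb hc hab hbc hx hx' hxd he).2
  rcases le_total a b with h1 | h1 <;> rcases le_total b c with h2 | h2 <;> rcases le_total a c with h3 | h3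
  · exact (key a b c ha hb hc h1 h2 he).imp (fun h => .inr (.inr h)) id
  · exact (key a b c ha hb hc h1 h2 he).imp (fun h => .inr (.inr h)) id
  · exact (key a c b ha hc hb h3 h2 (by linarith)).imp (fun h => .inr (.inl h)) id
  · exact (key c a b hc ha hb h3 h1 (by linarith)).imp (fun h => .inr (.inl h)) id
  · exact (key b a c hb ha hc h1 h3 (by linarith)).imp (fun h => .inr (.inr h)) id
  · exact (key b c a hb hc ha h2 h3 (by linarith)).imp .inl id
  · exact (key c b a hc hb ha h2 h1 (by linarith)).imp .inl id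
  · exact (key c b a hc hb ha h2 h1 (by linarith)).imp .inl id

/-- A value of the equation: listed, or exceptional. -/
def FourVal (v : ℤ) : Prop :=
  v.natAbs ∣ fourIndex ∧ ((v % 41 = 1 ∧ v ∈ fourVals) ∨ (v % 41 = 36 ∧ 35 ≤ v.natAbs))

/-- Four values solving the equation contain the two extreme degrees. -/
theorem four_values {δ p r s t : ℤ} (hδ : δ = 40 ∨ δ = 204) (hp : FourVal p) (hr : FourVal r) (hs : FourVal s)
    (ht : FourVal t) (he : 1 - δ + p + r + s + t = 0) :
    (p.natAbs = 1048576 ∨ r.natAbs = 1048576 ∨ s.natAbs = 1048576 ∨ t.natAbs = 1048576) ∧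
    (p.natAbs = 1243125 ∨ r.natAbs = 1243125 ∨ s.natAbs = 1243125 ∨ t.natAbs = 1243125) := by
  obtain ⟨dp, ep⟩ := hp
  obtain ⟨dr, er⟩ := hr
  obtain ⟨ds, es⟩ := hs
  obtain ⟨dt, et⟩ := ht
  rcases ep with ⟨cp, mp⟩ | ⟨cp, mp⟩
  · rcases er with ⟨cr, mr⟩ | ⟨cr, mr⟩
    · rcases es with ⟨cs, ms⟩ | ⟨cs, ms⟩
      · rcases et with ⟨ct, -⟩ | ⟨ct, mt⟩
        · omega
        · obtain ⟨h, h'⟩ := four_equation' hδ mp mr ms ct mt dt (by omega)
          omega
      · rcases et with ⟨ct, mt⟩ | ⟨ct, -⟩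
        · obtain ⟨h, h'⟩ := four_equation' hδ mp mr mt cs ms ds (by omega)
          omega
        · omega
    · rcases es with ⟨cs, ms⟩ | ⟨cs, -⟩
      · rcases et with ⟨ct, mt⟩ | ⟨ct, -⟩
        · obtain ⟨h, h'⟩ := four_equation' hδ mp ms mt cr mr dr (by omega)
          omega
        · omega
      · omega
  · rcases er with ⟨cr, mr⟩ | ⟨cr, -⟩
    · rcases es with ⟨cs, ms⟩ | ⟨cs, -⟩
      · rcases et with ⟨ct, mt⟩ | ⟨ct, -⟩
        · obtain ⟨h, h'⟩ := four_equation' hδ mr ms mt cp mp dp (by omega)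
          omega
        · omega
      · omega
    · omega

variable {F L : Type*} [Field F] [Fintype F] [Field L] [Fintype L] [Algebra F L] {q : ℕ}
  {M : Subgroup (L ≃ₗ[F] L)}

namespace UOver

/-- A linear character trivial on the torus and on the field automorphism is trivial. -/
theorem linear_trivial (O : UOver 4 M) [Fintype M] {τ : L ≃ₐ[F] L} (hτ : τ ≠ 1)
    (hcard : Nat.card M ∣ suOrder 4) (φ : M →* ℂˣ) (hT : ∀ t ∈ O.tM, φ t = 1)
    (hw : φ ⟨autE τ, O.aut τ⟩ = 1) (g : M) : φ g = 1 := by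
  classical
  have D := O.cz hτ
  haveI : Fact (Nat.Prime 41) := ⟨by norm_num⟩
  have htor : torOrder 4 = dd 4 * Nat.card O.tor := O.card_tor
  have hm : Nat.card O.tor = 41 := by
    rw [show torOrder 4 = 205 from by decide, show dd 4 = 5 from by decide] at htor
    omega
  have hz : Nat.card O.zc = 5 := by rw [O.card_zc]; decide
  have hT41 : 41 ∣ Nat.card O.tM := by
    have h1 := Subgroup.relIndex_mul_relIndex ⊥ O.zc O.tM bot_le O.zc_le
    rw [Subgroup.relIndex_bot_left, Subgroup.relIndex_bot_left, O.relIndex_zc, hm] at h1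
    exact ⟨_, h1.symm.trans (Nat.mul_comm _ _)⟩
  obtain ⟨t, ht⟩ := exists_prime_orderOf_dvd_card' 41 hT41
  have ht' : orderOf (t : M) = 41 := by rw [Subgroup.orderOf_coe, ht]
  have htz : (t : M) ∉ O.zc := fun h => by
    have h1 := orderOf_dvd_natCard (⟨(t : M), h⟩ : O.zc)
    rw [hz, Subgroup.orderOf_mk, ht'] at h1
    omega
  have hfac : (Nat.card M).factorization 41 = 1 := by
    have h1 : 41 ∣ Nat.card M := ht' ▸ orderOf_dvd_natCard _
    have h2 := Nat.Prime.factorization_pos_of_dvd (by norm_num : Nat.Prime 41) Nat.card_pos.ne' h1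
    by_contra hne
    refine suOrder_four_sylow (dvd_trans ?_ hcard)
    exact (pow_dvd_pow 41 (show 2 ≤ (Nat.card M).factorization 41 by omega)).trans (Nat.ordProj_dvd _ _)
  let P : Sylow 41 M := Sylow.ofCard (Subgroup.zpowers (t : M)) (by
    rw [Nat.card_zpowers, ht', hfac, pow_one])
  have hP : (P : Subgroup M) ≤ φ.ker := by
    rw [Sylow.coe_ofCard, Subgroup.zpowers_le]
    exact hT _ t.2
  have hnorm : Subgroup.normalizer ((P : Subgroup M) : Set M) ≤ φ.ker := by
    intro x hx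
    have h1 : x * (t : M) * x⁻¹ ∈ Subgroup.zpowers (t : M) := by
      rw [Sylow.coe_ofCard] at hx
      exact (Subgroup.mem_normalizer_iff.mp hx _).mp (Subgroup.mem_zpowers _)
    obtain ⟨i, -, s, hs, rfl⟩ := D.fus x _ t.2 htz (Subgroup.zpowers_le.mpr t.2 h1)
    rw [MonoidHom.mem_ker, map_mul, map_pow, hT s hs, hw, one_pow, one_mul]
  have htop := Sylow.normalizer_sup_eq_top' P hP
  have hker : φ.ker = ⊤ := top_le_iff.mp (htop ▸ sup_le hnorm le_rfl)
  exact MonoidHom.mem_ker.mp (hker.symm ▸ Subgroup.mem_top g)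

open Classical in
theorem card_four (O : UOver 4 M) [Fintype M] [Fintype O.tM] {τ : L ≃ₐ[F] L} (hτ : τ ≠ 1)
    (hns : ∃ g ∈ M, ¬ CfsgLib.SingerFive.IsSemi g) (hcard : Nat.card M ∣ suOrder 4) :
    Nat.card M = suOrder 4 := by
  haveI : O.zc.Normal := MonoidHom.normal_ker _
  have D := O.cz hτ
  have hm : O.zc.relIndex O.tM = 41 := by
    have htor : torOrder 4 = dd 4 * Nat.card O.tor := O.card_tor
    rw [show torOrder 4 = 205 from by decide, show dd 4 = 5 from by decide] at htor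
    rw [O.relIndex_zc]
    omega
  have hns' : ∀ χ l, ¬ D.Small χ l := D.no_small (O.not_semi_normal hτ hns)
  have hidx : O.zc.index ∣ fourIndex := by
    have h1 := O.zc.card_mul_index
    rw [O.card_zc, show dd 4 = 5 from by decide] at h1
    rw [suOrder_four, ← h1] at hcard
    exact Nat.dvd_of_mul_dvd_mul_left (by norm_num) hcard
  obtain ⟨l₀, b, η, c, hbf, hb, hη, hηs, hbt, hP⟩ := O.exists_piv_pieces hτ hns 1
  obtain rfl := hbt rfl
  have hηs' : D.Same η (triv O.tM) := D.same_trans hηs (D.same_symm hb)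
  obtain ⟨k, hk, hdeg, hsq, hprop⟩ := D.exists_equation hns' (by rw [hm]; norm_num) hη hηs'
  choose n hn using fun χ : IrrCharacter M => char_one_eq_natCast (isCharacter_of_irr χ.2)
  let one : IrrCharacter M := ⟨fun _ => 1, isIrrCharacter_one⟩
  have hne_tη : (triv O.tM : Lam O.tM) ≠ η := fun h => hbf (h.symm ▸ hη)
  -- characters trivial on the torus have coefficient one
  have hres : ∀ χ : IrrCharacter M, (∀ t : O.tM, (χ : M → ℂ) (t : M) = 1) →
      mu (χ : M → ℂ) (triv O.tM) = 1 ∧ mu (χ : M → ℂ) η = 0 := by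
    intro χ hχ
    have h1 : ∀ l : Lam O.tM, (mu (χ : M → ℂ) l : ℂ) = if triv O.tM = l then 1 else 0 := fun l => by
      rw [mu_spec (isCharacter_of_irr χ.2), ← CZ.lam_inner,
        show (fun t : O.tM => (χ : M → ℂ) t) = (triv O.tM : O.tM → ℂ) from funext fun t => hχ t]
    have h2 := h1 (triv O.tM)
    have h3 := h1 η
    rw [if_pos rfl] at h2
    rw [if_neg hne_tη] at h3
    exact ⟨by exact_mod_cast h2, by exact_mod_cast h3⟩
  have hone := hres one fun _ => rfl
  have hk1 : k one = 1 := by rw [hk, hone.1, hone.2]; norm_num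
  have hn1 : n one = 1 := by
    have h1 : ((n one : ℕ) : ℂ) = ((1 : ℕ) : ℂ) := (hn one).symm.trans (Nat.cast_one).symm
    exact Nat.cast_injective h1
  have hc1 : 1 ≤ c one := by
    by_contra h0
    have h1 : classInner (O.piv 1) (fun _ => (1 : ℂ)) = 0 := by
      rw [show (fun _ => (1 : ℂ)) = (one : M → ℂ) from rfl, hP.coeff, show c one = 0 by omega, Nat.cast_zero]
    have h2 : classInner (O.piv 1) (fun _ : M => (1 : ℂ)) =
        classInner (O.th 1) (fun _ : M => (1 : ℂ)) + classInner (fun _ : M => (1 : ℂ)) fun _ => (1 : ℂ) := by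
      rw [← classInner_add_left]
      refine congrArg (fun f => classInner f _) (funext fun g => ?_)
      simp [piv]
    obtain ⟨N, hN⟩ := classInner_char_nat (O.isCharacter_th 1) (isCharacter_one (G := M))
    rw [hN, h1] at h2
    have h3 : classInner (fun _ : M => (1 : ℂ)) (fun _ => (1 : ℂ)) = 1 := by simp [classInner]
    rw [h3] at h2
    have : (0 : ℕ) = N + 1 := by exact_mod_cast h2
    omega
  -- a piece with `a < b`
  obtain ⟨χp, hcp, hlt⟩ : ∃ χ : IrrCharacter M, c χ ≠ 0 ∧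
      mu (χ : M → ℂ) (triv O.tM) < mu (χ : M → ℂ) η := by
    by_contra hall
    push Not at hall
    have h1 : ∀ χ : IrrCharacter M, c χ * mu (χ : M → ℂ) η + (if χ = one then 1 else 0) ≤
        c χ * mu (χ : M → ℂ) (triv O.tM) := fun χ => by
      split_ifs with h
      · subst h; rw [hone.1, hone.2]; omega
      · rcases Nat.eq_zero_or_pos (c χ) with h0 | h0
        · simp [h0]
        · simpa using Nat.mul_le_mul_left _ (hall χ h0.ne')
    have h2 := Finset.sum_le_sum fun χ (_ : χ ∈ Finset.univ) => h1 χ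
    rw [Finset.sum_add_distrib, hP.sumA, hP.sumB, Finset.sum_ite_eq' Finset.univ one fun _ => 1,
      if_pos (Finset.mem_univ _)] at h2
    omega
  set a := mu (χp : M → ℂ) (triv O.tM) with hadef
  set b' := mu (χp : M → ℂ) η with hbdef
  have hkp : k χp = (a : ℤ) - b' := hk χp
  have hb5 : b' ≤ 5 := by
    have h1 := Finset.single_le_sum (f := fun χ : IrrCharacter M => c χ * mu (χ : M → ℂ) η)
      (fun _ _ => Nat.zero_le _) (Finset.mem_univ χp)
    simp only [hP.sumB, show dd 4 = 5 from by decide, ← hbdef] at h1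
    exact (Nat.le_mul_of_pos_left _ (Nat.pos_of_ne_zero hcp)).trans h1
  have hab2 : b' ≤ a + 2 := by
    have h1 := hP.squares {χp} (by simpa using hcp)
    rw [Finset.sum_singleton, ← hadef, ← hbdef] at h1
    push_cast at h1
    have h2 : ((b' : ℤ) - a) ≤ 2 := by
      by_contra h3
      have h4 : (3 : ℤ) ≤ (b' : ℤ) - a := by omega
      nlinarith
    omega
  have hnp : n χp = a + b' * 40 := by
    have h1 := (hn χp).symm.trans (hP.deg χp hcp)
    rw [hm] at h1
    exact_mod_cast h1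
  have hdvd : ∀ χ : IrrCharacter M, k χ ≠ 0 → n χ ∣ fourIndex := fun χ h =>
    (irr_degree_dvd_index O.zc χ.2 (hprop χ h).1 (hn χ)).trans hidx
  have hkp0 : k χp ≠ 0 := by rw [hkp]; omega
  have hpd := hdvd χp hkp0
  rw [hnp] at hpd
  have hcase : (k χp = -1 ∧ ((n χp : ℤ) = 40 ∨ (n χp : ℤ) = 204)) ∨ (k χp = -2 ∧ n χp = 80) := by
    by_cases h45 : a = 4 ∧ b' = 5
    · left; rw [hkp, hnp, h45.1, h45.2]; norm_num
    · rcases four_pairs _ (mem_badPairs hlt hab2 hb5 h45) hpd with h | h <;>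
        (simp only [Prod.mk.injEq] at h; rw [hkp, hnp, h.1, h.2]; norm_num)
  have hp1 : χp ≠ one := fun h => by
    rw [h, hk1] at hkp
    omega
  -- the remaining terms
  let S : Finset (IrrCharacter M) := ((Finset.univ.erase one).erase χp).filter fun χ => k χ ≠ 0
  let v : IrrCharacter M → ℤ := fun χ => k χ * n χ
  have hsplit : ∀ f : IrrCharacter M → ℤ, (∀ χ, k χ = 0 → f χ = 0) →
      ∑ χ, f χ = f one + (f χp + ∑ χ ∈ S, f χ) := by
    intro f hf
    rw [← Finset.add_sum_erase _ _ (Finset.mem_univ one),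
      ← Finset.add_sum_erase _ _ (Finset.mem_erase.mpr ⟨hp1, Finset.mem_univ χp⟩)]
    congr 2
    refine (Finset.sum_subset (Finset.filter_subset _ _) fun χ hχ hχ' => hf χ ?_).symm
    by_contra h0
    exact hχ' (Finset.mem_filter.mpr ⟨hχ, h0⟩)
  have hsum : 1 + (k χp * n χp + ∑ χ ∈ S, v χ) = 0 := by
    have h1 : ((∑ χ, v χ : ℤ) : ℂ) = 0 := by
      rw [← hdeg]
      push_cast
      exact Finset.sum_congr rfl fun χ _ => by simp [v, hn χ]
    have h2 : ∑ χ, v χ = 0 := by exact_mod_cast h1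
    rw [hsplit v fun χ h => by simp [v, h]] at h2
    simpa [v, hk1, hn1] using h2
  have hsq' : 1 + (k χp ^ 2 + ∑ χ ∈ S, k χ ^ 2) = 6 := by
    rw [hsplit (fun χ => k χ ^ 2) fun χ h => by simp [h], hk1] at hsq
    simpa using hsq
  have hmemS : ∀ χ ∈ S, k χ ≠ 0 ∧ χ ≠ one ∧ χ ≠ χp ∧ 1 ≤ k χ ^ 2 := fun χ hχ => by
    simp only [S, Finset.mem_filter, Finset.mem_erase] at hχ
    have : 0 < k χ ^ 2 := by have := hχ.2; positivity
    exact ⟨hχ.2, hχ.1.2.1, hχ.1.1, by omega⟩
  -- the two kinds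
  have hkind : ∀ χ ∈ S, k χ ^ 2 = 1 →
      (v χ).natAbs ∣ fourIndex ∧ ((v χ % 41 = 1 ∧ (v χ = 1 → n χ = 1)) ∨
        (v χ % 41 = 36 ∧ 35 ≤ (v χ).natAbs)) := by
    intro χ hχ h1
    have habs : (v χ).natAbs = n χ := by
      rcases sq_eq_one_iff.mp h1 with h | h <;> simp [v, h]
    refine ⟨habs ▸ hdvd χ (hmemS χ hχ).1, ?_⟩
    rcases (hprop χ (hmemS χ hχ).1).2 _ (hn χ) with ⟨h2, -⟩ | ⟨-, h2, h3⟩
    · rw [hm, h1] at h2
      exact Or.inl ⟨by show k χ * n χ % 41 = 1; omega, fun h => by rw [← habs, h]; rfl⟩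
    · rw [hm] at h2 h3
      exact Or.inr ⟨by show k χ * n χ % 41 = 36; omega, by rw [habs]; omega⟩
  -- a piece of degree eighty
  rcases hcase with ⟨hk', hδ⟩ | ⟨hk', hn'⟩
  swap
  · rw [hk'] at hsq' hsum
    rw [hn'] at hsum
    have h1 : ∑ χ ∈ S, k χ ^ 2 = 1 := by linarith
    have hS : S.card ≤ 1 := by
      have := Finset.sum_le_sum fun χ hχ => (hmemS χ hχ).2.2.2
      rw [Finset.sum_const, nsmul_one, h1] at this
      exact_mod_cast this
    rcases Finset.eq_empty_or_nonempty S with he | ⟨w, hw⟩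
    · rw [he] at h1; simp at h1
    · have hSe : S = {w} := Finset.eq_singleton_iff_unique_mem.mpr
        ⟨hw, fun x hx => Finset.card_le_one.mp hS x hx w hw⟩
      rw [hSe, Finset.sum_singleton] at hsum h1
      exact absurd (by
        have := (hkind w hw h1).1
        rwa [show v w = 159 by omega] at this) not_dvd_159
  -- the other pieces
  rw [hk'] at hsq' hsum
  have h4 : ∑ χ ∈ S, k χ ^ 2 = 4 := by linarith
  have hall1 : ∀ χ ∈ S, k χ ^ 2 = 1 := by
    intro χ hχ
    have h1 : k χ ^ 2 ≤ 4 := h4 ▸ Finset.single_le_sum (f := fun χ => k χ ^ 2) (fun χ _ => sq_nonneg _) hχ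
    have h2 : -2 ≤ k χ ∧ k χ ≤ 2 := ⟨by nlinarith, by nlinarith⟩
    by_contra hne
    have hk2 : k χ = 2 ∨ k χ = -2 := by
      have h0 := (hmemS χ hχ).1
      have h5 : k χ ≠ 1 := fun h => hne (by rw [h]; rfl)
      have h6 : k χ ≠ -1 := fun h => hne (by rw [h]; rfl)
      omega
    have hkk : k χ ^ 2 = 4 := by rcases hk2 with h | h <;> simp [h]
    have hSe : S = {χ} := by
      refine Finset.eq_singleton_iff_unique_mem.mpr ⟨hχ, fun x hx => ?_⟩
      by_contra hx'
      have h5 := Finset.sum_le_sum_of_subset_of_nonneg (f := fun χ => k χ ^ 2)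
        (Finset.insert_subset hx (Finset.singleton_subset_iff.mpr hχ)) fun i _ _ => sq_nonneg _
      rw [h4, Finset.sum_insert (by simpa using hx'), Finset.sum_singleton, hkk] at h5
      have := (hmemS x hx).2.2.2
      omega
    rw [hSe, Finset.sum_singleton] at hsum
    rcases (hprop χ (hmemS χ hχ).1).2 _ (hn χ) with ⟨h3, -⟩ | ⟨h3, -⟩
    · rw [hm, hkk] at h3
      change 1 + (-1 * (n χp : ℤ) + k χ * n χ) = 0 at hsum
      omega
    · rcases h3 with h | h <;> simp [h] at hne
  have hcardS : S.card = 4 := by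
    rw [Finset.sum_congr rfl hall1, Finset.sum_const, nsmul_one] at h4
    exact_mod_cast h4
  -- no non-trivial linear character
  have hnolin : ∀ χ ∈ S, v χ ≠ 1 := by
    intro χ hχ hv
    have hnat : n χ = 1 := by
      rcases (hkind χ hχ (hall1 χ hχ)).2 with ⟨-, h⟩ | ⟨h, -⟩
      · exact h hv
      · omega
    have h1 : k χ = 1 ∧ ∀ t : O.tM, (χ : M → ℂ) (t : M) = 1 := by
      rcases (hprop χ (hmemS χ hχ).1).2 _ (hn χ) with ⟨-, h⟩ | ⟨-, -, h⟩
      · exact h hnat
      · rw [hm] at h; omega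
    obtain ⟨φ, hφ⟩ := exists_hom_of_degree_one (isCharacter_of_irr χ.2)
      (by rw [hn χ, hnat, Nat.cast_one])
    have hφT : ∀ t ∈ O.tM, φ t = 1 := fun t ht => Units.ext (by
      have := h1.2 ⟨t, ht⟩
      rwa [hφ] at this)
    let w : M := ⟨autE τ, O.aut τ⟩
    have hw1 : φ w ≠ 1 := fun hw => (hmemS χ hχ).2.1 (Subtype.ext (funext fun g => by
      rw [hφ]
      show ((φ g : ℂˣ) : ℂ) = 1
      rw [O.linear_trivial hτ hcard φ hφT hw g, Units.val_one]))
    have hw5 : orderOf (φ w) = 5 := by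
      refine orderOf_eq_prime (hp := ⟨by norm_num⟩) ?_ hw1
      rw [← map_pow]
      exact hφT _ D.pow_e_mem
    have hirr : ∀ i : ℕ, IsIrrCharacter M fun g => ((φ g ^ i : ℂˣ) : ℂ) := fun i => by
      refine isIrrCharacter_of_degree_one ?_ (by simp)
      induction i with
      | zero => simpa using isCharacter_one
      | succ i ih =>
        have h2 := isCharacter_mul ih (isCharacter_of_irr χ.2)
        convert h2 using 1
        funext g
        rw [hφ, pow_succ, Units.val_mul]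
        rfl
    let f : Fin 4 → IrrCharacter M := fun i => ⟨_, hirr (i + 1)⟩
    have hfT : ∀ i (t : O.tM), (f i : M → ℂ) (t : M) = 1 := fun i t => by
      show ((φ t ^ ((i : ℕ) + 1) : ℂˣ) : ℂ) = 1
      rw [hφT _ t.2, one_pow, Units.val_one]
    have hfinj : Function.Injective f := fun i j hij => by
      have h2 := congrArg (fun ψ : IrrCharacter M => (ψ : M → ℂ) w) hij
      have h3 : φ w ^ ((i : ℕ) + 1) = φ w ^ ((j : ℕ) + 1) := Units.ext h2
      rw [pow_inj_mod, hw5] at h3
      exact Fin.ext (by omega)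
    have hfk : ∀ i, k (f i) = 1 := fun i => by
      rw [hk, (hres _ (hfT i)).1, (hres _ (hfT i)).2]; norm_num
    have hfn : ∀ i, n (f i) = 1 := fun i => by
      have h2 := hn (f i)
      rw [show (f i : M → ℂ) 1 = 1 by show ((φ 1 ^ ((i : ℕ) + 1) : ℂˣ) : ℂ) = 1; simp] at h2
      exact_mod_cast h2.symm
    have hfS : ∀ i, f i ∈ S := fun i => by
      simp only [S, Finset.mem_filter, Finset.mem_erase, Finset.mem_univ, and_true, hfk i, ne_eq, one_ne_zero,
        not_false_eq_true]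
      refine ⟨fun h => ?_, fun h => ?_⟩
      · have h2 := hfk i
        rw [h, hk'] at h2
        omega
      · have h2 : φ w ^ ((i : ℕ) + 1) = 1 :=
          Units.ext (congrArg (fun ψ : IrrCharacter M => (ψ : M → ℂ) w) h)
        rw [← orderOf_dvd_iff_pow_eq_one, hw5] at h2
        omega
    have himg : Finset.univ.image f = S := Finset.eq_of_subset_of_card_le
      (Finset.image_subset_iff.mpr fun i _ => hfS i)
      (by rw [hcardS, Finset.card_image_of_injective _ hfinj, Finset.card_univ, Fintype.card_fin])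
    rw [← himg, Finset.sum_image fun i _ j _ h => hfinj h,
      Finset.sum_congr rfl fun i _ => show v (f i) = 1 by simp [v, hfk i, hfn i], Finset.sum_const,
      Finset.card_univ, Fintype.card_fin] at hsum
    simp only [nsmul_one, Nat.cast_ofNat] at hsum
    omega
  -- four values
  obtain ⟨s₁, s₂, s₃, s₄, h12, h13, h14, h23, h24, h34, hSe⟩ := Finset.card_eq_four.mp hcardS
  have hm₁ : s₁ ∈ S := by simp [hSe]
  have hm₂ : s₂ ∈ S := by simp [hSe]
  have hm₃ : s₃ ∈ S := by simp [hSe]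
  have hm₄ : s₄ ∈ S := by simp [hSe]
  have hS4 : ∑ χ ∈ S, v χ = v s₁ + (v s₂ + (v s₃ + v s₄)) := by
    rw [hSe, Finset.sum_insert (by simp [h12, h13, h14]), Finset.sum_insert (by simp [h23, h24]),
      Finset.sum_pair h34]
  rw [hS4] at hsum
  have key : ∀ χ ∈ S, FourVal (v χ) := by
    intro χ hχ
    obtain ⟨h1, h2⟩ := hkind χ hχ (hall1 χ hχ)
    refine ⟨h1, h2.imp (fun h => ⟨h.1, ?_⟩) id⟩
    exact (mem_fourVals h1 h.1).resolve_left (hnolin χ hχ)
  obtain ⟨hfin, hfin'⟩ := four_values hδ (key _ hm₁) (key _ hm₂) (key _ hm₃) (key _ hm₄) (by linarith [hsum])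
  have hidx' : ∀ χ ∈ S, (v χ).natAbs ∣ O.zc.index := fun χ hχ => by
    have habs : (v χ).natAbs = n χ := by
      rcases sq_eq_one_iff.mp (hall1 χ hχ) with h | h <;> simp [v, h]
    exact habs ▸ irr_degree_dvd_index O.zc χ.2 (hprop χ (hmemS χ hχ).1).1 (hn χ)
  have hA : 1048576 ∣ O.zc.index := by
    rcases hfin with h | h | h | h
    exacts [h ▸ hidx' _ hm₁, h ▸ hidx' _ hm₂, h ▸ hidx' _ hm₃, h ▸ hidx' _ hm₄]
  have hB : 1243125 ∣ O.zc.index := by
    rcases hfin' with h | h | h | h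
    exacts [h ▸ hidx' _ hm₁, h ▸ hidx' _ hm₂, h ▸ hidx' _ hm₃, h ▸ hidx' _ hm₄]
  have hC : 41 ∣ O.zc.index := hm ▸ ⟨_, (Subgroup.relIndex_mul_index O.zc_le).symm⟩
  have hAll : fourIndex ∣ O.zc.index := by
    rw [show fourIndex = 1048576 * 1243125 * 41 from by decide +kernel]
    refine Nat.Coprime.mul_dvd_of_dvd_of_dvd ?_ (Nat.Coprime.mul_dvd_of_dvd_of_dvd ?_ hA hB) hC
    · decide +kernel
    · decide +kernel
  have h1 := O.zc.card_mul_index
  rw [O.card_zc, show dd 4 = 5 from by decide, Nat.dvd_antisymm hidx hAll, ← suOrder_four] at h1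
  exact h1.symm

end UOver

end CfsgLib.MaxSub.SU5Quintic
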