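/-
The constituents of the central pieces on an overgroup.
-/
import Cfsg.Agent.Lib.MaxSub.SU5Quintic.UTheta
import Cfsg.Agent.Lib.LinearGroups.Blichfeldt

set_option autoImplicit false
set_option linter.unusedSectionVars false
set_option linter.style.haveILetI false

namespace CfsgLib.MaxSub.SU5Quintic

open Module Cfsg CfsgLib.CharTheory
open CfsgLib.SingerFive (Lam mu mu_spec triv onPts autE finiteDim)

theorem classInner_self_of_coeff {G : Type*} [Group G] [Fintype G] {π : G → ℂ} (hπ : IsCharacter G π)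
    (c : IrrCharacter G → ℕ) (hc : ∀ χ : IrrCharacter G, classInner π (χ : G → ℂ) = c χ) :
    classInner π π = ((∑ χ, c χ ^ 2 : ℕ) : ℂ) := by
  rw [classInner_eq_sum_irr (isClassFunction_char hπ)]
  push_cast
  refine Finset.sum_congr rfl fun χ _ => ?_
  rw [← classInner_comm π, hc, map_natCast, pow_two]

variable {F L : Type*} [Field F] [Fintype F] [Field L] [Fintype L] [Algebra F L] {q : ℕ}
  {M : Subgroup (L ≃ₗ[F] L)}

namespace UOver

theorem torOrder_sub_one (hq : 1 ≤ q) : torOrder q - 1 = q * (q - 1) * (q ^ 2 + 1) := by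
  obtain ⟨r, rfl⟩ : ∃ r, q = r + 1 := ⟨q - 1, by omega⟩
  have h := torOrder_eq (r + 1)
  have h1 : ((r + 1) * r * ((r + 1) ^ 2 + 1) : ℕ) + 1 = torOrder (r + 1) := by
    zify
    rw [h]
    push_cast
    ring
  rw [Nat.add_sub_cancel]
  omega

variable [Fintype M]

open Classical in
/-- The piece with trivial central character is irreducible. -/
theorem th_one_irr (O : UOver q M) [Fintype O.tM] {τ : L ≃ₐ[F] L} (hτ : τ ≠ 1)
    (hns : ∃ g ∈ M, ¬ CfsgLib.SingerFive.IsSemi g) (hpp : IsPrimePow q) (hq4 : q ≠ 4)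
    (hcard : Nat.card M ∣ suOrder q) :
    classInner (O.th 1) (O.th 1) = 1 ∧ q ^ 2 + 1 ∣ Nat.card M := by
  obtain ⟨l₀, b, η, c, hbf, -, hη, -, hbt, hP⟩ := O.exists_piv_pieces hτ hns 1
  obtain rfl := hbt rfl
  set a : IrrCharacter M → ℕ := fun χ => mu (χ : M → ℂ) (triv O.tM) with hadef
  set b' : IrrCharacter M → ℕ := fun χ => mu (χ : M → ℂ) η with hbdef
  let one : IrrCharacter M := ⟨fun _ => 1, isIrrCharacter_one⟩
  have hone : a one = 1 ∧ b' one = 0 := by
    have h1 : ∀ l : Lam O.tM, (mu (one : M → ℂ) l : ℂ) = if triv O.tM = l then 1 else 0 := fun l => by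
      rw [mu_spec isCharacter_one, ← CZ.lam_inner]
      rfl
    have h2 := h1 (triv O.tM)
    have h3 := h1 η
    rw [if_pos rfl] at h2
    rw [if_neg fun h => hbf (by rw [h]; exact hη)] at h3
    exact ⟨by exact_mod_cast h2, by exact_mod_cast h3⟩
  have hπ := O.isCharacter_piv 1
  have hsum1 : O.piv 1 = O.th 1 + fun _ => 1 := funext fun g => by simp [piv]
  obtain ⟨N, hN⟩ := classInner_char_nat (O.isCharacter_th 1) (isCharacter_one (G := M))
  have hone1 : classInner (fun _ : M => (1 : ℂ)) (fun _ => (1 : ℂ)) = 1 := by simp [classInner]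
  have hcone : c one = N + 1 := by
    have h1 := hP.coeff one
    rw [hsum1, show (one : M → ℂ) = fun _ => (1 : ℂ) from rfl, classInner_add_left, hN, hone1] at h1
    exact_mod_cast h1.symm
  have hm : O.zc.relIndex O.tM = Nat.card O.tor := O.relIndex_zc
  have hbig := O.big_tor
  have htor := O.card_tor
  have hdd : dd q = 1 ∨ (dd q = 5 ∧ q % 5 = 4) := by
    rw [dd]; split_ifs with h <;> simp_all
  -- some constituent has `a < b`
  obtain ⟨χp, hcp, hlt⟩ : ∃ χ, c χ ≠ 0 ∧ a χ < b' χ := by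
    by_contra hall
    push Not at hall
    have h1 : ∀ χ, c χ * b' χ + (if χ = one then c χ else 0) ≤ c χ * a χ := fun χ => by
      split_ifs with h
      · subst h; rw [hone.1, hone.2]; omega
      · rcases Nat.eq_zero_or_pos (c χ) with h0 | h0
        · simp [h0]
        · simpa using Nat.mul_le_mul_left _ (hall χ h0.ne')
    have h2 := Finset.sum_le_sum fun χ (_ : χ ∈ Finset.univ) => h1 χ
    rw [Finset.sum_add_distrib, hP.sumA, hP.sumB, Finset.sum_ite_eq' Finset.univ one c,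
      if_pos (Finset.mem_univ _), hcone] at h2
    omega
  have hp1 : χp ≠ one := fun h => by rw [h, hone.2] at hlt; omega
  have hsplit : ∀ f : IrrCharacter M → ℕ,
      ∑ χ, f χ = f one + (f χp + ∑ χ ∈ (Finset.univ.erase one).erase χp, f χ) := fun f => by
    rw [← Finset.add_sum_erase _ _ (Finset.mem_univ one),
      ← Finset.add_sum_erase _ _ (Finset.mem_erase.mpr ⟨hp1, Finset.mem_univ χp⟩)]
  have hA : c one + (c χp * a χp + ∑ χ ∈ (Finset.univ.erase one).erase χp, c χ * a χ) = dd q := by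
    rw [← hP.sumA, hsplit fun χ => c χ * a χ, hone.1, Nat.mul_one]
  have hB : c χp * b' χp + ∑ χ ∈ (Finset.univ.erase one).erase χp, c χ * b' χ = dd q := by
    rw [← hP.sumB, hsplit fun χ => c χ * b' χ, hone.2, Nat.mul_zero, Nat.zero_add]
  have hab : b' χp ≤ a χp + 2 := by
    have h1 := hP.squares {χp} (by simpa using hcp)
    rw [Finset.sum_singleton] at h1
    change ((a χp : ℤ) - b' χp) ^ 2 ≤ ((5 : ℕ) : ℤ) at h1
    by_contra h2
    have h3 : (3 : ℤ) ≤ (b' χp : ℤ) - a χp := by omega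
    push_cast at h1
    nlinarith
  have hb5 : c χp * b' χp ≤ dd q := by omega
  obtain ⟨np, hnp⟩ := char_one_eq_natCast (isCharacter_of_irr χp.2)
  have hdeg : np = a χp + b' χp * (Nat.card O.tor - 1) := by
    have h1 := hnp.symm.trans (hP.deg χp hcp)
    rw [hm] at h1
    exact_mod_cast h1
  have hdvd : np ∣ Nat.card M := CfsgLib.LinearGroups.irr_degree_dvd χp.2 hnp
  have hcp1 : 1 ≤ c χp := Nat.one_le_iff_ne_zero.mpr hcp
  have hble : b' χp ≤ c χp * b' χp := Nat.le_mul_of_pos_left _ hcp1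
  have key : c χp = 1 ∧ b' χp = dd q ∧ a χp + 1 = dd q := by
    rcases hdd with h | ⟨h, h5⟩
    · have hb1 : b' χp = 1 := by omega
      rw [hb1] at hb5
      exact ⟨by omega, by omega, by omega⟩
    · by_cases h45 : a χp = 4 ∧ b' χp = 5
      · rw [h45.2, h] at hb5
        exact ⟨by omega, by omega, by omega⟩
      · exfalso
        refine piece_not_dvd hpp h5 hq4 (mem_badPairs hlt hab (by omega) h45)
          (mb := Nat.card O.tor) (by rw [htor, h]) ?_
        exact hdeg ▸ hdvd.trans hcard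
  obtain ⟨hc1, hb1, ha1⟩ := key
  rw [hc1, Nat.one_mul] at hA hB
  have hrestA : ∑ χ ∈ (Finset.univ.erase one).erase χp, c χ * a χ = 0 := by omega
  have hrestB : ∑ χ ∈ (Finset.univ.erase one).erase χp, c χ * b' χ = 0 := by omega
  have hrest : ∀ χ ∈ (Finset.univ.erase one).erase χp, c χ = 0 := by
    intro χ hχ
    by_contra h0
    have h1 := Finset.sum_eq_zero_iff.mp hrestA χ hχ
    have h2 := Finset.sum_eq_zero_iff.mp hrestB χ hχ
    have h3 := hP.deg χ h0
    change (χ : M → ℂ) 1 = ((a χ + b' χ * (O.zc.relIndex O.tM - 1) : ℕ) : ℂ) at h3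
    rw [(Nat.mul_eq_zero.mp h1).resolve_left h0, (Nat.mul_eq_zero.mp h2).resolve_left h0] at h3
    exact irr_ne_zero χ.2 (by simpa using h3)
  have hN0 : N = 0 := by omega
  refine ⟨?_, ?_⟩
  · have h1 := classInner_self_of_coeff hπ c hP.coeff
    rw [hsplit fun χ => c χ ^ 2, hc1, hcone, hN0, Finset.sum_eq_zero fun χ hχ => by rw [hrest χ hχ]; rfl,
      hsum1, classInner_add_left, classInner_add_right, classInner_add_right, hN,
      classInner_comm (O.th 1) (fun _ => (1 : ℂ)) |>.symm, hN, hone1, hN0] at h1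
    simp at h1
    linear_combination h1
  · have htor1 : np + 1 = torOrder q := by
      rw [htor, hdeg, hb1, ← ha1, Nat.mul_sub_one]
      have : a χp + 1 ≤ (a χp + 1) * Nat.card O.tor := Nat.le_mul_of_pos_right _ (by omega)
      omega
    have h2 := torOrder_sub_one (q := q) (by have := O.three_le; omega)
    rw [← htor1, Nat.add_sub_cancel] at h2
    exact Dvd.dvd.trans ⟨q * (q - 1), by rw [h2]; ring⟩ hdvd

theorem five_mul_deg {q mb a b : ℕ} (hq : 1 ≤ q) (hmb : torOrder q = 5 * mb) :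
    ((q : ℤ) ^ 2 + 1) ∣ 5 * ((a + b * (mb - 1) : ℕ) : ℤ) - (5 * ((a : ℤ) - b) + b) := by
  have hmb1 : 1 ≤ mb := by
    rcases Nat.eq_zero_or_pos mb with h | h
    · exfalso
      have h1 := torOrder_sub_one (q := q) hq
      have h2 := torOrder_mul q
      rw [hmb, h] at h2
      omega
    · exact h
  refine ⟨(b : ℤ) * ((q : ℤ) ^ 2 - q), ?_⟩
  have h1 : (5 : ℤ) * mb = (q : ℤ) ^ 4 - q ^ 3 + q ^ 2 - q + 1 := by
    rw [← torOrder_eq, hmb]; push_cast; rfl
  push_cast [Nat.cast_sub hmb1]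
  linear_combination (b : ℤ) * h1

open Classical in
/-- The other pieces are irreducible, or the sum of an irreducible and a linear character. -/
theorem th_norm (O : UOver q M) [Fintype O.tM] {τ : L ≃ₐ[F] L} (hτ : τ ≠ 1)
    (hns : ∃ g ∈ M, ¬ CfsgLib.SingerFive.IsSemi g) (hpp : IsPrimePow q) (hq4 : q ≠ 4)
    (hcard : Nat.card M ∣ suOrder q)
    (hcong : q % 5 = 4 → ∃ f : ℕ, 34 < f ∧ f ∣ q ^ 2 + 1 ∧
      ∀ (χ : IrrCharacter M) (n : ℕ), (χ : M → ℂ) 1 = n → ∃ E : ℤ, E.natAbs ≤ 4 ∧ (f : ℤ) ∣ (n : ℤ) - E)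
    {om : O.data.circ →* ℂˣ} (hom : om ≠ 1) :
    classInner (O.th om) (O.th om) = 1 ∨ (classInner (O.th om) (O.th om) = 2 ∧
      ∃ eta : M →* ℂˣ, classInner (O.th om) (fun g : M => (eta g : ℂ)) = 1) := by
  obtain ⟨l₀, β, η, c, -, -, -, -, -, hP⟩ := O.exists_piv_pieces hτ hns om
  set a : IrrCharacter M → ℕ := fun χ => mu (χ : M → ℂ) β with hadef
  set b : IrrCharacter M → ℕ := fun χ => mu (χ : M → ℂ) η with hbdef
  have hth : O.piv om = O.th om := funext fun g => by simp [piv, hom]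
  have hnorm : classInner (O.th om) (O.th om) = ((∑ χ, c χ ^ 2 : ℕ) : ℂ) := by
    have h1 := classInner_self_of_coeff (O.isCharacter_piv om) c hP.coeff
    rwa [hth] at h1
  have hm : O.zc.relIndex O.tM = Nat.card O.tor := O.relIndex_zc
  have hbig := O.big_tor
  choose n hn using fun χ : IrrCharacter M => char_one_eq_natCast (isCharacter_of_irr χ.2)
  have hdeg : ∀ χ, c χ ≠ 0 → n χ = a χ + b χ * (Nat.card O.tor - 1) := fun χ h => by
    have h1 := (hn χ).symm.trans (hP.deg χ h)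
    rw [hm] at h1
    exact_mod_cast h1
  have hpos : ∀ χ, c χ ≠ 0 → a χ ≠ 0 ∨ b χ ≠ 0 := fun χ h => by
    by_contra hh
    push Not at hh
    have h1 := hdeg χ h
    rw [hh.1, hh.2] at h1
    exact irr_ne_zero χ.2 (by rw [hn χ, h1]; simp)
  have hdd : dd q = 1 ∨ (dd q = 5 ∧ q % 5 = 4) := by
    rw [dd]; split_ifs with h <;> simp_all
  have hsq : ∀ χ, c χ ≠ 0 → a χ ≤ b χ + 2 ∧ b χ ≤ a χ + 2 := fun χ h => by
    have h1 := hP.squares {χ} (by simpa using h)
    rw [Finset.sum_singleton] at h1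
    change ((a χ : ℤ) - b χ) ^ 2 ≤ ((5 : ℕ) : ℤ) at h1
    push_cast at h1
    constructor <;> by_contra h2
    · have h3 : (3 : ℤ) ≤ (a χ : ℤ) - b χ := by omega
      nlinarith
    · have h3 : (3 : ℤ) ≤ (b χ : ℤ) - a χ := by omega
      nlinarith
  -- the multiplicity of `η` is zero or full
  have hb05 : ∀ χ, c χ ≠ 0 → b χ = 0 ∨ b χ = dd q := by
    intro χ h
    have h1 := Finset.single_le_sum (f := fun χ => c χ * b χ) (fun _ _ => Nat.zero_le _) (Finset.mem_univ χ)
    rw [hP.sumB] at h1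
    have h2 : b χ ≤ dd q := (Nat.le_mul_of_pos_left _ (Nat.pos_of_ne_zero h)).trans h1
    rcases hdd with h5 | ⟨h5, hq5⟩
    · omega
    by_contra hne
    push Not at hne
    obtain ⟨f, hf, hfq, hE⟩ := hcong hq5
    obtain ⟨E, hE4, hdvdE⟩ := hE χ _ (hn χ)
    have h3 : ((f : ℤ)) ∣ 5 * ((a χ : ℤ) - b χ) + b χ - 5 * E := by
      have h4 : (f : ℤ) ∣ 5 * ((a χ + b χ * (Nat.card O.tor - 1) : ℕ) : ℤ) - (5 * ((a χ : ℤ) - b χ) + b χ) :=
        Dvd.dvd.trans (by exact_mod_cast hfq)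
          (five_mul_deg (by have := O.three_le; omega) (by rw [O.card_tor, h5]))
      rw [← hdeg χ h] at h4
      exact (dvd_sub (hdvdE.mul_left 5) h4).trans (dvd_of_eq (by ring))
    have h6 := hsq χ h
    have h7 := Int.natAbs_le_of_dvd_ne_zero h3 (by omega)
    omega
  obtain ⟨χ₁, hc₁, hb₁⟩ : ∃ χ, c χ ≠ 0 ∧ b χ = dd q := by
    by_contra hall
    push Not at hall
    have h1 : ∀ χ, c χ * b χ = 0 := fun χ => by
      by_cases h0 : c χ = 0
      · simp [h0]
      · rw [(hb05 χ h0).resolve_right (hall χ h0), Nat.mul_zero]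
    have h2 := hP.sumB
    rw [Finset.sum_eq_zero fun χ _ => h1 χ] at h2
    omega
  have hsplit : ∀ f : IrrCharacter M → ℕ, ∑ χ, f χ = f χ₁ + ∑ χ ∈ Finset.univ.erase χ₁, f χ :=
    fun f => (Finset.add_sum_erase _ _ (Finset.mem_univ χ₁)).symm
  have hB := hsplit fun χ => c χ * b χ
  rw [hP.sumB, hb₁] at hB
  have hc1 : c χ₁ = 1 := by
    have h1 : c χ₁ * dd q ≤ 1 * dd q := by rw [Nat.one_mul]; omega
    have h2 := Nat.le_of_mul_le_mul_right h1 (by omega)
    omega
  rw [hc1, Nat.one_mul] at hB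
  have hb0 : ∀ χ ∈ Finset.univ.erase χ₁, c χ * b χ = 0 :=
    Finset.sum_eq_zero_iff.mp (show ∑ χ ∈ Finset.univ.erase χ₁, c χ * b χ = 0 by omega)
  have hA := hsplit fun χ => c χ * a χ
  rw [hP.sumA, hc1, Nat.one_mul] at hA
  have ha₁ : dd q ≤ a χ₁ + 1 := by
    rcases hdd with h5 | ⟨h5, hq5⟩
    · omega
    · by_contra hlt
      have h6 := hsq χ₁ hc₁
      refine piece_not_dvd (a := a χ₁) (b := b χ₁) hpp hq5 hq4 ?_ (mb := Nat.card O.tor)
        (by rw [O.card_tor, h5]) ?_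
      · exact mem_badPairs (by omega) h6.2 (by omega) (by omega)
      · rw [← hdeg χ₁ hc₁]
        exact (CfsgLib.LinearGroups.irr_degree_dvd χ₁.2 (hn χ₁)).trans hcard
  have hnorm' : ∑ χ, c χ ^ 2 = 1 + ∑ χ ∈ Finset.univ.erase χ₁, c χ ^ 2 := by
    rw [hsplit fun χ => c χ ^ 2, hc1]; rfl
  have hzero : ∀ χ ∈ Finset.univ.erase χ₁, c χ * a χ = 0 → c χ = 0 := fun χ hχ h => by
    by_contra h0
    rcases hpos χ h0 with h1 | h1
    · exact h1 ((Nat.mul_eq_zero.mp h).resolve_left h0)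
    · exact h1 ((Nat.mul_eq_zero.mp (hb0 χ hχ)).resolve_left h0)
  rcases Nat.lt_or_ge (a χ₁) (dd q) with hlt | hge
  · -- a linear constituent
    right
    have hrest : ∑ χ ∈ Finset.univ.erase χ₁, c χ * a χ = 1 := by omega
    obtain ⟨χ₂, hχ₂, hne⟩ : ∃ χ ∈ Finset.univ.erase χ₁, c χ * a χ ≠ 0 :=
      Finset.exists_ne_zero_of_sum_ne_zero (by omega)
    have hA2 := Finset.add_sum_erase _ (fun χ => c χ * a χ) hχ₂
    rw [hrest] at hA2
    have h12 : c χ₂ * a χ₂ = 1 := by omega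
    have hc2 : c χ₂ = 1 := Nat.eq_one_of_mul_eq_one_right h12
    have ha2 : a χ₂ = 1 := by rw [hc2, Nat.one_mul] at h12; exact h12
    have hb2 : b χ₂ = 0 := by have := hb0 χ₂ hχ₂; rw [hc2, Nat.one_mul] at this; exact this
    have hothers : ∀ χ ∈ (Finset.univ.erase χ₁).erase χ₂, c χ = 0 := fun χ hχ =>
      hzero χ (Finset.mem_of_mem_erase hχ)
        (Finset.sum_eq_zero_iff.mp (show ∑ χ ∈ (Finset.univ.erase χ₁).erase χ₂, c χ * a χ = 0 by omega) χ hχ)
    refine ⟨?_, ?_⟩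
    · rw [hnorm, hnorm', ← Finset.add_sum_erase _ _ hχ₂, hc2,
        Finset.sum_eq_zero fun χ hχ => by rw [hothers χ hχ]; rfl]
      norm_num
    · obtain ⟨φ, hφ⟩ := exists_hom_of_degree_one (isCharacter_of_irr χ₂.2) (by
        rw [hn χ₂, hdeg χ₂ (by omega), ha2, hb2]; simp)
      refine ⟨φ, ?_⟩
      rw [← hth, ← hφ, hP.coeff, hc2, Nat.cast_one]
  · left
    rw [hnorm, hnorm', Finset.sum_eq_zero fun χ hχ => ?_, Nat.add_zero, Nat.cast_one]
    rw [hzero χ hχ (Finset.sum_eq_zero_iff.mp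
      (show ∑ χ ∈ Finset.univ.erase χ₁, c χ * a χ = 0 by omega) χ hχ)]
    rfl

end UOver

end CfsgLib.MaxSub.SU5Quintic
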