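/-
An element of large prime power order dividing `q ^ 2 + 1`: degrees and point sets modulo its order.
-/
import Cfsg.Agent.Lib.MaxSub.SU5Quintic.EigenCent
import Cfsg.Agent.Lib.MaxSub.SU5Quintic.CentCong
import Cfsg.Agent.Lib.MaxSub.SU5Quintic.Theta

set_option autoImplicit false
set_option linter.unusedSectionVars false
set_option linter.style.haveILetI false

namespace CfsgLib.MaxSub.SU5Quintic

open Module Cfsg CfsgLib.CharTheory

/-- A finite free action has the group order dividing the size. -/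
theorem dvd_card_of_free (K X : Type*) [Group K] [MulAction K X] [Finite X] [Finite K]
    (h : ∀ (k : K) (x : X), k • x = x → k = 1) : Nat.card K ∣ Nat.card X := by
  classical
  haveI : Fintype (Quotient (MulAction.orbitRel K X)) := Fintype.ofFinite _
  rw [Nat.card_congr (MulAction.selfEquivSigmaOrbits K X), Nat.card_sigma]
  refine Finset.dvd_sum fun ω _ => ?_
  have hstab : MulAction.stabilizer K ω.out = ⊥ := by
    rw [Subgroup.eq_bot_iff_forall]
    exact fun k hk => h k _ hk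
  have h1 := MulAction.index_stabilizer (G := K) (x := ω.out)
  rw [hstab, Subgroup.index_bot] at h1
  exact (dvd_of_eq h1).trans (dvd_of_eq (Nat.card_coe_set_eq _).symm)

namespace Data

variable {F : Type*} [Field F] [Fintype F] {V : Type*} [AddCommGroup V] [Module F V] [Fintype V] (D : Data F V)

/-- The congruences given by a prime power in `q ^ 2 + 1` dividing the order. -/
theorem exists_side (hn : Module.finrank F V = 5) (M : Subgroup (V ≃ₗ[F] V)) [Fintype M] (hM : M ≤ D.iso)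
    (hdet : ∀ g ∈ M, LinearMap.det (g : V →ₗ[F] V) = 1) {l : ℕ} (hl : l.Prime) (hodd : l % 2 = 1)
    (hlq : l ∣ D.q ^ 2 + 1) (hbig : 34 < l ^ (D.q ^ 2 + 1).factorization l)
    (hdvd : D.q ^ 2 + 1 ∣ Nat.card M) :
    ∃ f : ℕ, 34 < f ∧ f ∣ D.q ^ 2 + 1 ∧
      (∀ (χ : IrrCharacter M) (n : ℕ), (χ : M → ℂ) 1 = n → ∃ E : ℤ, E.natAbs ≤ 4 ∧ (f : ℤ) ∣ (n : ℤ) - E) ∧
      (∀ S : Set V, IsPointSet M S → (0 : V) ∉ S → (∀ v ∈ S, D.nrm v ≠ 0) →
        ∃ j, Nat.card S = (D.q ^ 2 - 1) * j ∧ (j % f = 0 ∨ j % f = 1)) := by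
  classical
  set q := D.q with hqdef
  set f := l ^ (q ^ 2 + 1).factorization l with hfdef
  haveI : Fact l.Prime := ⟨hl⟩
  have hfq : f ∣ q ^ 2 + 1 := Nat.ordProj_dvd _ _
  -- a Sylow subgroup and a central element of order `l`
  let P : Sylow l M := default
  have hPcard : f ∣ Nat.card P := by
    rw [P.card_eq_multiplicity]
    exact pow_dvd_pow l ((Nat.factorization_le_iff_dvd (Nat.succ_ne_zero _) Nat.card_pos.ne').mpr hdvd l)
  haveI : Nontrivial P := by
    rw [← Finite.one_lt_card_iff_nontrivial]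
    exact lt_of_lt_of_le (by omega) (Nat.le_of_dvd Nat.card_pos hPcard)
  have hP : IsPGroup l P := P.isPGroup'
  haveI := hP.center_nontrivial
  have hlZ : l ∣ Nat.card (Subgroup.center P) := by
    obtain ⟨a, ha⟩ := (hP.to_subgroup (Subgroup.center P)).exists_card_eq
    rw [ha]
    refine dvd_pow_self l fun h0 => ?_
    rw [h0, pow_zero] at ha
    exact absurd ha (Finite.one_lt_card (α := Subgroup.center P)).ne'
  obtain ⟨z, hz⟩ := exists_prime_orderOf_dvd_card' l hlZ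
  let sM : M := ((z : P) : M)
  let s : V ≃ₗ[F] V := (sM : V ≃ₗ[F] V)
  have hs : orderOf s = l := by
    show orderOf (((z : P) : M) : V ≃ₗ[F] V) = l
    rw [Subgroup.orderOf_coe, Subgroup.orderOf_coe, Subgroup.orderOf_coe, hz]
  have hl2 : l ≠ 2 := by omega
  obtain ⟨Fr⟩ := D.exists_eigFrame hn (hM sM.2) (hdet _ sM.2) hl hl2 hlq hs
  -- the centraliser
  let H : Subgroup M := (D.cent s).subgroupOf M
  let ι : H →* D.cent s :=
    { toFun := fun h => ⟨((h : M) : V ≃ₗ[F] V), h.2⟩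
      map_one' := rfl
      map_mul' := fun _ _ => rfl }
  let ε : H →* (AlgebraicClosure F)ˣ := Fr.ev.comp ι
  have hεinj : Function.Injective ε := Fr.ev_injective.comp fun a b h =>
    Subtype.ext (Subtype.ext (congrArg (fun x : D.cent s => (x : V ≃ₗ[F] V)) h))
  have hmemH : ∀ g : M, (g : V ≃ₗ[F] V) * s = s * g → g ∈ H := fun g hg =>
    Subgroup.mem_subgroupOf.mpr ((D.mem_cent).mpr ⟨hM g.2, hdet _ g.2, hg⟩)
  have hHc : ∀ a b : H, a * b = b * a := fun a b => hεinj (by rw [map_mul, map_mul, mul_comm])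
  haveI : IsCyclic H := isCyclic_of_injective_ringHom
    ((Units.coeHom _).comp ε) (Units.val_injective.comp hεinj)
  have hsH : sM ∈ H := hmemH _ rfl
  -- an element of order `f`
  have hPH : (P : Subgroup M) ≤ H := fun g hg => by
    refine hmemH g ?_
    have h1 : (z : P) * ⟨g, hg⟩ = ⟨g, hg⟩ * (z : P) := (Subgroup.mem_center_iff.mp z.2 ⟨g, hg⟩).symm
    exact (congrArg (fun x : P => ((x : M) : V ≃ₗ[F] V)) h1).symm
  haveI : IsCyclic P := isCyclic_of_injective (Subgroup.inclusion hPH) (Subgroup.inclusion_injective hPH)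
  obtain ⟨g₀, hg₀⟩ := IsCyclic.exists_generator (α := P)
  have hord₀ : orderOf g₀ = Nat.card P := orderOf_eq_card_of_forall_mem_zpowers hg₀
  obtain ⟨r, hr⟩ := hPcard
  have hr0 : r ≠ 0 := fun h0 => Nat.card_pos.ne' (by rw [hr, h0, Nat.mul_zero])
  let t : H := ⟨((g₀ ^ r : P) : M), hPH (g₀ ^ r : P).2⟩
  have ht : orderOf t = f := by
    rw [← Subgroup.orderOf_coe]
    show orderOf (((g₀ ^ r : P)) : M) = f
    rw [Subgroup.orderOf_coe, orderOf_pow' _ hr0, hord₀, hr, Nat.gcd_eq_right (dvd_mul_left r f),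
      Nat.mul_div_cancel _ (Nat.pos_of_ne_zero hr0)]
  -- the non-regular part
  let ρ : H →* (AlgebraicClosure F)ˣ := (powMonoidHom (q ^ 2 - 1)).comp ε
  have hρt : orderOf (ρ t) = f := by
    show orderOf (ε t ^ (q ^ 2 - 1)) = f
    rw [Nat.Coprime.orderOf_pow ?_, orderOf_injective ε hεinj, ht]
    rw [orderOf_injective ε hεinj, ht]
    refine Nat.Coprime.pow_left _ ((Nat.Prime.coprime_iff_not_dvd hl).mpr fun h => ?_)
    have h1 : 1 ≤ q ^ 2 := Nat.one_le_pow _ _ (by have := D.two_le; omega)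
    have h2 := Nat.dvd_sub hlq h
    rw [show q ^ 2 + 1 - (q ^ 2 - 1) = 2 by omega] at h2
    exact hl2 ((Nat.prime_dvd_prime_iff_eq hl Nat.prime_two).mp h2)
  have hfk : f ∣ ρ.ker.index := by
    rw [Subgroup.index_ker, ← hρt]
    have h1 := orderOf_dvd_natCard (⟨ρ t, t, rfl⟩ : ρ.range)
    rwa [← Subgroup.orderOf_coe] at h1
  have hreg : ∀ h : H, h ∉ ρ.ker → ∀ g : M, g * (h : M) = (h : M) * g → g ∈ H := fun h hh g hg =>
    hmemH g (Fr.regular (ι h) (fun h1 => hh h1) _ (congrArg (fun x : M => (x : V ≃ₗ[F] V)) hg))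
  -- elements of order `l` of the centraliser
  have hsord : orderOf (⟨sM, hsH⟩ : H) = l := by
    rw [← Subgroup.orderOf_coe, ← Subgroup.orderOf_coe]; exact hs
  have hprim : IsPrimitiveRoot ((ε ⟨sM, hsH⟩ : (AlgebraicClosure F)ˣ) : AlgebraicClosure F) l := by
    rw [← hsord, ← orderOf_injective ε hεinj, ← orderOf_units]
    exact IsPrimitiveRoot.orderOf _
  have hpow : ∀ a : H, a ^ l = 1 → ∃ j < l, ⟨sM, hsH⟩ ^ j = a := by
    intro a ha
    haveI : NeZero l := ⟨hl.ne_zero⟩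
    obtain ⟨j, hj, hj'⟩ := hprim.eq_pow_of_pow_eq_one
      (show ((ε a : (AlgebraicClosure F)ˣ) : AlgebraicClosure F) ^ l = 1 by
        rw [← Units.val_pow_eq_pow_val, ← map_pow, ha, map_one, Units.val_one])
    exact ⟨j, hj, hεinj (Units.ext (by rw [map_pow, Units.val_pow_eq_pow_val]; exact hj'))⟩
  have hN : Nat.card {g : M | ∀ a ∈ H, g * a * g⁻¹ ∈ H} ≤ 4 * Nat.card H := by
    let A : Fin 4 → Finset M := fun i => Finset.univ.filter fun g : M =>
      (g : V ≃ₗ[F] V) * s = s ^ q ^ (i : ℕ) * g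
    have hA : ∀ i, (A i).card ≤ Nat.card H := by
      intro i
      rcases (A i).eq_empty_or_nonempty with h0 | ⟨g₁, hg₁⟩
      · rw [h0]; simp
      rw [Nat.card_eq_fintype_card, ← Finset.card_univ]
      have hmem : ∀ g ∈ A i, g₁⁻¹ * g ∈ H := by
        intro g hg
        have e1 := (Finset.mem_filter.mp hg).2
        have e2 := (Finset.mem_filter.mp hg₁).2
        refine hmemH _ ?_
        show ((g₁ : V ≃ₗ[F] V)⁻¹ * g) * s = s * ((g₁ : V ≃ₗ[F] V)⁻¹ * g)
        rw [mul_assoc, e1, ← mul_assoc, ← mul_assoc]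
        congr 1
        rw [inv_mul_eq_iff_eq_mul, ← mul_assoc, e2, mul_inv_cancel_right]
      refine Finset.card_le_card_of_injOn (fun g => if h : g₁⁻¹ * g ∈ H then ⟨_, h⟩ else 1)
        (fun g _ => Finset.mem_univ _) fun g hg g' hg' he => ?_
      simp only [dif_pos (hmem g hg), dif_pos (hmem g' hg'), Subtype.mk.injEq] at he
      exact mul_left_cancel he
    have hsub : Finset.univ.filter (fun g : M => ∀ a ∈ H, g * a * g⁻¹ ∈ H) ⊆ Finset.univ.biUnion A := by
      intro g hg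
      have hc := (Finset.mem_filter.mp hg).2 sM hsH
      obtain ⟨j, -, hj⟩ := hpow ⟨_, hc⟩ (Subtype.ext (by
        show (g * sM * g⁻¹) ^ l = 1
        have h1 : sM ^ l = 1 := by
          have := pow_orderOf_eq_one sM
          rwa [show orderOf sM = l by rw [← Subgroup.orderOf_coe]; exact hs] at this
        rw [conj_pow, h1, mul_one, mul_inv_cancel]))
      have h2 : (g : V ≃ₗ[F] V) * s = s ^ j * g := by
        have h3 : sM ^ j = g * sM * g⁻¹ := congrArg Subtype.val hj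
        have h4 : g * sM = sM ^ j * g := by rw [h3, inv_mul_cancel_right]
        exact congrArg (fun x : M => (x : V ≃ₗ[F] V)) h4
      obtain ⟨i, hi, hi'⟩ := Fr.conj_pow _ j h2
      exact Finset.mem_biUnion.mpr ⟨⟨i, hi⟩, Finset.mem_univ _, Finset.mem_filter.mpr ⟨Finset.mem_univ _, hi'⟩⟩
    have h5 : Nat.card {g : M | ∀ a ∈ H, g * a * g⁻¹ ∈ H} =
        (Finset.univ.filter (fun g : M => ∀ a ∈ H, g * a * g⁻¹ ∈ H)).card := by
      rw [Nat.card_eq_fintype_card, ← Set.toFinset_card]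
      exact congrArg Finset.card (Finset.ext fun g => by simp)
    rw [h5]
    refine (Finset.card_le_card hsub).trans (Finset.card_biUnion_le.trans ?_)
    calc ∑ i, (A i).card ≤ ∑ _i : Fin 4, Nat.card H := Finset.sum_le_sum fun i _ => hA i
      _ = 4 * Nat.card H := by simp
  refine ⟨f, hbig, hfq, fun χ n hn' => ?_, fun S hS hS0 hSn => ?_⟩
  · have hk : 26 ≤ ρ.ker.index := by
      have := Nat.le_of_dvd (Nat.pos_of_ne_zero Subgroup.index_ne_zero_of_finite) hfk
      omega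
    obtain ⟨E, hE, hd⟩ := degree_congruence H ρ.ker hreg hHc hN hk χ n hn'
    exact ⟨E, hE, (Int.natCast_dvd_natCast.mpr hfk).trans hd⟩
  -- point sets
  obtain ⟨v₀, hv₀, hsv₀, -, huniq⟩ := Fr.fixed
  let tv : V ≃ₗ[F] V := ((t : M) : V ≃ₗ[F] V)
  let K := Subgroup.zpowers t
  let S' : Set V := {v | v ∈ S ∧ ∀ a : F, v ≠ a • v₀}
  have hcomm : ∀ (g : H) (v : V), s (((g : M) : V ≃ₗ[F] V) v) = ((g : M) : V ≃ₗ[F] V) (s v) := fun g v => by
    have := (D.mem_cent.mp (ι g).2).2.2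
    exact congrArg (fun x : V ≃ₗ[F] V => x v) this.symm
  have hline : ∀ (g : H) (v : V), (∃ a : F, v = a • v₀) → ∃ a : F, ((g : M) : V ≃ₗ[F] V) v = a • v₀ := by
    rintro g v ⟨a, rfl⟩
    by_cases h0 : ((g : M) : V ≃ₗ[F] V) (a • v₀) = 0
    · exact ⟨0, by rw [h0, zero_smul]⟩
    · exact huniq 1 _ h0 (by rw [hcomm, map_smul s, hsv₀, one_smul])
  have hmem' : ∀ (g : H) (c : Fˣ) (v : V), v ∈ S' → (c : F) • ((g : M) : V ≃ₗ[F] V) v ∈ S' := by
    intro g c v hv
    refine ⟨hS.2 _ _ c.ne_zero (hS.1 _ (g : M).2 v hv.1), fun a ha => ?_⟩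
    obtain ⟨a', ha'⟩ := hline g⁻¹ (((g : M) : V ≃ₗ[F] V) v) ⟨((c⁻¹ : Fˣ) : F) * a, by
      rw [mul_smul, ← ha, Units.val_inv_eq_inv_val, inv_smul_smul₀ c.ne_zero]⟩
    refine hv.2 a' ?_
    rw [← ha']
    show v = (((g⁻¹ : H) : M) : V ≃ₗ[F] V) (((g : M) : V ≃ₗ[F] V) v)
    rw [← LinearEquiv.mul_apply, ← Subgroup.coe_mul, ← Subgroup.coe_mul, inv_mul_cancel]
    rfl
  let act : MulAction (K × Fˣ) S' :=
    { smul := fun p v => ⟨(p.2 : F) • (((p.1 : H) : M) : V ≃ₗ[F] V) v, hmem' _ _ _ v.2⟩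
      one_smul := fun v => Subtype.ext (by
        show ((1 : Fˣ) : F) • (1 : V ≃ₗ[F] V) (v : V) = v
        rw [Units.val_one, one_smul]; rfl)
      mul_smul := fun p p' v => Subtype.ext (by
        show (((p.2 * p'.2 : Fˣ) : F)) • ((((p.1 : H) : M) : V ≃ₗ[F] V) * (((p'.1 : H) : M) : V ≃ₗ[F] V)) (v : V) =
          (p.2 : F) • (((p.1 : H) : M) : V ≃ₗ[F] V) ((p'.2 : F) • (((p'.1 : H) : M) : V ≃ₗ[F] V) v)
        rw [map_smul, smul_smul, Units.val_mul]; rfl) }
  have hfree : ∀ (p : K × Fˣ) (v : S'), p • v = v → p = 1 := by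
    rintro ⟨g, c⟩ ⟨v, hv⟩ h
    have h1 : (c : F) • (((g : H) : M) : V ≃ₗ[F] V) v = v := congrArg Subtype.val h
    have hv0 : v ≠ 0 := fun h0 => hS0 (h0 ▸ hv.1)
    by_cases hg : g = 1
    · subst hg
      refine Prod.ext rfl (Units.ext ?_)
      have h2 : ((c : F) - 1) • v = 0 := by rw [sub_smul, one_smul, sub_eq_zero]; exact h1
      exact sub_eq_zero.mp ((smul_eq_zero.mp h2).resolve_right hv0)
    · exfalso
      -- a power of `g` is `s`
      have hgord : orderOf (g : H) ∣ f := by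
        rw [Subgroup.orderOf_coe, ← ht, ← Nat.card_zpowers t]; exact orderOf_dvd_natCard g
      obtain ⟨a, -, ha⟩ := (Nat.dvd_prime_pow hl).mp hgord
      have ha0 : a ≠ 0 := fun h0 => hg (by
        rw [h0, pow_zero, orderOf_eq_one_iff] at ha
        exact Subtype.ext ha)
      obtain ⟨a', rfl⟩ : ∃ a', a = a' + 1 := ⟨a - 1, by omega⟩
      have hb : orderOf ((g : H) ^ l ^ a') = l := by
        rw [orderOf_pow' _ (pow_ne_zero _ hl.ne_zero), ha, Nat.gcd_eq_right (pow_dvd_pow l (Nat.le_succ _)),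
          pow_succ', Nat.mul_div_cancel _ (pow_pos hl.pos _)]
      obtain ⟨j, -, hj⟩ := hpow _ (by rw [← hb]; exact pow_orderOf_eq_one _)
      have hje : ∃ i : ℕ, ((g : H) ^ l ^ a') ^ i = ⟨sM, hsH⟩ := by
        have hz1 : Subgroup.zpowers ((g : H) ^ l ^ a') ≤ Subgroup.zpowers (⟨sM, hsH⟩ : H) :=
          Subgroup.zpowers_le.mpr (hj ▸ Subgroup.pow_mem _ (Subgroup.mem_zpowers _) j)
        have heq := Subgroup.eq_of_le_of_card_ge hz1 (by rw [Nat.card_zpowers, Nat.card_zpowers, hsord, hb])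
        have : (⟨sM, hsH⟩ : H) ∈ Subgroup.zpowers ((g : H) ^ l ^ a') := heq ▸ Subgroup.mem_zpowers _
        exact (Submonoid.mem_powers_iff _ _).mp (mem_powers_iff_mem_zpowers.mpr this)
      obtain ⟨i, hi⟩ := hje
      have hgv : (((g : H) : M) : V ≃ₗ[F] V) v = ((c⁻¹ : Fˣ) : F) • v := by
        conv_rhs => rw [← h1]
        rw [smul_smul, Units.inv_mul, one_smul]
      have hpowv : ∀ m : ℕ, (((g : H) ^ m : H) : M).1 v = ((c⁻¹ : Fˣ) : F) ^ m • v := fun m => by
        induction m with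
        | zero => rw [pow_zero, pow_zero, one_smul]; rfl
        | succ m ih =>
          rw [pow_succ (g : H), Subgroup.coe_mul, Subgroup.coe_mul, LinearEquiv.mul_apply, hgv, map_smul, ih,
            smul_smul, pow_succ']
      have hsv : s v = (((c⁻¹ : Fˣ) : F) ^ (l ^ a' * i)) • v := by
        rw [← hpowv, pow_mul, hi]
      obtain ⟨b, hb'⟩ := huniq _ v hv0 hsv
      exact hv.2 b hb'
  have hdiv : f * (q ^ 2 - 1) ∣ Nat.card S' := by
    have h1 := @dvd_card_of_free (K × Fˣ) S' _ act _ _ hfree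
    rwa [Nat.card_prod, Nat.card_zpowers, ht, Nat.card_units, Nat.card_eq_fintype_card (α := F), D.card_F] at h1
  obtain ⟨a, ha⟩ := hdiv
  by_cases hin : v₀ ∈ S
  · have hsplit : S = S' ∪ Set.range fun c : Fˣ => (c : F) • v₀ := by
      ext v
      constructor
      · intro hv
        by_cases hl' : ∃ b : F, v = b • v₀
        · obtain ⟨b, rfl⟩ := hl'
          have hb : b ≠ 0 := fun h0 => hS0 (by rwa [h0, zero_smul] at hv)
          exact Or.inr ⟨Units.mk0 b hb, rfl⟩
        · push Not at hl'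
          exact Or.inl ⟨hv, hl'⟩
      · rintro (hv | ⟨c, rfl⟩)
        · exact hv.1
        · exact hS.2 _ _ c.ne_zero hin
    refine ⟨f * a + 1, ?_, Or.inr ?_⟩
    · rw [Nat.card_coe_set_eq, hsplit, Set.ncard_union_eq ?_ (Set.toFinite _) (Set.toFinite _),
        ← Nat.card_coe_set_eq, ← Nat.card_coe_set_eq, ha]
      · rw [Nat.card_congr (Equiv.ofInjective _ fun c c' h => Units.ext (smul_left_injective F hv₀ h)).symm,
          Nat.card_units, Nat.card_eq_fintype_card, D.card_F, ← hqdef]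
        ring
      · rw [Set.disjoint_left]
        rintro v hv ⟨c, rfl⟩
        exact hv.2 _ rfl
    · rw [Nat.mul_add_mod, Nat.mod_eq_of_lt (by omega)]
  · have hS' : S = S' := Set.ext fun v => ⟨fun hv => ⟨hv, fun b hb => hin (by
      have hb0 : b ≠ 0 := fun h0 => hS0 (by rwa [hb, h0, zero_smul] at hv)
      have := hS.2 b⁻¹ v (inv_ne_zero hb0) hv
      rwa [hb, inv_smul_smul₀ hb0] at this)⟩, fun hv => hv.1⟩
    exact ⟨f * a, by rw [hS', ha]; ring, Or.inl (Nat.mul_mod_right f a)⟩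

end Data

end CfsgLib.MaxSub.SU5Quintic
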