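/-
The inputs of the orbit argument for an overgroup of the quintic torus normaliser.
-/
import Cfsg.Agent.Lib.MaxSub.SU5Quintic.UPieces
import Cfsg.Agent.Lib.MaxSub.SU5Quintic.USide

set_option autoImplicit false
set_option linter.unusedSectionVars false
set_option linter.style.haveILetI false

namespace CfsgLib.MaxSub.SU5Quintic

open Module Cfsg CfsgLib.CharTheory
open CfsgLib.SingerFive (mulE mulE_apply autE)

variable {F L : Type*} [Field F] [Fintype F] [Field L] [Fintype L] [Algebra F L] {q : ℕ}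
  {M : Subgroup (L ≃ₗ[F] L)}

namespace UOver

theorem isPrimePow_q (O : UOver q M) : IsPrimePow q := by
  obtain ⟨p, hp⟩ := CharP.exists F
  obtain ⟨n, hpp, hcard⟩ := FiniteField.card F p
  have hF : Fintype.card F = q ^ 2 := by rw [← Nat.card_eq_fintype_card]; exact O.card
  obtain ⟨f, -, hf⟩ := (Nat.dvd_prime_pow hpp).1 (hcard ▸ hF.symm ▸ dvd_pow_self q two_ne_zero)
  refine (isPrimePow_nat_iff q).mpr ⟨p, f, hpp, Nat.pos_of_ne_zero fun h0 => ?_, hf.symm⟩
  have := O.three_le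
  rw [hf, h0, pow_zero] at this
  omega

theorem det_data (O : UOver q M) : ∀ g ∈ M, LinearMap.det (g : L →ₗ[F] L) = 1 := O.det

/-- Point sets are unions of orbits of the torus. -/
theorem pts_dvd (O : UOver q M) (S : Set L) (hS : Data.IsPointSet M S) (hS0 : (0 : L) ∉ S) :
    Nat.card O.tor * (q ^ 2 - 1) ∣ Nat.card S := by
  classical
  set mb := Nat.card O.tor with hmb
  have htor : torOrder q = dd q * mb := O.card_tor
  let T₀ : Subgroup Lˣ := (powMonoidHom mb).ker
  have hT₀ : Nat.card T₀ = mb := by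
    show Nat.card (powMonoidHom mb : Lˣ →* Lˣ).ker = mb
    rw [IsCyclic.card_powMonoidHom_ker]
    refine Nat.gcd_eq_right (dvd_trans ?_ (Subgroup.card_subgroup_dvd_card (tnorm (L := L) q)))
    rw [O.card_tnorm, htor]
    exact dvd_mul_left _ _
  have hin : ∀ u : T₀, mulE (u : Lˣ) ∈ M := fun u => O.mul _ (by
    rw [htor, Nat.mul_comm, pow_mul, show (u : Lˣ) ^ mb = 1 from u.2, one_pow])
  let act : MulAction (T₀ × Fˣ) S :=
    { smul := fun p v => ⟨(p.2 : F) • (((p.1 : Lˣ) : L) * (v : L)),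
        hS.2 _ _ p.2.ne_zero (hS.1 _ (hin p.1) _ v.2)⟩
      one_smul := fun v => Subtype.ext (by
        show ((1 : Fˣ) : F) • (((1 : Lˣ) : L) * (v : L)) = v
        rw [Units.val_one, Units.val_one, one_smul, one_mul])
      mul_smul := fun p p' v => Subtype.ext (by
        show ((p.2 * p'.2 : Fˣ) : F) • ((((p.1 : Lˣ) * (p'.1 : Lˣ) : Lˣ) : L) * (v : L)) =
          (p.2 : F) • (((p.1 : Lˣ) : L) * ((p'.2 : F) • (((p'.1 : Lˣ) : L) * (v : L))))
        rw [Units.val_mul, Units.val_mul, mul_smul_comm, smul_smul, mul_assoc]) }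
  have hcop : Nat.Coprime (dd q) mb := by
    obtain ⟨-, h5⟩ := index_facts q O.three_le htor
    have h41 := O.big_tor
    rw [dd]
    split_ifs
    · refine (Nat.Prime.coprime_iff_not_dvd (by norm_num)).mpr fun h => ?_
      omega
    · exact Nat.coprime_one_left mb
  have hfree : ∀ (p : T₀ × Fˣ) (v : S), p • v = v → p = 1 := by
    rintro ⟨u, c⟩ ⟨v, hv⟩ h
    have h1 : (c : F) • (((u : Lˣ) : L) * v) = v := congrArg Subtype.val h
    have hv0 : v ≠ 0 := fun h0 => hS0 (h0 ▸ hv)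
    have h2 : algebraMap F L c * ((u : Lˣ) : L) = 1 := by
      refine mul_right_cancel₀ hv0 ?_
      rw [one_mul, mul_assoc, ← Algebra.smul_def]
      exact h1
    have h3 : Units.map (algebraMap F L : F →* L) c = (u : Lˣ)⁻¹ :=
      eq_inv_of_mul_eq_one_left (Units.ext (by rw [Units.val_mul, Units.val_one]; exact h2))
    have hinj : Function.Injective (Units.map (algebraMap F L : F →* L)) :=
      Units.map_injective (algebraMap F L).injective
    have hc : c ^ mb = 1 := hinj (by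
      rw [map_pow, h3, inv_pow, show (u : Lˣ) ^ mb = 1 from u.2, inv_one, map_one])
    have hc' : c ^ (q ^ 2 - 1) = 1 := by
      have := pow_card_eq_one' (x := c)
      rwa [Nat.card_units, O.card] at this
    have hd : c ^ dd q = 1 := by
      rw [← gcd_torOrder q (by have := O.three_le; omega)]
      exact pow_gcd_eq_one.mpr ⟨hc', by rw [htor, Nat.mul_comm, pow_mul, hc, one_pow]⟩
    have hc1 : c = 1 := by
      have h4 := pow_gcd_eq_one.mpr ⟨hd, hc⟩
      rwa [hcop.gcd_eq_one, pow_one] at h4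
    subst hc1
    rw [map_one, eq_comm, inv_eq_one] at h3
    exact Prod.ext (Subtype.ext h3) rfl
  have h1 := @dvd_card_of_free (T₀ × Fˣ) S _ act _ _ hfree
  rwa [Nat.card_prod, hT₀, Nat.card_units, O.card] at h1

open Classical in
/-- Everything the orbit argument needs. -/
theorem orbit_inputs (O : UOver q M) [Fintype M] {τ : L ≃ₐ[F] L} (hτ : τ ≠ 1)
    (hns : ∃ g ∈ M, ¬ CfsgLib.SingerFive.IsSemi g) (hq4 : q ≠ 4) (hcard : Nat.card M ∣ suOrder q) :
    classInner (O.th 1) (O.th 1) = 1 ∧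
    (∀ om : O.data.circ →* ℂˣ, om ≠ 1 → classInner (O.th om) (O.th om) = 1 ∨
      (classInner (O.th om) (O.th om) = 2 ∧
        ∃ eta : M →* ℂˣ, classInner (O.th om) (fun g : M => (eta g : ℂ)) = 1)) ∧
    (dd q = 5 → ∃ f, 13 ≤ f ∧ f ∣ q ^ 2 + 1 ∧ ∀ S : Set L, Data.IsPointSet M S → (0 : L) ∉ S →
      (∀ v ∈ S, O.data.nrm v ≠ 0) → ∃ j, Nat.card S = (q ^ 2 - 1) * j ∧ (j % f = 0 ∨ j % f = 1)) := by
  letI : Fintype O.tM := Fintype.ofFinite _
  have hpp := O.isPrimePow_q
  obtain ⟨h1, hdiv⟩ := O.th_one_irr hτ hns hpp hq4 hcard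
  have hside : q % 5 = 4 → ∃ f : ℕ, 34 < f ∧ f ∣ q ^ 2 + 1 ∧
      (∀ (χ : IrrCharacter M) (n : ℕ), (χ : M → ℂ) 1 = n → ∃ E : ℤ, E.natAbs ≤ 4 ∧ (f : ℤ) ∣ (n : ℤ) - E) ∧
      (∀ S : Set L, Data.IsPointSet M S → (0 : L) ∉ S → (∀ v ∈ S, O.data.nrm v ≠ 0) →
        ∃ j, Nat.card S = (q ^ 2 - 1) * j ∧ (j % f = 0 ∨ j % f = 1)) := by
    intro h5
    obtain ⟨l, hl, hodd, hlq, hbig⟩ := exists_big_prime_power h5 hq4
    have h := O.data.exists_side O.finrank M O.le_iso O.det hl hodd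
      (by rw [O.data_q]; exact hlq) (by rw [O.data_q]; exact hbig) (by rw [O.data_q]; exact hdiv)
    rwa [O.data_q] at h
  refine ⟨h1, fun om hom => O.th_norm hτ hns hpp hq4 hcard (fun h5 => ?_) hom, fun h5 => ?_⟩
  · obtain ⟨f, hf, hfq, hc, -⟩ := hside h5
    exact ⟨f, hf, hfq, hc⟩
  · have h5' : q % 5 = 4 := by
      rw [dd] at h5
      split_ifs at h5 with h <;> omega
    obtain ⟨f, hf, hfq, -, hp⟩ := hside h5'
    exact ⟨f, by omega, hfq, hp⟩

end UOver

end CfsgLib.MaxSub.SU5Quintic
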