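/-
Quintic normalisers in `SU(5, q)`, from the transitivity theorem.
-/
import Cfsg.Agent.Lib.MaxSub.SU5Quintic.UBridge
import Cfsg.Agent.Lib.MaxSub.SU5Quintic.UInputs
import Cfsg.Agent.Lib.MaxSub.SU5Quintic.UFour
import Cfsg.Agent.Lib.MaxSub.SU5Quintic.Transitive

set_option autoImplicit false
set_option linter.unusedSectionVars false
set_option linter.style.haveILetI false

namespace CfsgLib.MaxSub.SU5Quintic

open Cfsg CfsgLib.CharTheory

universe u

/-- What the orbit argument provides. -/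
def OrbitTheorem : Prop :=
  ∀ {F : Type u} [Field F] [Fintype F] {V : Type u} [AddCommGroup V] [Module F V] (D : Data F V) [Fintype V],
    Module.finrank F V = 5 → 3 ≤ D.q → ∀ (M : Subgroup (V ≃ₗ[F] V)) [Fintype M], M ≤ D.iso →
    (∀ g ∈ M, LinearMap.det (g : V →ₗ[F] V) = 1) → ∀ d mb : ℕ, (d = 1 ∨ d = 5) →
    (d = 5 → D.q % 5 = 4 ∧ D.q ≠ 4) → torOrder D.q = d * mb →
    classInner (fun g : M => D.theta 1 (g : V ≃ₗ[F] V)) (fun g : M => D.theta 1 (g : V ≃ₗ[F] V)) = 1 →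
    (∀ om : D.circ →* ℂˣ, om ≠ 1 →
      classInner (fun g : M => D.theta om (g : V ≃ₗ[F] V)) (fun g : M => D.theta om (g : V ≃ₗ[F] V)) = 1 ∨
      (classInner (fun g : M => D.theta om (g : V ≃ₗ[F] V)) (fun g : M => D.theta om (g : V ≃ₗ[F] V)) = 2 ∧
        ∃ eta : M →* ℂˣ, classInner (fun g : M => D.theta om (g : V ≃ₗ[F] V)) (fun g : M => (eta g : ℂ)) = 1)) →
    (∀ S : Set V, Data.IsPointSet M S → (0 : V) ∉ S → mb * (D.q ^ 2 - 1) ∣ Nat.card S) →
    (d = 5 → ∃ f, 13 ≤ f ∧ f ∣ D.q ^ 2 + 1 ∧ ∀ S : Set V, Data.IsPointSet M S → (0 : V) ∉ S →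
      (∀ v ∈ S, D.nrm v ≠ 0) → ∃ j, Nat.card S = (D.q ^ 2 - 1) * j ∧ (j % f = 0 ∨ j % f = 1)) →
    (∀ v w, D.nrm v = D.nrm w → D.nrm v ≠ 0 → ∃ g ∈ M, ∃ c : F, g v = c • w) ∧
      (∀ u w, u ≠ 0 → w ≠ 0 → D.nrm u = 0 → D.nrm w = 0 → ∃ g ∈ M, ∃ c : F, g u = c • w)

open Classical in
/-- An overgroup that is not semilinear is everything. -/
theorem UOver.main (hT : OrbitTheorem.{u}) {F : Type u} [Field F] [Fintype F] {q : ℕ} {L : Type u} [Field L]
    [Fintype L] [Algebra F L] (M : Subgroup (L ≃ₗ[F] L)) (O : UOver q M)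
    (hns : ∃ g ∈ M, ¬ CfsgLib.SingerFive.IsSemi g) (hcard : Nat.card M ∣ suOrder q) :
    Nat.card M = suOrder q ∨ ∀ g ∈ O.data.iso, LinearMap.det (g : L →ₗ[F] L) = 1 → g ∈ M := by
  haveI : FiniteDimensional F L := CfsgLib.SingerFive.finiteDim
  letI : Fintype M := Fintype.ofFinite _
  obtain ⟨τ, hτ⟩ : ∃ τ : L ≃ₐ[F] L, τ ≠ 1 := by
    by_contra hall
    push Not at hall
    have h1 := CfsgLib.SingerFive.card_aut (F := F) (L := L) O.finrank
    haveI : Subsingleton (L ≃ₐ[F] L) := ⟨fun a b => by rw [hall a, hall b]⟩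
    rw [Nat.card_of_subsingleton (1 : L ≃ₐ[F] L)] at h1
    norm_num at h1
  by_cases hq4 : q = 4
  · subst hq4
    letI : Fintype O.tM := Fintype.ofFinite _
    exact Or.inl (O.card_four hτ hns hcard)
  right
  obtain ⟨h1, h2, h3⟩ := O.orbit_inputs hτ hns hq4 hcard
  have hdd : dd q = 1 ∨ dd q = 5 := by rw [dd]; split_ifs <;> simp
  have hd5 : dd q = 5 → O.data.q % 5 = 4 ∧ O.data.q ≠ 4 := by
    intro h
    rw [O.data_q]
    rw [dd] at h
    split_ifs at h with hm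
    · exact ⟨hm, hq4⟩
    · omega
  obtain ⟨hani, hiso⟩ := hT O.data O.finrank (by rw [O.data_q]; exact O.three_le) M O.le_iso O.det (dd q)
    (Nat.card O.tor) hdd hd5 (by rw [O.data_q]; exact O.card_tor) h1 h2
    (fun S hS hS0 => by rw [O.data_q]; exact O.pts_dvd S hS hS0)
    (fun h => by rw [O.data_q]; exact h3 h)
  exact O.data.eq_special_of_transitive O.finrank (by rw [O.data_q]; exact O.three_le) M O.le_iso O.det hani hiso

end CfsgLib.MaxSub.SU5Quintic
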